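import Mathlib.Algebra.Category.Grp.Abelian
import Mathlib.Algebra.Homology.QuasiIso
import Mathlib.Algebra.Homology.Homotopy
import Mathlib.Algebra.Homology.ShortComplex.Ab
import Mathlib.AlgebraicTopology.AlternatingFaceMapComplex
import Mathlib.AlgebraicTopology.DoldKan.HomotopyEquivalence

/-!
Homology of complexes of abelian groups, elementwise; normalized representatives.
-/

set_option autoImplicit false

universe u

open CategoryTheory CategoryTheory.Limits Opposite Simplicial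

namespace Groth.CatFib.AbHom

variable {K L : ChainComplex AddCommGrpCat.{u} ℕ}

/-- `x` is a cycle. -/
def Cyc (K : ChainComplex AddCommGrpCat.{u} ℕ) (n : ℕ) (x : K.X n) : Prop := ∀ m, K.d n m x = 0

/-- `x` is a boundary. -/
def Bd (K : ChainComplex AddCommGrpCat.{u} ℕ) (n : ℕ) (x : K.X n) : Prop := ∃ y, K.d (n + 1) n y = x

lemma iCycles_injective (n : ℕ) : Function.Injective (K.iCycles n) :=
  (AddCommGrpCat.mono_iff_injective _).1 inferInstance

lemma exists_cycle {n : ℕ} {x : K.X n} (h : Cyc K n x) : ∃ c : K.cycles n, K.iCycles n c = x :=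
  (ShortComplex.ab_exact_iff _).1 (ShortComplex.exact_of_f_is_kernel
    (ShortComplex.mk (K.iCycles n) (K.d n ((ComplexShape.down ℕ).next n)) (K.iCycles_d _ _))
    (K.cyclesIsKernel n _ rfl)) x (h _)

lemma cyc_iCycles {n : ℕ} (c : K.cycles n) : Cyc K n (K.iCycles n c) := fun m =>
  ConcreteCategory.congr_hom (K.iCycles_d n m) c

lemma homologyπ_eq_zero_iff {n : ℕ} (c : K.cycles n) :
    K.homologyπ n c = 0 ↔ Bd K n (K.iCycles n c) := by
  constructor
  · intro h
    obtain ⟨y, hy⟩ := (ShortComplex.ab_exact_iff _).1 (ShortComplex.exact_of_g_is_cokernel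
      (ShortComplex.mk (K.toCycles (n + 1) n) (K.homologyπ n) (K.toCycles_comp_homologyπ _ _))
      (K.homologyIsCokernel (n + 1) n (ChainComplex.prev ℕ n))) c h
    exact ⟨y, (ConcreteCategory.congr_hom (K.toCycles_i (n + 1) n) y).symm.trans (congrArg (K.iCycles n) hy)⟩
  · rintro ⟨y, hy⟩
    have e : K.toCycles (n + 1) n y = c := iCycles_injective n
      ((ConcreteCategory.congr_hom (K.toCycles_i (n + 1) n) y).trans hy)
    rw [← e]
    exact ConcreteCategory.congr_hom (K.toCycles_comp_homologyπ (n + 1) n) y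

lemma cyclesMap_apply (φ : K ⟶ L) {n : ℕ} (c : K.cycles n) :
    L.iCycles n (HomologicalComplex.cyclesMap φ n c) = φ.f n (K.iCycles n c) :=
  ConcreteCategory.congr_hom (HomologicalComplex.cyclesMap_i φ n) c

lemma homologyMap_apply (φ : K ⟶ L) {n : ℕ} (c : K.cycles n) :
    HomologicalComplex.homologyMap φ n (K.homologyπ n c) = L.homologyπ n (HomologicalComplex.cyclesMap φ n c) :=
  ConcreteCategory.congr_hom (HomologicalComplex.homologyπ_naturality φ n) c

lemma quasiIso_of_elements (φ : K ⟶ L)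
    (inj : ∀ n x, Cyc K n x → Bd L n (φ.f n x) → Bd K n x)
    (surj : ∀ n y, Cyc L n y → ∃ x, Cyc K n x ∧ Bd L n (φ.f n x - y)) : QuasiIso φ := by
  refine ⟨fun n => ?_⟩
  rw [quasiIsoAt_iff_isIso_homologyMap, ConcreteCategory.isIso_iff_bijective]
  constructor
  · rw [injective_iff_map_eq_zero]
    intro a ha
    obtain ⟨c, rfl⟩ := (AddCommGrpCat.epi_iff_surjective (K.homologyπ n)).1 inferInstance a
    rw [homologyMap_apply, homologyπ_eq_zero_iff, cyclesMap_apply] at ha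
    exact (homologyπ_eq_zero_iff c).2 (inj n _ (cyc_iCycles c) ha)
  · intro b
    obtain ⟨c, rfl⟩ := (AddCommGrpCat.epi_iff_surjective (L.homologyπ n)).1 inferInstance b
    obtain ⟨x, hx, hd⟩ := surj n _ (cyc_iCycles c)
    obtain ⟨c', rfl⟩ := exists_cycle hx
    refine ⟨K.homologyπ n c', ?_⟩
    rw [homologyMap_apply, ← sub_eq_zero, ← map_sub, homologyπ_eq_zero_iff, map_sub, cyclesMap_apply]
    exact hd

lemma cyc_map (φ : K ⟶ L) {n : ℕ} {x : K.X n} (h : Cyc K n x) : Cyc L n (φ.f n x) := fun m => by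
  rw [← ConcreteCategory.comp_apply, φ.comm, ConcreteCategory.comp_apply, h m, map_zero]

lemma bd_map (φ : K ⟶ L) {n : ℕ} {x : K.X n} (h : Bd K n x) : Bd L n (φ.f n x) := by
  obtain ⟨y, rfl⟩ := h
  refine ⟨φ.f (n + 1) y, ?_⟩
  rw [← ConcreteCategory.comp_apply, φ.comm, ConcreteCategory.comp_apply]

lemma bd_zero (n : ℕ) : Bd K n 0 := ⟨0, map_zero _⟩

lemma bd_add {n : ℕ} {x y : K.X n} (hx : Bd K n x) (hy : Bd K n y) : Bd K n (x + y) := by
  obtain ⟨a, rfl⟩ := hx
  obtain ⟨b, rfl⟩ := hy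
  exact ⟨a + b, map_add _ _ _⟩

lemma bd_neg {n : ℕ} {x : K.X n} (hx : Bd K n x) : Bd K n (-x) := by
  obtain ⟨a, rfl⟩ := hx
  exact ⟨-a, map_neg _ _⟩

lemma bd_sub {n : ℕ} {x y : K.X n} (hx : Bd K n x) (hy : Bd K n y) : Bd K n (x - y) := by
  rw [sub_eq_add_neg]
  exact bd_add hx (bd_neg hy)

lemma homotopy_bd {φ ψ : K ⟶ L} (h : Homotopy φ ψ) {n : ℕ} {z : K.X n} (hz : Cyc K n z) :
    Bd L n (φ.f n z - ψ.f n z) := by
  have e := ConcreteCategory.congr_hom (h.comm n) z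
  have e' : φ.f n z = (dNext n h.hom) z + (prevD n h.hom) z + ψ.f n z := e
  have e₁ : (dNext n h.hom) z = 0 := by
    change h.hom ((ComplexShape.down ℕ).next n) n (K.d n _ z) = 0
    rw [hz, map_zero]
  rw [e', e₁, zero_add, add_sub_cancel_right, prevD_eq h.hom (j' := n + 1) (by simp)]
  exact ⟨h.hom n (n + 1) z, rfl⟩

lemma inj_of_quasiIso (φ : K ⟶ L) [QuasiIso φ] {n : ℕ} {x : K.X n} (hx : Cyc K n x)
    (h : Bd L n (φ.f n x)) : Bd K n x := by
  obtain ⟨c, rfl⟩ := exists_cycle hx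
  rw [← homologyπ_eq_zero_iff]
  apply (ConcreteCategory.bijective_of_isIso (HomologicalComplex.homologyMap φ n)).1
  rw [map_zero, homologyMap_apply, homologyπ_eq_zero_iff, cyclesMap_apply]
  exact h

lemma surj_of_quasiIso (φ : K ⟶ L) [QuasiIso φ] {n : ℕ} {y : L.X n} (hy : Cyc L n y) :
    ∃ x, Cyc K n x ∧ Bd L n (φ.f n x - y) := by
  obtain ⟨c, rfl⟩ := exists_cycle hy
  obtain ⟨a, ha⟩ := (ConcreteCategory.bijective_of_isIso (HomologicalComplex.homologyMap φ n)).2 (L.homologyπ n c)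
  obtain ⟨c', rfl⟩ := (AddCommGrpCat.epi_iff_surjective (K.homologyπ n)).1 inferInstance a
  refine ⟨_, cyc_iCycles c', ?_⟩
  rw [← cyclesMap_apply, ← map_sub, ← homologyπ_eq_zero_iff, map_sub, ← homologyMap_apply, ha, sub_self]

open AlgebraicTopology AlgebraicTopology.DoldKan

/-- The higher faces of `x` vanish. -/
def Nrm (X : SimplicialObject AddCommGrpCat.{u}) : (n : ℕ) → X.obj (op ⦋n⦌) → Prop
  | 0, _ => True
  | n + 1, x => ∀ k : Fin (n + 1), X.δ k.succ x = 0

lemma d_eq_sum (X : SimplicialObject AddCommGrpCat.{u}) (n : ℕ) (x : X.obj (op ⦋n + 1⦌)) :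
    ((alternatingFaceMapComplex _).obj X).d (n + 1) n x = ∑ i : Fin (n + 2), (-1 : ℤ) ^ (i : ℕ) • X.δ i x := by
  have e : ((alternatingFaceMapComplex _).obj X).d (n + 1) n = AlternatingFaceMapComplex.objD X n :=
    AlternatingFaceMapComplex.obj_d_eq X n
  rw [e]
  refine (map_sum (({ toFun := fun φ => φ x, map_zero' := rfl, map_add' := fun _ _ => rfl } :
    (X.obj (op ⦋n + 1⦌) ⟶ X.obj (op ⦋n⦌)) →+ X.obj (op ⦋n⦌))) _ _).trans ?_
  rfl

lemma d_of_nrm {X : SimplicialObject AddCommGrpCat.{u}} {n : ℕ} {x : X.obj (op ⦋n + 1⦌)} (h : Nrm X (n + 1) x) :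
    ((alternatingFaceMapComplex _).obj X).d (n + 1) n x = X.δ 0 x := by
  rw [d_eq_sum, Fin.sum_univ_succ, Finset.sum_eq_zero (fun k _ => by rw [h k, smul_zero]), add_zero]
  simp

lemma nrm_PInfty (X : SimplicialObject AddCommGrpCat.{u}) (n : ℕ) (x : X.obj (op ⦋n⦌)) :
    Nrm X n ((PInfty.f n : X.obj (op ⦋n⦌) ⟶ X.obj (op ⦋n⦌)) x) := by
  obtain _ | n := n
  · trivial
  intro k
  rw [PInfty_f, ← ConcreteCategory.comp_apply,
    (HigherFacesVanish.of_P (n + 1) n).comp_δ_eq_zero k.succ (Fin.succ_ne_zero k) (by simp; omega)]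
  rfl

lemma PInfty_eq_self {X : SimplicialObject AddCommGrpCat.{u}} {n : ℕ} {x : X.obj (op ⦋n⦌)} (h : Nrm X n x) :
    (PInfty.f n : X.obj (op ⦋n⦌) ⟶ X.obj (op ⦋n⦌)) x = x := by
  obtain _ | m := n
  · rfl
  let φ : AddCommGrpCat.of (ULift.{u} ℤ) ⟶ X.obj (op ⦋m + 1⦌) :=
    AddCommGrpCat.ofHom ((zmultiplesHom _ x).comp AddEquiv.ulift.toAddMonoidHom)
  have hφ : HigherFacesVanish (m + 1) φ := fun j _ => by
    ext z
    change X.δ j.succ (z.down • x) = 0
    rw [map_zsmul, h j, smul_zero]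
  have e := ConcreteCategory.congr_hom hφ.comp_P_eq_self (ULift.up (1 : ℤ))
  have one : φ (ULift.up (1 : ℤ)) = x := one_zsmul x
  rw [ConcreteCategory.comp_apply, one] at e
  exact e

lemma cyc_of_faces {X : SimplicialObject AddCommGrpCat.{u}} {n : ℕ} {x : X.obj (op ⦋n + 1⦌)}
    (h : ∀ i : Fin (n + 2), X.δ i x = 0) : Cyc ((alternatingFaceMapComplex _).obj X) (n + 1) x := by
  intro m
  by_cases hm : (ComplexShape.down ℕ).Rel (n + 1) m
  · obtain rfl : m = n := Nat.succ_injective hm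
    rw [d_eq_sum, Finset.sum_eq_zero (fun i _ => by rw [h i, smul_zero])]
  · rw [HomologicalComplex.shape _ _ _ hm]
    rfl

end Groth.CatFib.AbHom
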