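import Groth.Prelude.Def_FibCat2

/-!
# Basic facts on categories fibred in groupoids / sets
-/

open CategoryTheory CategoryTheory.Functor

universe v₂ u₂ v u

namespace Groth.CatFib

variable {C : Type u} [Category.{v} C] {𝒳 : Type u₂} [Category.{v₂} 𝒳] {p : 𝒳 ⥤ C}

/-- In a category fibred in groupoids every morphism is strongly cartesian over whatever it lifts. -/
lemma stronglyCartesian_of_isHomLift (hp : FibCat.IsFibGrpd p) {R S : C} {a b : 𝒳} (f : R ⟶ S)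
    (φ : a ⟶ b) [p.IsHomLift f φ] : p.IsStronglyCartesian f φ := by
  subst_hom_lift p f φ
  exact hp.isStronglyCartesian φ

lemma exists_lift (hp : FibCat.IsFibGrpd p) {x : 𝒳} {R S : C} (hx : p.obj x = S) (f : R ⟶ S) :
    ∃ (y : 𝒳) (φ : y ⟶ x), p.IsHomLift f φ := by
  subst hx; exact hp.exists_lift f

lemma isFibered_of_isFibGrpd (hp : FibCat.IsFibGrpd p) : p.IsFibered :=
  Functor.IsFibered.of_exists_isStronglyCartesian fun a R f => by
    obtain ⟨b, φ, hφ⟩ := hp.exists_lift f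
    exact ⟨b, φ, stronglyCartesian_of_isHomLift hp f φ⟩

lemma isIso_of_isHomLift_isIso (hp : FibCat.IsFibGrpd p) {R S : C} {a b : 𝒳} (f : R ⟶ S)
    (φ : a ⟶ b) [p.IsHomLift f φ] [IsIso f] : IsIso φ :=
  have := stronglyCartesian_of_isHomLift hp f φ
  IsStronglyCartesian.isIso_of_base_isIso p f φ

lemma isIso_of_isHomLift_id (hp : FibCat.IsFibGrpd p) {R : C} {a b : 𝒳}
    (φ : a ⟶ b) [p.IsHomLift (𝟙 R) φ] : IsIso φ :=
  isIso_of_isHomLift_isIso hp (𝟙 R) φ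

/-- A morphism of a fibre category is an isomorphism as soon as it is one in the total category. -/
lemma fiber_isIso {U : C} {a b : p.Fiber U} (φ : a ⟶ b) [IsIso φ.1] : IsIso φ := by
  have : p.IsHomLift (𝟙 U) φ.1 := φ.2
  exact ⟨⟨⟨inv φ.1, inferInstance⟩, Subtype.ext (IsIso.hom_inv_id _), Subtype.ext (IsIso.inv_hom_id _)⟩⟩

lemma isGroupoid_fiber (hp : FibCat.IsFibGrpd p) (U : C) : IsGroupoid (p.Fiber U) :=
  ⟨fun {a b} φ => by
    have : p.IsHomLift (𝟙 U) φ.1 := φ.2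
    have := isIso_of_isHomLift_id (R := U) hp φ.1
    exact fiber_isIso φ⟩

/-- An isomorphism of the total category lying over an identity gives one of the fibre. -/
def fiberIsoMk {U : C} {a b : p.Fiber U} (e : a.1 ≅ b.1) (h : p.IsHomLift (𝟙 U) e.hom) : a ≅ b where
  hom := ⟨e.hom, h⟩
  inv := ⟨e.inv, inferInstance⟩
  hom_inv_id := Subtype.ext e.hom_inv_id
  inv_hom_id := Subtype.ext e.inv_hom_id

/-- A fibred category with groupoid fibres is fibred in groupoids. -/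
lemma isFibGrpd_of_isFibered [p.IsFibered] (hg : ∀ U : C, IsGroupoid (p.Fiber U)) :
    FibCat.IsFibGrpd p where
  exists_lift {x V} f :=
    ⟨_, IsPreFibered.pullbackMap rfl f,
      @IsCartesian.toIsHomLift _ _ _ _ p _ _ _ _ f _ (inferInstance : p.IsCartesian f _)⟩
  isStronglyCartesian {y x} φ := by
    let ψ := IsPreFibered.pullbackMap (p := p) (rfl : p.obj x = p.obj x) (p.map φ)
    let χ := IsCartesian.map p (p.map φ) ψ φ
    let Y : p.Fiber (p.obj y) := ⟨y, rfl⟩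
    let Y' : p.Fiber (p.obj y) :=
      ⟨IsPreFibered.pullbackObj (p := p) (rfl : p.obj x = p.obj x) (p.map φ), IsPreFibered.pullbackObj_proj _ _⟩
    let χ' : Y ⟶ Y' := ⟨χ, inferInstance⟩
    have := hg (p.obj y)
    have hχ : IsIso χ := by
      have : IsIso (Fiber.fiberInclusion.map χ') := inferInstance
      exact this
    have : p.IsStronglyCartesian (𝟙 (p.obj y)) χ := inferInstance
    have := (inferInstance : p.IsStronglyCartesian (𝟙 (p.obj y) ≫ p.map φ) (χ ≫ ψ))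
    rw [Category.id_comp, IsCartesian.fac] at this
    exact this

lemma isFibGrpd_iff : FibCat.IsFibGrpd p ↔ (p.IsFibered ∧ ∀ U : C, IsGroupoid (p.Fiber U)) :=
  ⟨fun h => ⟨isFibered_of_isFibGrpd h, isGroupoid_fiber h⟩, fun ⟨_, h⟩ => isFibGrpd_of_isFibered h⟩

/-- Two cartesian morphisms over the same map with the same target, in a category with discrete
fibres, are equal (as pairs source/morphism). -/
lemma sigma_eq_of_isDiscrete {U S : C} (hd : IsDiscrete (p.Fiber U)) {η ξ ξ' : 𝒳} (f : U ⟶ S)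
    (φ : ξ ⟶ η) (φ' : ξ' ⟶ η) [p.IsCartesian f φ] [p.IsHomLift f φ'] :
    (⟨ξ', φ'⟩ : Σ ξ : 𝒳, (ξ ⟶ η)) = ⟨ξ, φ⟩ := by
  let A : p.Fiber U := ⟨ξ', IsHomLift.domain_eq p f φ'⟩
  let B : p.Fiber U := ⟨ξ, IsHomLift.domain_eq p f φ⟩
  let χ : A ⟶ B := ⟨IsCartesian.map p f φ φ', inferInstance⟩
  obtain rfl : ξ' = ξ := congrArg Subtype.val (hd.eq_of_hom χ)
  have h : χ = 𝟙 A := (hd.subsingleton A A).elim _ _
  have h' : IsCartesian.map p f φ φ' = 𝟙 ξ' := congrArg Subtype.val h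
  have : φ' = φ := by rw [← IsCartesian.fac p f φ φ', h', Category.id_comp]
  subst this; rfl

lemma isFibSet_iff_existsUnique_lift :
    FibCat.IsFibSet p ↔
      ∀ (η : 𝒳) (U : C) (f : U ⟶ p.obj η), ∃! φ : (Σ ξ : 𝒳, (ξ ⟶ η)), p.IsHomLift f φ.2 := by
  constructor
  · rintro ⟨hg, hd⟩ η U f
    obtain ⟨ξ, φ, hφ⟩ := hg.exists_lift f
    have := stronglyCartesian_of_isHomLift hg f φ
    refine ⟨⟨ξ, φ⟩, hφ, ?_⟩
    rintro ⟨ξ', φ'⟩ hφ'
    have : p.IsHomLift f φ' := hφ'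
    exact sigma_eq_of_isDiscrete (hd U) f φ φ'
  · intro h
    have huniq : ∀ {η ξ ξ' : 𝒳} {R S : C} (f : R ⟶ S) (φ : ξ ⟶ η) (φ' : ξ' ⟶ η),
        p.IsHomLift f φ → p.IsHomLift f φ' → (⟨ξ, φ⟩ : Σ ξ : 𝒳, (ξ ⟶ η)) = ⟨ξ', φ'⟩ := by
      intro η ξ ξ' R S f φ φ' hφ hφ'
      obtain rfl : p.obj η = S := IsHomLift.codomain_eq p f φ
      exact (h η R f).unique hφ hφ'
    refine ⟨⟨?_, ?_⟩, ?_⟩
    · intro x V f
      obtain ⟨⟨y, φ⟩, hφ, -⟩ := h x V f
      exact ⟨y, φ, hφ⟩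
    · intro y x φ
      refine { universal_property' := fun {z} g ψ hψ => ?_ }
      obtain ⟨⟨z', χ⟩, hχ, -⟩ := h y _ g
      have : p.IsHomLift g χ := hχ
      have e := huniq (g ≫ p.map φ) (χ ≫ φ) ψ inferInstance hψ
      obtain rfl : z' = z := congrArg Sigma.fst e
      refine ⟨χ, ⟨hχ, eq_of_heq (Sigma.mk.inj_iff.1 e).2⟩, ?_⟩
      rintro χ' ⟨hχ', -⟩
      exact eq_of_heq (Sigma.mk.inj_iff.1 (huniq g χ' χ hχ' hχ)).2
    · intro U
      refine { subsingleton := fun A B => ⟨fun f g => ?_⟩, eq_of_hom := fun {A B} f => ?_ }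
      · exact Subtype.ext (eq_of_heq (Sigma.mk.inj_iff.1 (huniq (𝟙 U) f.1 g.1 f.2 g.2)).2)
      · exact Subtype.ext (congrArg Sigma.fst (huniq (𝟙 U) f.1 (𝟙 B.1) f.2 (IsHomLift.id B.2)))

end Groth.CatFib
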