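import Groth.Agent.CategoryFibred.Basic
import Groth.Prelude.Def_FibClv

/-!
# Cleavages: comparison morphisms, inverse images
-/

open CategoryTheory CategoryTheory.Functor

set_option backward.isDefEq.respectTransparency false
set_option backward.isDefEq.respectTransparency.types false

universe v₂ u₂ v u

namespace Groth.CatFib

variable {𝒮 : Type u} [Category.{v} 𝒮] {𝒳 : Type u₂} [Category.{v₂} 𝒳] {p : 𝒳 ⥤ 𝒮} (K : FibCat.Cleavage p)

@[reassoc (attr := simp)]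
lemma inverseImage_map_lift {R S : 𝒮} (f : R ⟶ S) {a b : p.Fiber S} (φ : a ⟶ b) :
    Fiber.fiberInclusion.map ((K.inverseImage f).map φ) ≫ K.lift b.2 f =
      K.lift a.2 f ≫ Fiber.fiberInclusion.map φ := by
  simp

@[reassoc (attr := simp)]
lemma comp_app_lift {R S T : 𝒮} (f : T ⟶ S) (g : R ⟶ T) (a : p.Fiber S) :
    Fiber.fiberInclusion.map ((K.comp f g).app a) ≫ K.lift a.2 (g ≫ f) =
      K.lift (K.obj_proj a.2 f) g ≫ K.lift a.2 f := by
  simp

@[reassoc (attr := simp)]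
lemma congr_hom_lift {R S : 𝒮} {f f' : R ⟶ S} (h : f = f') (a : p.Fiber S) :
    Fiber.fiberInclusion.map ((K.inverseImageCongr h).hom.app a) ≫ K.lift a.2 f' = K.lift a.2 f := by
  subst h
  simp [FibCat.Cleavage.inverseImageCongr]

lemma fiber_hom_ext_lift {R S : 𝒮} (f : R ⟶ S) {a : p.Fiber S} {b : p.Fiber R}
    {φ ψ : b ⟶ (K.inverseImage f).obj a}
    (h : Fiber.fiberInclusion.map φ ≫ K.lift a.2 f = Fiber.fiberInclusion.map ψ ≫ K.lift a.2 f) :
    φ = ψ := by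
  apply Fiber.hom_ext
  have := φ.2
  have := ψ.2
  exact IsCartesian.ext p f (K.lift a.2 f) _ _ h

lemma isIso_comp_of_isFibered [p.IsFibered] {R S T : 𝒮} (f : T ⟶ S) (g : R ⟶ T) :
    IsIso (K.comp f g) := by
  have : ∀ a, IsIso ((K.comp f g).app a) := by
    intro a
    let l : K.obj (K.obj_proj a.2 f) g ⟶ a.1 := K.lift (K.obj_proj a.2 f) g ≫ K.lift a.2 f
    have : p.IsCartesian (g ≫ f) l := IsFibered.comp g f _ _
    have : IsIso ((K.comp f g).app a).1 :=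
      (IsCartesian.domainUniqueUpToIso p (g ≫ f) (K.lift a.2 (g ≫ f)) l).isIso_hom
    exact fiber_isIso _
  exact NatIso.isIso_of_isIso_app _

/-- A cartesian morphism is a chosen lift up to a vertical isomorphism. -/
lemma exists_iso_lift {R S : 𝒮} {b a : 𝒳} (ha : p.obj a = S) (f : R ⟶ S) (φ : b ⟶ a)
    [p.IsCartesian f φ] : ∃ i : b ≅ K.obj ha f, p.IsHomLift (𝟙 R) i.hom ∧ i.hom ≫ K.lift ha f = φ :=
  ⟨IsCartesian.domainUniqueUpToIso p f (K.lift ha f) φ, inferInstance, IsCartesian.fac p f (K.lift ha f) φ⟩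

lemma isFibered_of_isIso_comp (h : ∀ (R S T : 𝒮) (f : T ⟶ S) (g : R ⟶ T), IsIso (K.comp f g)) :
    p.IsFibered := by
  have := K.isPreFibered
  refine { comp := fun {R T S} g f {c b a} φ ψ _ _ => ?_ }
  have ha : p.obj a = S := IsHomLift.codomain_eq p f ψ
  obtain ⟨i, hi, hψ⟩ := exists_iso_lift K ha f ψ
  have : p.IsCartesian g (φ ≫ i.hom) := IsCartesian.of_comp_iso p g φ i
  obtain ⟨j, hj, hφ⟩ := exists_iso_lift K (K.obj_proj ha f) g (φ ≫ i.hom)
  let A : p.Fiber S := ⟨a, ha⟩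
  have := h R S T f g
  let c' : K.obj (K.obj_proj A.2 f) g ≅ K.obj A.2 (g ≫ f) :=
    Fiber.fiberInclusion.mapIso ((asIso (K.comp f g)).app A)
  have hc : p.IsHomLift (𝟙 R) c'.hom := ((K.comp f g).app A).2
  have e : (j ≪≫ c').hom ≫ K.lift A.2 (g ≫ f) = φ ≫ ψ := by
    have e1 : c'.hom ≫ K.lift A.2 (g ≫ f) = K.lift (K.obj_proj A.2 f) g ≫ K.lift A.2 f :=
      comp_app_lift K f g A
    show (j.hom ≫ c'.hom) ≫ K.lift A.2 (g ≫ f) = φ ≫ ψ
    rw [Category.assoc, e1, ← Category.assoc, show j.hom ≫ K.lift (K.obj_proj A.2 f) g = φ ≫ i.hom from hφ,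
      Category.assoc, show i.hom ≫ K.lift A.2 f = ψ from hψ]
  have : p.IsHomLift (𝟙 R) (j ≪≫ c').hom := (inferInstance : p.IsHomLift (𝟙 R) (j.hom ≫ c'.hom))
  rw [← e]
  exact IsCartesian.of_iso_comp p (g ≫ f) (K.lift A.2 (g ≫ f)) (j ≪≫ c')

lemma isEquivalence_inverseImage [p.IsFibered] {S T : 𝒮} (f : T ⟶ S) [IsIso f] :
    (K.inverseImage f).IsEquivalence := by
  have hiso : ∀ a : p.Fiber S, IsIso (K.lift a.2 f) := fun a =>
    IsStronglyCartesian.isIso_of_base_isIso p f (K.lift a.2 f)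
  have h1 : (K.inverseImage f).Faithful := ⟨fun {a b} φ ψ h => by
    have := hiso a
    apply Fiber.hom_ext
    rw [← cancel_epi (K.lift a.2 f), ← inverseImage_map_lift, h, inverseImage_map_lift]⟩
  have h2 : (K.inverseImage f).Full := ⟨fun {a b} ψ => by
    have := hiso a
    have := ψ.2
    have hA : p.IsHomLift (inv f) (inv (K.lift a.2 f)) := IsHomLift.inv p f _
    let t : a.1 ⟶ b.1 := inv (K.lift a.2 f) ≫ ψ.1 ≫ K.lift b.2 f
    have hB : p.IsHomLift f (ψ.1 ≫ K.lift b.2 f) :=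
      IsHomLift.comp_lift_id_left' p T ψ.1 f (K.lift b.2 f)
    have ht : p.IsHomLift (inv f ≫ f) t :=
      @IsHomLift.comp _ _ _ _ p _ _ _ _ _ _ (inv f) f (inv (K.lift a.2 f)) (ψ.1 ≫ K.lift b.2 f) hA hB
    rw [IsIso.inv_hom_id] at ht
    refine ⟨⟨t, ht⟩, fiber_hom_ext_lift K f ?_⟩
    rw [inverseImage_map_lift]
    show K.lift a.2 f ≫ inv (K.lift a.2 f) ≫ ψ.1 ≫ K.lift b.2 f = ψ.1 ≫ K.lift b.2 f
    simp⟩
  have h3 : (K.inverseImage f).EssSurj := ⟨fun b => by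
    let a : p.Fiber S := ⟨K.obj b.2 (inv f), K.obj_proj b.2 (inv f)⟩
    have := hiso a
    have : IsIso (K.lift b.2 (inv f)) := IsStronglyCartesian.isIso_of_base_isIso p (inv f) _
    refine ⟨a, ⟨fiberIsoMk (asIso (K.lift a.2 f) ≪≫ asIso (K.lift b.2 (inv f))) ?_⟩⟩
    have h : p.IsHomLift (f ≫ inv f) (K.lift a.2 f ≫ K.lift b.2 (inv f)) :=
      IsHomLift.comp p f (inv f) _ _
    rw [IsIso.hom_inv_id] at h
    exact h⟩
  exact { }

end Groth.CatFib
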