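import Groth.Agent.CategoryFibred.Basic
import Mathlib.CategoryTheory.Comma.Over.Basic

/-!
# Composites of fibred functors; fibred over a category fibred in sets
-/

open CategoryTheory CategoryTheory.Functor

universe v₃ u₃ v₂ u₂ v u

namespace Groth.CatFib

variable {C : Type u} [Category.{v} C] {𝒢 : Type u₂} [Category.{v₂} 𝒢] {ℱ : Type u₃} [Category.{v₃} ℱ]
  {F : ℱ ⥤ 𝒢} {G : 𝒢 ⥤ C}

lemma isHomLift_comp_functor {R S : C} {a b : 𝒢} {x y : ℱ} (f : R ⟶ S) (g : a ⟶ b) (φ : x ⟶ y)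
    [F.IsHomLift g φ] [G.IsHomLift f g] : (F ⋙ G).IsHomLift f φ := by
  subst_hom_lift F g φ
  subst_hom_lift G f (F.map φ)
  exact IsHomLift.map (F ⋙ G) φ

lemma isHomLift_map_of_comp {R S : C} {x y : ℱ} (f : R ⟶ S) (φ : x ⟶ y)
    [(F ⋙ G).IsHomLift f φ] : G.IsHomLift f (F.map φ) := by
  subst_hom_lift (F ⋙ G) f φ
  exact IsHomLift.map G (F.map φ)

lemma isStronglyCartesian_comp {R S : C} {a b : 𝒢} {x y : ℱ} (f : R ⟶ S) (g : a ⟶ b) (φ : x ⟶ y)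
    [F.IsStronglyCartesian g φ] [G.IsStronglyCartesian f g] :
    (F ⋙ G).IsStronglyCartesian f φ := by
  subst_hom_lift F g φ
  subst_hom_lift G f (F.map φ)
  have hlift : (F ⋙ G).IsHomLift (G.map (F.map φ)) φ := IsHomLift.map (F ⋙ G) φ
  refine { universal_property' := fun {z} g ψ hψ => ?_ }
  have := isHomLift_map_of_comp (F := F) (G := G) (g ≫ G.map (F.map φ)) ψ
  obtain ⟨χ', ⟨hχ', hc'⟩, hu'⟩ := IsStronglyCartesian.universal_property G (G.map (F.map φ)) (F.map φ)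
    g _ rfl (F.map ψ)
  obtain ⟨χ, ⟨hχ, hc⟩, hu⟩ := IsStronglyCartesian.universal_property F (F.map φ) φ χ' (F.map ψ) hc'.symm ψ
  refine ⟨χ, ⟨isHomLift_comp_functor g χ' χ, hc⟩, ?_⟩
  rintro τ ⟨hτ, rfl⟩
  have e : F.map τ = χ' := hu' _ ⟨isHomLift_map_of_comp g τ, (F.map_comp _ _).symm⟩
  exact hu τ ⟨e ▸ IsHomLift.map F τ, rfl⟩

lemma isFibered_comp (F : ℱ ⥤ 𝒢) (G : 𝒢 ⥤ C) [F.IsFibered] [G.IsFibered] : (F ⋙ G).IsFibered :=
  Functor.IsFibered.of_exists_isStronglyCartesian fun a R f => by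
    obtain ⟨b', g, hg⟩ := IsPreFibered.exists_isCartesian G (rfl : G.obj (F.obj a) = _) f
    obtain ⟨b, φ, hφ⟩ := IsPreFibered.exists_isCartesian F (rfl : F.obj a = _) g
    exact ⟨b, φ, isStronglyCartesian_comp f g φ⟩

lemma isFibGrpd_comp (hF : FibCat.IsFibGrpd F) (hG : FibCat.IsFibGrpd G) :
    FibCat.IsFibGrpd (F ⋙ G) where
  exists_lift {x V} f := by
    obtain ⟨b', g, hg⟩ := hG.exists_lift f
    obtain ⟨b, φ, hφ⟩ := hF.exists_lift g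
    exact ⟨b, φ, isHomLift_comp_functor f g φ⟩
  isStronglyCartesian {y x} φ := by
    have := hF.isStronglyCartesian φ
    have : G.IsStronglyCartesian ((F ⋙ G).map φ) (F.map φ) := hG.isStronglyCartesian (F.map φ)
    exact isStronglyCartesian_comp _ (F.map φ) φ

/-- Two morphisms with the same target lying over the same map, in a category fibred in sets. -/
lemma sigma_eq (hG : FibCat.IsFibSet G) {R S : C} {η ξ ξ' : 𝒢} (f : R ⟶ S) (φ : ξ ⟶ η)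
    (φ' : ξ' ⟶ η) [G.IsHomLift f φ] [G.IsHomLift f φ'] :
    (⟨ξ', φ'⟩ : Σ ξ : 𝒢, (ξ ⟶ η)) = ⟨ξ, φ⟩ :=
  have := stronglyCartesian_of_isHomLift hG.1 f φ
  sigma_eq_of_isDiscrete (hG.2 R) f φ φ'

lemma hom_eq (hG : FibCat.IsFibSet G) {R S : C} {η ξ : 𝒢} (f : R ⟶ S) (φ φ' : ξ ⟶ η)
    [G.IsHomLift f φ] [G.IsHomLift f φ'] : φ' = φ :=
  eq_of_heq (Sigma.mk.inj_iff.1 (sigma_eq hG f φ φ')).2

lemma isStronglyCartesian_of_comp (hG : FibCat.IsFibSet G) {R S : C} {x y : ℱ} (f : R ⟶ S) (φ : x ⟶ y)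
    [(F ⋙ G).IsStronglyCartesian f φ] : F.IsStronglyCartesian (F.map φ) φ := by
  subst_hom_lift (F ⋙ G) f φ
  refine { universal_property' := fun {z} g ψ hψ => ?_ }
  have he : g ≫ F.map φ = F.map ψ := IsHomLift.eq_of_isHomLift F _ ψ
  have : (F ⋙ G).IsHomLift (G.map g ≫ (F ⋙ G).map φ) ψ := by
    rw [Functor.comp_map, ← G.map_comp, he]; exact IsHomLift.map (F ⋙ G) ψ
  obtain ⟨χ, ⟨hχ, hc⟩, hu⟩ := IsStronglyCartesian.universal_property (F ⋙ G) ((F ⋙ G).map φ) φ (G.map g)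
    _ rfl ψ
  have := isHomLift_map_of_comp (F := F) (G := G) (G.map g) χ
  have e : F.map χ = g := hom_eq hG (G.map g) g (F.map χ)
  refine ⟨χ, ⟨e ▸ IsHomLift.map F χ, hc⟩, ?_⟩
  rintro τ ⟨hτ, hτ'⟩
  exact hu τ ⟨isHomLift_comp_functor (G.map g) g τ, hτ'⟩

lemma isHomLift_of_comp (hG : FibCat.IsFibSet G) {η : 𝒢} {a b : ℱ} (g : η ⟶ F.obj a) (φ : b ⟶ a)
    [(F ⋙ G).IsHomLift (G.map g) φ] : F.IsHomLift g φ := by
  have := isHomLift_map_of_comp (F := F) (G := G) (G.map g) φ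
  have key : ∀ {η' : 𝒢} (h : η' ⟶ F.obj a), (⟨η', h⟩ : Σ ξ : 𝒢, (ξ ⟶ F.obj a)) = ⟨F.obj b, F.map φ⟩ →
      F.IsHomLift h φ := by
    intro η' h e
    cases e
    exact IsHomLift.map F φ
  exact key g (sigma_eq hG (G.map g) (F.map φ) g)

lemma stronglyCartesian_congr {R S : 𝒢} {x y : ℱ} (g : R ⟶ S) (φ : x ⟶ y) [F.IsHomLift g φ]
    (h : F.IsStronglyCartesian (F.map φ) φ) : F.IsStronglyCartesian g φ := by
  subst_hom_lift F g φ
  exact h

lemma isFibered_iff_comp (hG : FibCat.IsFibSet G) (F : ℱ ⥤ 𝒢) :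
    F.IsFibered ↔ (F ⋙ G).IsFibered := by
  have := isFibered_of_isFibGrpd hG.1
  refine ⟨fun _ => isFibered_comp F G, fun _ => ?_⟩
  refine Functor.IsFibered.of_exists_isStronglyCartesian fun a η g => ?_
  obtain ⟨b, φ, hφ⟩ := IsPreFibered.exists_isCartesian (F ⋙ G) (rfl : (F ⋙ G).obj a = _) (G.map g)
  have := isHomLift_of_comp hG g φ
  have := isStronglyCartesian_of_comp (F := F) hG (G.map g) φ
  exact ⟨b, φ, stronglyCartesian_congr g φ this⟩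

lemma isFibGrpd_iff_comp (hG : FibCat.IsFibSet G) (F : ℱ ⥤ 𝒢) :
    FibCat.IsFibGrpd F ↔ FibCat.IsFibGrpd (F ⋙ G) := by
  refine ⟨fun h => isFibGrpd_comp h hG.1, fun h => ⟨fun {a η} g => ?_, fun {y x} φ => ?_⟩⟩
  · obtain ⟨b, φ, hφ⟩ := h.exists_lift (x := a) (G.map g)
    exact ⟨b, φ, isHomLift_of_comp hG g φ⟩
  · have := h.isStronglyCartesian φ
    exact isStronglyCartesian_of_comp hG ((F ⋙ G).map φ) φ

lemma isFibSet_iff_comp (hG : FibCat.IsFibSet G) (F : ℱ ⥤ 𝒢) :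
    FibCat.IsFibSet F ↔ FibCat.IsFibSet (F ⋙ G) := by
  rw [isFibSet_iff_existsUnique_lift, isFibSet_iff_existsUnique_lift]
  constructor
  · intro h a R f
    obtain ⟨η, g, hg⟩ := hG.1.exists_lift (x := F.obj a) f
    obtain ⟨⟨b, φ⟩, hφ, hu⟩ := h a η g
    refine ⟨⟨b, φ⟩, ?_, ?_⟩
    · have : F.IsHomLift g φ := hφ
      exact isHomLift_comp_functor f g φ
    rintro ⟨b', φ'⟩ hφ'
    have : (F ⋙ G).IsHomLift f φ' := hφ'
    have := isHomLift_map_of_comp (F := F) (G := G) f φ'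
    have e := sigma_eq hG f g (F.map φ')
    obtain rfl : F.obj b' = η := congrArg Sigma.fst e
    obtain rfl : F.map φ' = g := eq_of_heq (Sigma.mk.inj_iff.1 e).2
    exact hu ⟨b', φ'⟩ (IsHomLift.map F φ')
  · intro h a η g
    obtain ⟨⟨b, φ⟩, hφ, hu⟩ := h a _ (G.map g)
    have : (F ⋙ G).IsHomLift (G.map g) φ := hφ
    refine ⟨⟨b, φ⟩, isHomLift_of_comp hG g φ, ?_⟩
    rintro ⟨b', φ'⟩ hφ'
    have : F.IsHomLift g φ' := hφ'
    exact hu ⟨b', φ'⟩ (isHomLift_comp_functor (G.map g) g φ')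

section Over

lemma isFibSet_overForget (U : C) : FibCat.IsFibSet (Over.forget U) := by
  rw [isFibSet_iff_existsUnique_lift]
  intro η R f
  refine ⟨⟨Over.mk (f ≫ η.hom), Over.homMk f⟩,
    (IsHomLift.map (Over.forget U) (Over.homMk f : Over.mk (f ≫ η.hom) ⟶ η) : _), ?_⟩
  rintro ⟨ξ, φ⟩ h
  have h' : (Over.forget U).IsHomLift f φ := h
  obtain rfl : (Over.forget U).obj ξ = R := IsHomLift.domain_eq (Over.forget U) f φ
  obtain rfl : f = φ.left := IsHomLift.eq_of_isHomLift (Over.forget U) f φ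
  have e : ξ = Over.mk (φ.left ≫ η.hom) := by rw [Over.w φ]; cases ξ; rfl
  have key : ∀ {ζ : Over U} (ψ : ζ ⟶ η) (hl : ξ = ζ), ψ.left = eqToHom (by rw [hl]) ≫ φ.left →
      (⟨ξ, φ⟩ : Σ ξ : Over U, (ξ ⟶ η)) = ⟨ζ, ψ⟩ := by
    intro ζ ψ hl hψ
    subst hl
    simp only [eqToHom_refl, Category.id_comp] at hψ
    rw [Over.OverMorphism.ext hψ]
  exact key _ e (Category.id_comp φ.left).symm

end Over

end Groth.CatFib
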