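import Groth.Prelude.Def_FibCat2
import Groth.Prelude.Def_W4c2modmodulilectNerve
import Groth.Agent.CategoryFibred.Basic
import Mathlib.CategoryTheory.Comma.StructuredArrow.Basic
import Mathlib.CategoryTheory.Category.ULift
import Mathlib.CategoryTheory.Adjunction.Basic

/-!
Categories with trivial fundamental groupoid, and extension of sections of a category fibred in groupoids along
a functor all of whose comma categories are of that kind.
-/

set_option autoImplicit false

universe w w₁ w₂ v₀ u₀ v₁ v₂ v₃ v₄ u₁ u₂ u₃ u₄ x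

open CategoryTheory W4c2modmodulilect

namespace Groth.CatFib.Contractible

variable {J : Type u₁} [Category.{v₁} J]

lemma exists_iso_const_of_groupoid (hJ : HasContractibleNerve.{w₁, w₂} J) {G : Type w₁} [Category.{w₂} G]
    [IsGroupoid G] (F : J ⥤ G) : ∃ a : G, Nonempty ((Functor.const J).obj a ≅ F) := by
  letI : Groupoid.{w₂} G := Groupoid.ofIsGroupoid
  have : (Functor.const J : G ⥤ J ⥤ G).IsEquivalence := hJ.2 G
  exact ⟨_, ⟨(Functor.const J).objObjPreimageIso F⟩⟩

/-- A functor into a groupoid of smaller size is isomorphic to a constant one. -/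
lemma exists_iso_const (hJ : HasContractibleNerve.{max u₀ v₀ w, max u₀ v₀ w} J) {G : Type u₀} [Category.{v₀} G]
    [IsGroupoid G] (F : J ⥤ G) : ∃ a : G, Nonempty ((Functor.const J).obj a ≅ F) := by
  let e : G ≌ AsSmall.{max u₀ v₀ w} G := AsSmall.equiv
  have : IsGroupoid (AsSmall.{max u₀ v₀ w} G) := ⟨fun {a b} f => isIso_of_reflects_iso f e.inverse⟩
  obtain ⟨a, ⟨i⟩⟩ := exists_iso_const_of_groupoid hJ (F ⋙ e.functor)
  exact ⟨e.inverse.obj a, ⟨(Functor.constComp J a e.inverse).symm ≪≫ Functor.isoWhiskerRight i e.inverse ≪≫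
    Functor.associator _ _ _ ≪≫ Functor.isoWhiskerLeft F e.unitIso.symm ≪≫ F.rightUnitor⟩⟩

/-- Such a category is connected: a function constant along arrows is constant. -/
lemma eq_of_const_on_arrows (hJ : HasContractibleNerve.{w, w} J) {X : Type x} (m : J → X)
    (h : ∀ j j' : J, (j ⟶ j') → m j = m j') (j j' : J) : m j = m j' := by
  let P : J → ULift.{w} Prop := fun i => ⟨m j = m i⟩
  have hP : ∀ i i' : J, (i ⟶ i') → P i = P i' := fun i i' f => congrArg (fun z => ULift.up (m j = z)) (h i i' f)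
  let F : J ⥤ Discrete (ULift.{w} Prop) :=
    { obj := fun i => ⟨P i⟩
      map := fun f => Discrete.eqToHom (hP _ _ f)
      map_id := fun _ => Subsingleton.elim _ _
      map_comp := fun _ _ => Subsingleton.elim _ _ }
  have : IsGroupoid (Discrete (ULift.{w} Prop)) :=
    ⟨fun f => ⟨⟨Discrete.eqToHom (Discrete.eq_of_hom f).symm, Subsingleton.elim _ _, Subsingleton.elim _ _⟩⟩⟩
  obtain ⟨a, ⟨i⟩⟩ := exists_iso_const_of_groupoid hJ F
  have e : P j = P j' := (Discrete.eq_of_hom (i.hom.app j)).symm.trans (Discrete.eq_of_hom (i.hom.app j'))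
  exact (congrArg ULift.down e).mp rfl

/-- The property passes along an adjunction. -/
lemma of_adjunction {K : Type u₂} [Category.{v₂} K] {L : J ⥤ K} {R : K ⥤ J} (adj : L ⊣ R)
    (hJ : HasContractibleNerve.{w₁, w₂} J) : HasContractibleNerve.{w₁, w₂} K := by
  refine ⟨hJ.1.map L.obj, fun G hG => ?_⟩
  have hR : ∀ F : K ⥤ G, IsIso (Functor.whiskerRight adj.counit F) := fun F => NatIso.isIso_of_isIso_app _
  have hL : ∀ F : J ⥤ G, IsIso (Functor.whiskerRight adj.unit F) := fun F => NatIso.isIso_of_isIso_app _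
  let η : 𝟭 (K ⥤ G) ≅ (Functor.whiskeringLeft J K G).obj L ⋙ (Functor.whiskeringLeft K J G).obj R :=
    NatIso.ofComponents (fun F => ((Functor.associator R L F).symm ≪≫ @asIso _ _ _ _ _ (hR F) ≪≫ F.leftUnitor).symm)
      (fun {F F'} α => by ext k; simp)
  let ε : (Functor.whiskeringLeft K J G).obj R ⋙ (Functor.whiskeringLeft J K G).obj L ≅ 𝟭 (J ⥤ G) :=
    NatIso.ofComponents (fun F => (F.leftUnitor.symm ≪≫ @asIso _ _ _ _ _ (hL F) ≪≫ Functor.associator L R F).symm)
      (fun {F F'} α => by ext k; simp)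
  have : ((Functor.whiskeringLeft J K G).obj L).IsEquivalence :=
    (CategoryTheory.Equivalence.mk _ _ η ε).isEquivalence_functor
  let i : (Functor.const K : G ⥤ K ⥤ G) ⋙ (Functor.whiskeringLeft J K G).obj L ≅ Functor.const J :=
    NatIso.ofComponents (fun a => NatIso.ofComponents (fun _ => Iso.refl _) (by intros; simp))
      (by intros; ext; simp)
  have := hJ.2 G
  have := Functor.isEquivalence_of_iso i.symm
  exact Functor.isEquivalence_of_comp_right _ ((Functor.whiskeringLeft J K G).obj L)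

section Sections

variable {C : Type u₁} [Category.{v₁} C] {D : Type u₂} [Category.{v₂} D] {F : Type u₃} [Category.{v₃} F]
  {φ : C ⥤ D} {p : F ⥤ D} (hp : FibCat.IsFibGrpd p)
  (hφ : ∀ Y : D, HasContractibleNerve.{max u₁ u₂ u₃ v₁ v₂ v₃, max u₁ u₂ u₃ v₁ v₂ v₃} (StructuredArrow Y φ))
include hp

lemma cart_ext {R S R' : D} {a b a' : F} (f : R ⟶ S) (π : a ⟶ b) [p.IsHomLift f π] (g : R' ⟶ R) {ψ ψ' : a' ⟶ a}
    [p.IsHomLift g ψ] [p.IsHomLift g ψ'] (h : ψ ≫ π = ψ' ≫ π) : ψ = ψ' :=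
  have := stronglyCartesian_of_isHomLift hp f π
  Functor.IsStronglyCartesian.ext p f π g h

lemma cart_exists {R S R' : D} {a b a' : F} (f : R ⟶ S) (π : a ⟶ b) [p.IsHomLift f π] (g : R' ⟶ R)
    (ψ : a' ⟶ b) (hψ : p.IsHomLift (g ≫ f) ψ) : ∃ χ : a' ⟶ a, p.IsHomLift g χ ∧ χ ≫ π = ψ :=
  have := stronglyCartesian_of_isHomLift hp f π
  ⟨Functor.IsStronglyCartesian.map p f π (show g ≫ f = g ≫ f from rfl) ψ,
    Functor.IsStronglyCartesian.map_isHomLift p f π (show g ≫ f = g ≫ f from rfl) ψ,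
    Functor.IsStronglyCartesian.fac p f π (show g ≫ f = g ≫ f from rfl) ψ⟩

section Restrict

variable {s t : D ⥤ F} (hs : ∀ {Y Z : D} (b : Y ⟶ Z), p.IsHomLift b (s.map b))
  (ht : ∀ {Y Z : D} (b : Y ⟶ Z), p.IsHomLift b (t.map b))

include hφ ht in
lemma ext_of_restrict (α β : s ⟶ t) (hα : ∀ Y, p.IsHomLift (𝟙 Y) (α.app Y))
    (hβ : ∀ Y, p.IsHomLift (𝟙 Y) (β.app Y)) (h : ∀ c, α.app (φ.obj c) = β.app (φ.obj c)) : α = β := by
  refine NatTrans.ext (funext fun Y => ?_)
  obtain ⟨j⟩ := (hφ Y).1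
  have := hα Y
  have := hβ Y
  have := ht j.hom
  refine cart_ext hp j.hom (t.map j.hom) (𝟙 Y) ?_
  rw [← α.naturality, ← β.naturality, h]

include hφ hs ht in
lemma exists_extend (γ : φ ⋙ s ⟶ φ ⋙ t) (hγ : ∀ c, p.IsHomLift (𝟙 (φ.obj c)) (γ.app c)) :
    ∃ α : s ⟶ t, (∀ Y, p.IsHomLift (𝟙 Y) (α.app Y)) ∧ ∀ c, α.app (φ.obj c) = γ.app c := by
  have hex : ∀ (Y : D) (j : StructuredArrow Y φ), ∃ m : s.obj Y ⟶ t.obj Y,
      p.IsHomLift (𝟙 Y) m ∧ m ≫ t.map j.hom = s.map j.hom ≫ γ.app j.right := by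
    intro Y j
    have := hs j.hom
    have := ht j.hom
    have := hγ j.right
    exact cart_exists hp j.hom (t.map j.hom) (𝟙 Y) (s.map j.hom ≫ γ.app j.right) (by rw [Category.id_comp]; infer_instance)
  choose m hm hfac using hex
  have hconst : ∀ (Y : D) (j j' : StructuredArrow Y φ), m Y j = m Y j' := by
    intro Y
    refine eq_of_const_on_arrows (hφ Y) (m Y) fun j j' h => ?_
    have := hm Y j
    have := hm Y j'
    have := ht j'.hom
    refine cart_ext hp j'.hom (t.map j'.hom) (𝟙 Y) ?_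
    have nat : s.map (φ.map h.right) ≫ γ.app j'.right = γ.app j.right ≫ t.map (φ.map h.right) := γ.naturality h.right
    rw [hfac, ← StructuredArrow.w h, Functor.map_comp, Functor.map_comp, reassoc_of% (hfac Y j), Category.assoc, nat]
  have j₀ : ∀ Y, StructuredArrow Y φ := fun Y => Classical.choice (hφ Y).1
  refine ⟨{ app := fun Y => m Y (j₀ Y), naturality := fun Y Z b => ?_ }, fun Y => hm Y _, fun c => ?_⟩
  · have := hs b
    have := ht b
    have := hm Y (j₀ Y)
    have := hm Z (j₀ Z)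
    have := ht (j₀ Z).hom
    refine cart_ext hp (j₀ Z).hom (t.map (j₀ Z).hom) b ?_
    rw [Category.assoc, hfac, hconst Y (j₀ Y) (StructuredArrow.mk (b ≫ (j₀ Z).hom)), Category.assoc, ← t.map_comp]
    refine Eq.trans ?_ (hfac Y (StructuredArrow.mk (b ≫ (j₀ Z).hom))).symm
    change _ = s.map (b ≫ (j₀ Z).hom) ≫ γ.app (j₀ Z).right
    rw [s.map_comp, Category.assoc]
  · dsimp only
    rw [hconst _ (j₀ (φ.obj c)) (StructuredArrow.mk (𝟙 (φ.obj c)))]
    simpa using hfac (φ.obj c) (StructuredArrow.mk (𝟙 (φ.obj c)))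

end Restrict

include hφ in
lemma exists_section (G : C ⥤ F) (hG : ∀ {c c' : C} (h : c ⟶ c'), p.IsHomLift (φ.map h) (G.map h))
    (hG₀ : ∀ c, p.obj (G.obj c) = φ.obj c) :
    ∃ L : D ⥤ F, L ⋙ p = 𝟭 D ∧ ∃ θ : φ ⋙ L ≅ G, ∀ c, p.IsHomLift (𝟙 (φ.obj c)) (θ.hom.app c) := by
  have hobj : ∀ (Y : D) (j : StructuredArrow Y φ), ∃ (x : F) (l : x ⟶ G.obj j.right), p.IsHomLift j.hom l :=
    fun Y j => exists_lift hp (hG₀ j.right) j.hom
  choose X l hl using hobj
  have hmap : ∀ (Y : D) (j j' : StructuredArrow Y φ) (h : j ⟶ j'), ∃ χ : X Y j ⟶ X Y j',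
      p.IsHomLift (𝟙 Y) χ ∧ χ ≫ l Y j' = l Y j ≫ G.map h.right := by
    intro Y j j' h
    have := hl Y j
    have := hl Y j'
    have := hG h.right
    refine cart_exists hp j'.hom (l Y j') (𝟙 Y) _ ?_
    rw [Category.id_comp, ← StructuredArrow.w h]
    infer_instance
  choose M hM hMfac using hmap
  have hfib : ∀ Y j, p.obj (X Y j) = Y := fun Y j =>
    have := hl Y j
    IsHomLift.domain_eq p j.hom (l Y j)
  let Φ : ∀ Y, StructuredArrow Y φ ⥤ p.Fiber Y := fun Y =>
    { obj := fun j => ⟨X Y j, hfib Y j⟩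
      map := fun {j j'} h => ⟨M Y j j' h, hM Y j j' h⟩
      map_id := fun j => Subtype.ext <| by
        have := hl Y j
        have := hM Y j j (𝟙 j)
        have : p.IsHomLift (𝟙 Y) (𝟙 (X Y j)) := IsHomLift.id (hfib Y j)
        refine (cart_ext hp j.hom (l Y j) (𝟙 Y) (ψ := M Y j j (𝟙 j)) (ψ' := 𝟙 (X Y j)) ?_).trans rfl
        simp [hMfac]
      map_comp := fun {j j' j''} h h' => Subtype.ext <| by
        have := hl Y j''
        have := hM Y j j' h
        have := hM Y j' j'' h'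
        have := hM Y j j'' (h ≫ h')
        refine (cart_ext hp j''.hom (l Y j'') (𝟙 Y) (ψ := M Y j j'' (h ≫ h')) (ψ' := M Y j j' h ≫ M Y j' j'' h') ?_).trans rfl
        simp [hMfac, reassoc_of% hMfac] }
  have hgl : ∀ Y, ∃ L : p.Fiber Y, Nonempty ((Functor.const (StructuredArrow Y φ)).obj L ≅ Φ Y) := fun Y =>
    have := isGroupoid_fiber hp Y
    exists_iso_const.{max u₁ u₂ u₃ v₁ v₂ v₃} (hφ Y) (Φ Y)
  choose L θ using hgl
  have θ := fun Y => Classical.choice (θ Y)
  let π : ∀ (Y : D) (j : StructuredArrow Y φ), (L Y).1 ⟶ G.obj j.right := fun Y j => ((θ Y).hom.app j).1 ≫ l Y j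
  have hπ : ∀ (Y : D) (j : StructuredArrow Y φ), p.IsHomLift j.hom (π Y j) := fun Y j => by
    have : p.IsHomLift (𝟙 Y) ((θ Y).hom.app j).1 := ((θ Y).hom.app j).2
    have := hl Y j
    exact IsHomLift.comp_lift_id_left' (p := p) Y ((θ Y).hom.app j).1 j.hom (l Y j)
  have hnat : ∀ (Y : D) (j j' : StructuredArrow Y φ) (h : j ⟶ j'), π Y j' = π Y j ≫ G.map h.right := by
    intro Y j j' h
    have := congrArg Subtype.val ((θ Y).hom.naturality h)
    change 𝟙 (L Y).1 ≫ ((θ Y).hom.app j').1 = ((θ Y).hom.app j).1 ≫ M Y j j' h at this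
    rw [Category.id_comp] at this
    simp only [π, this, Category.assoc, hMfac]
  have hLb : ∀ (Y Z : D) (b : Y ⟶ Z), ∃ k : (L Y).1 ⟶ (L Z).1, p.IsHomLift b k ∧
      ∀ j : StructuredArrow Z φ, k ≫ π Z j = π Y (StructuredArrow.mk (b ≫ j.hom)) := by
    intro Y Z b
    have hk : ∀ j : StructuredArrow Z φ, ∃ k : (L Y).1 ⟶ (L Z).1, p.IsHomLift b k ∧
        k ≫ π Z j = π Y (StructuredArrow.mk (b ≫ j.hom)) := fun j =>
      have := hπ Z j
      cart_exists hp j.hom (π Z j) b _ (hπ Y (StructuredArrow.mk (b ≫ j.hom)))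
    choose k hk₁ hk₂ using hk
    have hconst : ∀ j j', k j = k j' := by
      refine eq_of_const_on_arrows (hφ Z) k fun j j' h => ?_
      have := hk₁ j
      have := hk₁ j'
      have := hπ Z j'
      refine cart_ext hp j'.hom (π Z j') b ?_
      rw [hk₂ j', hnat Z j j' h, reassoc_of% (hk₂ j)]
      exact (hnat Y (StructuredArrow.mk (b ≫ j.hom)) (StructuredArrow.mk (b ≫ j'.hom))
        (StructuredArrow.homMk h.right (by simp))).symm
    exact ⟨k (Classical.choice (hφ Z).1), hk₁ _, fun j => by rw [hconst _ j]; exact hk₂ j⟩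
  choose k hk hkfac using hLb
  let LF : D ⥤ F :=
    { obj := fun Y => (L Y).1
      map := fun {Y Z} b => k Y Z b
      map_id := fun Y => by
        obtain ⟨j⟩ := (hφ Y).1
        have := hπ Y j
        have := hk Y Y (𝟙 Y)
        have : p.IsHomLift (𝟙 Y) (𝟙 (L Y).1) := IsHomLift.id (L Y).2
        refine cart_ext hp j.hom (π Y j) (𝟙 Y) ?_
        have key : ∀ a : Y ⟶ φ.obj j.right, a = j.hom → π Y (StructuredArrow.mk a) = π Y j := by
          rintro _ rfl
          rfl
        rw [Category.id_comp]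
        exact (hkfac Y Y (𝟙 Y) j).trans (key _ (Category.id_comp _))
      map_comp := fun {Y Z W} b b' => by
        obtain ⟨j⟩ := (hφ W).1
        have := hπ W j
        have := hk Y Z b
        have := hk Z W b'
        have := hk Y W (b ≫ b')
        refine cart_ext hp j.hom (π W j) (b ≫ b') ?_
        rw [hkfac Y W (b ≫ b') j, Category.assoc (k Y Z b), hkfac Z W b' j]
        have key : ∀ a : Y ⟶ φ.obj j.right, a = (b ≫ b') ≫ j.hom →
            π Y (StructuredArrow.mk ((b ≫ b') ≫ j.hom)) = π Y (StructuredArrow.mk a) := by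
          rintro _ rfl
          rfl
        exact (key _ (Category.assoc b b' j.hom).symm).trans (hkfac Y Z b (StructuredArrow.mk (b' ≫ j.hom))).symm }
  refine ⟨LF, CategoryTheory.Functor.ext (fun Y => (L Y).2) (fun Y Z b => ?_), ?_⟩
  · have := hk Y Z b
    exact IsHomLift.fac' p b (k Y Z b)
  · have hiso : ∀ c, IsIso (π (φ.obj c) (StructuredArrow.mk (𝟙 (φ.obj c)))) := fun c => by
      have : p.IsHomLift (𝟙 (φ.obj c)) (π (φ.obj c) (StructuredArrow.mk (𝟙 (φ.obj c)))) := hπ (φ.obj c) (StructuredArrow.mk (𝟙 (φ.obj c)))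
      exact isIso_of_isHomLift_id (R := φ.obj c) hp _
    refine ⟨NatIso.ofComponents (fun c => @asIso _ _ _ _ _ (hiso c)) ?_, fun c => hπ (φ.obj c) (StructuredArrow.mk (𝟙 (φ.obj c)))⟩
    intro c c' h
    change k _ _ (φ.map h) ≫ π _ (StructuredArrow.mk (𝟙 (φ.obj c'))) = π _ (StructuredArrow.mk (𝟙 (φ.obj c))) ≫ G.map h
    rw [hkfac]
    exact hnat (φ.obj c) (StructuredArrow.mk (𝟙 (φ.obj c))) (StructuredArrow.mk (φ.map h ≫ 𝟙 (φ.obj c')))
      (StructuredArrow.homMk h (by simp))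

end Sections

section Fibre

variable {C : Type u₁} [Category.{v₁} C] {D : Type u₂} [Category.{v₂} D] (f : C ⥤ D) [f.IsFibered]

/-- The fibre over `Y` inside the comma category of `Y` and a fibred category. -/
def fibreToArrow (Y : D) : f.Fiber Y ⥤ StructuredArrow Y f where
  obj c := StructuredArrow.mk (Y := c.1) (eqToHom c.2.symm)
  map {c c'} h := StructuredArrow.homMk h.1 (by
    have : f.IsHomLift (𝟙 Y) h.1 := h.2
    change eqToHom c.2.symm ≫ f.map h.1 = eqToHom c'.2.symm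
    rw [IsHomLift.fac' f (𝟙 Y) h.1]
    simp)

lemma lift_of_arrow {Y : D} {c : f.Fiber Y} {j : StructuredArrow Y f} (h : (fibreToArrow f Y).obj c ⟶ j) :
    f.IsHomLift j.hom h.right := by
  refine IsHomLift.of_fac _ _ _ c.2 rfl ?_
  rw [← StructuredArrow.w h]
  simp only [eqToHom_refl, Category.comp_id]
  rfl

lemma contractible_structuredArrow (Y : D) (h : HasContractibleNerve.{w₁, w₂} (f.Fiber Y)) :
    HasContractibleNerve.{w₁, w₂} (StructuredArrow Y f) := by
  let Robj : StructuredArrow Y f → f.Fiber Y := fun j =>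
    ⟨Functor.IsPreFibered.pullbackObj (p := f) (rfl : f.obj j.right = _) j.hom,
      Functor.IsPreFibered.pullbackObj_proj _ _⟩
  let pm : ∀ j : StructuredArrow Y f, (Robj j).1 ⟶ j.right := fun j =>
    Functor.IsPreFibered.pullbackMap (p := f) (rfl : f.obj j.right = _) j.hom
  have hpm : ∀ j, f.IsCartesian j.hom (pm j) := fun j => inferInstance
  let e : ∀ (c : f.Fiber Y) (j : StructuredArrow Y f), ((fibreToArrow f Y).obj c ⟶ j) ≃ (c ⟶ Robj j) := fun c j =>
    { toFun := fun h =>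
        ⟨@Functor.IsCartesian.map _ _ _ _ f _ _ _ _ j.hom (pm j) (hpm j) _ h.right (lift_of_arrow f h),
          @Functor.IsCartesian.map_isHomLift _ _ _ _ f _ _ _ _ j.hom (pm j) (hpm j) _ h.right (lift_of_arrow f h)⟩
      invFun := fun g => StructuredArrow.homMk (g.1 ≫ pm j) (by
        have : f.IsHomLift (𝟙 Y) g.1 := g.2
        have := hpm j
        change eqToHom c.2.symm ≫ f.map (g.1 ≫ pm j) = j.hom
        rw [IsHomLift.fac' f j.hom (g.1 ≫ pm j)]
        simp)
      left_inv := fun h => StructuredArrow.hom_ext _ _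
        (@Functor.IsCartesian.fac _ _ _ _ f _ _ _ _ j.hom (pm j) (hpm j) _ h.right (lift_of_arrow f h))
      right_inv := fun g => Subtype.ext (by
        have : f.IsHomLift (𝟙 Y) g.1 := g.2
        have := hpm j
        exact (Functor.IsCartesian.map_uniq f j.hom (pm j) (g.1 ≫ pm j) g.1 rfl).symm) }
  have he : ∀ (c' c : f.Fiber Y) (j : StructuredArrow Y f) (g : c' ⟶ c) (h : (fibreToArrow f Y).obj c ⟶ j),
      e c' j ((fibreToArrow f Y).map g ≫ h) = g ≫ e c j h := by
    intro c' c j g h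
    rw [← (e c' j).apply_symm_apply (g ≫ e c j h)]
    congr 1
    refine StructuredArrow.hom_ext _ _ ?_
    change g.1 ≫ h.right = (g.1 ≫ (e c j h).1) ≫ pm j
    rw [Category.assoc]
    congr 1
    exact (congrArg CommaMorphism.right ((e c j).symm_apply_apply h)).symm
  exact of_adjunction (Adjunction.adjunctionOfEquivRight e he) h

end Fibre

end Groth.CatFib.Contractible
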