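import Mathlib.AlgebraicTopology.SimplicialObject.Coskeletal

/-!
Morphisms into coskeletal simplicial objects are the families on objects of low dimension.
-/

set_option autoImplicit false

universe v u

open CategoryTheory Opposite

namespace Groth.CatFib.Cosk

variable {C : Type u} [Category.{v} C]

/-- Naturality in dimensions `≤ n` of a family of maps. -/
def Nat' {G U : SimplicialObject C} (n : ℕ)
    (φ : ∀ j : SimplexCategory, j.len ≤ n → (G.obj (op j) ⟶ U.obj (op j))) : Prop :=
  ∀ (i j : SimplexCategory) (hi : i.len ≤ n) (hj : j.len ≤ n) (θ : i ⟶ j),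
    G.map θ.op ≫ φ i hi = φ j hj ≫ U.map θ.op

lemma exists_ext {G U : SimplicialObject C} {n : ℕ} [U.IsCoskeletal n]
    (φ : ∀ j : SimplexCategory, j.len ≤ n → (G.obj (op j) ⟶ U.obj (op j))) (hφ : Nat' n φ) :
    ∃ g : G ⟶ U, ∀ j hj, g.app (op j) = φ j hj := by
  let β : (SimplexCategory.Truncated.inclusion n).op ⋙ G ⟶ (SimplexCategory.Truncated.inclusion n).op ⋙ U :=
    { app := fun j => φ j.unop.obj j.unop.property
      naturality := fun i j θ => hφ j.unop.obj i.unop.obj j.unop.property i.unop.property θ.unop.hom }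
  refine ⟨Functor.liftOfIsRightKanExtension U (𝟙 _) G β, fun j hj => ?_⟩
  have := congr_app (Functor.liftOfIsRightKanExtension_fac U (𝟙 _) G β) (op ⟨j, hj⟩)
  simpa [β] using this

lemma hom_ext {G U : SimplicialObject C} {n : ℕ} [U.IsCoskeletal n] {g g' : G ⟶ U}
    (h : ∀ j : SimplexCategory, j.len ≤ n → g.app (op j) = g'.app (op j)) : g = g' := by
  refine Functor.hom_ext_of_isRightKanExtension U (𝟙 ((SimplexCategory.Truncated.inclusion n).op ⋙ U)) g g' ?_
  ext j
  simpa using h j.unop.obj j.unop.property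

lemma isCoskeletal_of {U : SimplicialObject C} {n : ℕ}
    (hex : ∀ (G : SimplicialObject C) (φ : ∀ j : SimplexCategory, j.len ≤ n → (G.obj (op j) ⟶ U.obj (op j))),
      Nat' n φ → ∃ g : G ⟶ U, ∀ j hj, g.app (op j) = φ j hj)
    (hext : ∀ (G : SimplicialObject C) (g g' : G ⟶ U),
      (∀ j : SimplexCategory, j.len ≤ n → g.app (op j) = g'.app (op j)) → g = g') :
    U.IsCoskeletal n := by
  have key : ∀ s : Functor.RightExtension (SimplexCategory.Truncated.inclusion n).op
      ((SimplexCategory.Truncated.inclusion n).op ⋙ U),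
      ∃ g : s.left ⟶ U, ∀ j hj, g.app (op j) = s.hom.app (op ⟨j, hj⟩) := fun s =>
    hex s.left (fun j hj => s.hom.app (op ⟨j, hj⟩)) fun i j hi hj θ =>
      s.hom.naturality (Quiver.Hom.op (InducedCategory.homMk θ : (⟨i, hi⟩ : SimplexCategory.Truncated n) ⟶ ⟨j, hj⟩))
  choose g hg using key
  refine ⟨⟨⟨Limits.IsTerminal.ofUniqueHom (fun s => CostructuredArrow.homMk (g s) ?_) fun s m => ?_⟩⟩⟩
  · ext j
    exact (Category.comp_id _).trans (hg s j.unop.obj j.unop.property)
  · apply CostructuredArrow.hom_ext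
    refine hext _ _ _ fun j hj => ?_
    have := congr_app (CostructuredArrow.w m) (op ⟨j, hj⟩)
    exact ((Category.comp_id _).symm.trans this).trans (hg s j hj).symm

end Groth.CatFib.Cosk
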