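import Groth.Agent.CategoryFibred.Cosk
import Mathlib.CategoryTheory.Functor.KanExtension.Pointwise
import Mathlib.CategoryTheory.Limits.Shapes.FiniteLimits
import Mathlib.Data.Finite.Sigma
import Mathlib.Data.Fintype.Pi

/-!
In a category with finite limits coskeletal objects are pointwise right Kan extensions.
-/

set_option autoImplicit false

universe v u

open CategoryTheory Opposite CategoryTheory.Limits

namespace Groth.CatFib.Cosk

variable {C : Type u} [Category.{v} C] [HasFiniteLimits C]

instance finite_truncated (k : ℕ) : Finite (SimplexCategory.Truncated k) :=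
  Finite.of_injective (fun j => (⟨j.obj.len, Nat.lt_succ_of_le j.property⟩ : Fin (k + 1))) fun a b h =>
    ObjectProperty.FullSubcategory.ext (SimplexCategory.ext (congrArg Fin.val h))

instance finite_hom (a b : SimplexCategory) : Finite (a ⟶ b) :=
  Finite.of_injective (fun θ => (θ.toOrderHom : Fin (a.len + 1) → Fin (b.len + 1))) fun _ _ h =>
    SimplexCategory.Hom.ext _ _ (OrderHom.ext _ _ h)

instance hasPointwise (k : ℕ) (F : (SimplexCategory.Truncated k)ᵒᵖ ⥤ C) :
    (SimplexCategory.Truncated.inclusion k).op.HasPointwiseRightKanExtension F := fun Y => by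
  let J := StructuredArrow Y (SimplexCategory.Truncated.inclusion k).op
  haveI : Finite J := Finite.of_injective
    (fun a => (⟨a.right.unop, a.hom.unop⟩ : Σ j : SimplexCategory.Truncated k, (j.obj ⟶ Y.unop)))
    fun a b h => by
      obtain ⟨⟨⟩, ⟨a⟩, ha⟩ := a
      obtain ⟨⟨⟩, ⟨b⟩, hb⟩ := b
      obtain ⟨rfl, h'⟩ := Sigma.mk.inj_iff.1 h
      exact congrArg _ (Quiver.Hom.unop_inj (eq_of_heq h'))
  haveI : ∀ a b : J, Finite (a ⟶ b) := fun a b => Finite.of_injective (fun f => f.right.unop.hom) fun f g h =>
    StructuredArrow.hom_ext _ _ (Quiver.Hom.unop_inj (InducedCategory.hom_ext h))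
  haveI : FinCategory J := { fintypeObj := Fintype.ofFinite J, fintypeHom := fun a b => Fintype.ofFinite _ }
  exact inferInstanceAs (HasLimit _)

lemma eq_of_faces {U : SimplicialObject C} {k : ℕ} [U.IsCoskeletal k] {j : SimplexCategory} {W : C}
    {a b : W ⟶ U.obj (op j)}
    (h : ∀ (i : SimplexCategory), i.len ≤ k → ∀ θ : i ⟶ j, a ≫ U.map θ.op = b ≫ U.map θ.op) : a = b := by
  have hp := Functor.isPointwiseRightKanExtensionOfIsRightKanExtension U (𝟙 ((SimplexCategory.Truncated.inclusion k).op ⋙ U))
  refine (hp (op j)).hom_ext fun φ => ?_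
  have := h φ.right.unop.obj φ.right.unop.property φ.hom.unop
  exact (congrArg (a ≫ ·) (Category.comp_id _)).trans (this.trans (congrArg (b ≫ ·) (Category.comp_id _)).symm)

end Groth.CatFib.Cosk
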