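import Mathlib.CategoryTheory.EffectiveEpi.Comp
import Mathlib.CategoryTheory.MorphismProperty.Limits
import Mathlib.CategoryTheory.Limits.Shapes.Pullback.HasPullback
import Mathlib.CategoryTheory.Comma.Over.Pullback

/-!
# Universal effective epimorphisms
-/

universe v u

open CategoryTheory CategoryTheory.Limits

namespace Groth.CatFib

variable {C : Type u} [Category.{v} C] [HasPullbacks C]

/-- Universal effective epimorphisms. -/
abbrev UEE (C : Type u) [Category.{v} C] : MorphismProperty C :=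
  MorphismProperty.universally (fun (A B : C) (p : A ⟶ B) => EffectiveEpi p)

omit [HasPullbacks C] in
lemma UEE.effectiveEpi {A B : C} {p : A ⟶ B} (h : UEE C p) : EffectiveEpi p :=
  MorphismProperty.universally_le _ _ h

omit [HasPullbacks C] in
lemma UEE.of_isPullback {A B A' B' : C} {p : A ⟶ B} (h : UEE C p) {p' : A' ⟶ B'} {a : A' ⟶ A}
    {b : B' ⟶ B} (sq : IsPullback p' a b p) : UEE C p' :=
  fun _ _ _ _ _ H => h _ _ _ (H.paste_vert sq)

lemma UEE.pullback_snd {A B B' : C} {p : A ⟶ B} (h : UEE C p) (b : B' ⟶ B) :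
    UEE C (pullback.snd p b) :=
  h.of_isPullback (IsPullback.of_hasPullback p b).flip

lemma UEE.universally_epi {A B : C} {p : A ⟶ B} (h : UEE C p) :
    (MorphismProperty.epimorphisms C).universally p :=
  fun _ _ _ _ _ H => @epi_of_effectiveEpi C _ _ _ _ (h _ _ _ H)

omit [HasPullbacks C] in
lemma effectiveEpi_mk {X Y : C} (f : Y ⟶ X)
    (h : ∀ {W : C} (e : Y ⟶ W),
      (∀ {Z : C} (g₁ g₂ : Z ⟶ Y), g₁ ≫ f = g₂ ≫ f → g₁ ≫ e = g₂ ≫ e) → ∃! d : X ⟶ W, f ≫ d = e) :
    EffectiveEpi f :=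
  ⟨⟨{ desc := fun e he => (h e he).choose
      fac := fun e he => (h e he).choose_spec.1
      uniq := fun e he m hm => (h e he).choose_spec.2 m hm }⟩⟩

/-- Cover two maps simultaneously. -/
lemma exists_double_cover {A B Z : C} {p : A ⟶ B}
    (hp : (MorphismProperty.epimorphisms C).universally p) (g₁ g₂ : Z ⟶ B) :
    ∃ (Z' : C) (q : Z' ⟶ Z) (c d : Z' ⟶ A), Epi q ∧ c ≫ p = q ≫ g₁ ∧ d ≫ p = q ≫ g₂ := by
  let q₁ := pullback.snd p g₁
  let q₂ := pullback.snd p (q₁ ≫ g₂)
  have h₁ : Epi q₁ := hp _ _ _ (IsPullback.of_hasPullback p g₁).flip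
  have h₂ : Epi q₂ := hp _ _ _ (IsPullback.of_hasPullback p (q₁ ≫ g₂)).flip
  exact ⟨_, q₂ ≫ q₁, q₂ ≫ pullback.fst p g₁, pullback.fst _ _, epi_comp _ _,
    by simp [q₁, pullback.condition], by simp [q₁, q₂, pullback.condition]⟩

theorem effectiveEpi_comp {U T S : C} (v : U ⟶ T) (u : T ⟶ S) [EffectiveEpi u] [EffectiveEpi v]
    (hv : (MorphismProperty.epimorphisms C).universally v) : EffectiveEpi (v ≫ u) := by
  refine effectiveEpi_mk _ fun {W} e he => ?_
  let e₁ : T ⟶ W := EffectiveEpi.desc v e fun g₁ g₂ h => he g₁ g₂ (by rw [reassoc_of% h])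
  have he₁ : v ≫ e₁ = e := EffectiveEpi.fac _ _ _
  have h₁ : ∀ {Z : C} (g₁ g₂ : Z ⟶ T), g₁ ≫ u = g₂ ≫ u → g₁ ≫ e₁ = g₂ ≫ e₁ := by
    intro Z g₁ g₂ h
    obtain ⟨Z', q, c, d, hq, hc, hd⟩ := exists_double_cover hv g₁ g₂
    rw [← cancel_epi q, ← reassoc_of% hc, ← reassoc_of% hd, he₁]
    exact he c d (by rw [reassoc_of% hc, reassoc_of% hd, h])
  refine ⟨EffectiveEpi.desc u e₁ h₁, by simp [he₁], fun m hm => ?_⟩
  apply EffectiveEpi.uniq u e₁ h₁
  rw [← cancel_epi v, he₁, ← hm, Category.assoc]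

theorem effectiveEpi_of_comp {U T S : C} (v : U ⟶ T) (u : T ⟶ S) [EffectiveEpi (v ≫ u)]
    (h : (MorphismProperty.epimorphisms C).universally (v ≫ u)) : EffectiveEpi u := by
  refine effectiveEpi_mk _ fun {W} e he => ?_
  let d : S ⟶ W := EffectiveEpi.desc (v ≫ u) (v ≫ e) fun g₁ g₂ hg => by
    rw [← Category.assoc, ← Category.assoc]
    exact he _ _ (by simpa using hg)
  have hd : (v ≫ u) ≫ d = v ≫ e := EffectiveEpi.fac _ _ _
  refine ⟨d, ?_, fun m hm => ?_⟩
  · have : Epi (pullback.snd (v ≫ u) u) := h _ _ _ (IsPullback.of_hasPullback (v ≫ u) u).flip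
    have hc : pullback.fst (v ≫ u) u ≫ v ≫ u = pullback.snd (v ≫ u) u ≫ u := pullback.condition
    show u ≫ d = e
    rw [← cancel_epi (pullback.snd (v ≫ u) u), ← reassoc_of% hc, ← Category.assoc v u d, hd,
      ← Category.assoc]
    exact he _ _ (by rw [Category.assoc, hc])
  · rw [← cancel_epi (v ≫ u), hd, Category.assoc, hm]

theorem UEE.comp {U T S : C} {v : U ⟶ T} {u : T ⟶ S} (hu : UEE C u) (hv : UEE C v) :
    UEE C (v ≫ u) := by
  intro X' Y' i₁ i₂ f' H
  let l : X' ⟶ pullback u i₂ := pullback.lift (i₁ ≫ v) f' (by rw [Category.assoc]; exact H.w.symm)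
  have hl : l ≫ pullback.snd u i₂ = f' := pullback.lift_snd _ _ _
  have hsq : IsPullback l i₁ (pullback.fst u i₂) v := by
    rw [← hl] at H
    exact H.of_right (pullback.lift_fst _ _ _) (IsPullback.of_hasPullback u i₂).flip
  have hl' := hv.of_isPullback hsq
  have := hl'.effectiveEpi
  have := (hu.pullback_snd i₂).effectiveEpi
  rw [← hl]
  exact effectiveEpi_comp l _ hl'.universally_epi

theorem UEE.of_comp {U T S : C} {v : U ⟶ T} {u : T ⟶ S} (h : UEE C (v ≫ u)) : UEE C u := by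
  intro X' Y' i₁ i₂ f' H
  have hsq : IsPullback (pullback.snd v i₁ ≫ f') (pullback.fst v i₁) i₂ (v ≫ u) :=
    (IsPullback.of_hasPullback v i₁).flip.paste_horiz H
  have h' := h.of_isPullback hsq
  have := h'.effectiveEpi
  exact effectiveEpi_of_comp (pullback.snd v i₁) f' h'.universally_epi

theorem UEE.iff_pullback_snd {S' S T : C} {g : S' ⟶ S} (hg : UEE C g) (u : T ⟶ S) :
    UEE C u ↔ UEE C (pullback.snd u g) := by
  refine ⟨fun h => h.pullback_snd g, fun h => ?_⟩
  have := hg.comp h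
  rw [← pullback.condition] at this
  exact this.of_comp

/-- Descent of monomorphisms. -/
theorem mono_of_isPullback {X Y X' Y' : C} {g : X ⟶ Y} {g' : X' ⟶ Y'} {hX : X' ⟶ X} {hY : Y' ⟶ Y}
    (sq : IsPullback g' hX hY g) (h : UEE C hY) [Mono g'] : Mono g := by
  refine ⟨fun {Z} a b hab => ?_⟩
  have : Epi (pullback.snd hY (a ≫ g)) := @epi_of_effectiveEpi C _ _ _ _ (h.pullback_snd _).effectiveEpi
  let q := pullback.snd hY (a ≫ g)
  have hq : pullback.fst hY (a ≫ g) ≫ hY = q ≫ a ≫ g := pullback.condition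
  let a' := sq.lift (pullback.fst hY (a ≫ g)) (q ≫ a) (by rw [hq, Category.assoc])
  let b' := sq.lift (pullback.fst hY (a ≫ g)) (q ≫ b) (hq.trans ((congrArg (fun t => q ≫ t) hab).trans (Category.assoc _ _ _).symm))
  have e : a' = b' := by rw [← cancel_mono g']; simp [a', b']
  rw [← cancel_epi q]
  simpa [a', b'] using congrArg (fun t => t ≫ hX) e

theorem isIso_of_isPullback {X Y X' Y' : C} {g : X ⟶ Y} {g' : X' ⟶ Y'} {hX : X' ⟶ X} {hY : Y' ⟶ Y}
    (sq : IsPullback g' hX hY g) (h : UEE C hY) [IsIso g'] : IsIso g := by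
  have := mono_of_isPullback sq h
  have e : (inv g' ≫ hX) ≫ g = hY := by rw [Category.assoc, ← sq.w, IsIso.inv_hom_id_assoc]
  have hg : UEE C g := UEE.of_comp (v := inv g' ≫ hX) (e ▸ h)
  have := hg.effectiveEpi
  exact isIso_of_mono_of_strongEpi g

lemma isPullback_overMap {S' S : C} (f : S' ⟶ S) {X Y : Over S} (g : X ⟶ Y) :
    IsPullback ((Over.pullback f).map g).left (pullback.fst X.hom f) (pullback.fst Y.hom f) g.left := by
  refine IsPullback.of_right (h₁₂ := pullback.snd Y.hom f) (h₂₂ := Y.hom) ?_ ?_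
    (IsPullback.of_hasPullback Y.hom f).flip
  · have e1 : ((Over.pullback f).map g).left ≫ pullback.snd Y.hom f = pullback.snd X.hom f :=
      Over.w ((Over.pullback f).map g)
    rw [e1, Over.w g]
    exact (IsPullback.of_hasPullback X.hom f).flip
  · exact pullback.lift_fst _ _ _

end Groth.CatFib
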