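import Groth.Agent.CategoryFibred.Basic

/-!
# Equivalences over the base: characterisation and consequences
-/

open CategoryTheory CategoryTheory.Functor

universe v₃ u₃ v₂ u₂ v u

namespace Groth.CatFib

variable {C : Type u} [Category.{v} C] {𝒳 : BasedCategory.{v₂, u₂} C} {𝒴 : BasedCategory.{v₃, u₃} C}

lemma app_isIso_of_basedIso {F G : 𝒳 ⥤ᵇ 𝒴} (e : F ≅ G) (x : 𝒳.obj) :
    IsIso (e.hom.toNatTrans.app x) :=
  (((BasedNatTrans.forgetful 𝒳 𝒴).mapIso e).app x).isIso_hom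

/-- Fully faithful and essentially surjective through isomorphisms over identities implies an
equivalence over the base. -/
lemma isEquivOver_of_fullyFaithful (F : 𝒳 ⥤ᵇ 𝒴) [F.toFunctor.Full] [F.toFunctor.Faithful]
    (h : ∀ η : 𝒴.obj, ∃ (ξ : 𝒳.obj) (e : F.toFunctor.obj ξ ≅ η),
      𝒴.p.IsHomLift (𝟙 (𝒴.p.obj η)) e.hom) : FibCat.IsEquivOver F := by
  choose ξ e he using h
  have hobj : ∀ η, 𝒳.p.obj (ξ η) = 𝒴.p.obj η := fun η =>
    (F.w_obj _).symm.trans (have := he η; IsHomLift.domain_eq 𝒴.p (𝟙 (𝒴.p.obj η)) (e η).hom)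
  let G₀ : 𝒴.obj ⥤ 𝒳.obj :=
    { obj := ξ
      map := fun {a b} f => F.toFunctor.preimage ((e a).hom ≫ f ≫ (e b).inv)
      map_id := fun a => F.toFunctor.map_injective (by simp)
      map_comp := fun f g => F.toFunctor.map_injective (by simp) }
  have hmap : ∀ {a b : 𝒴.obj} (f : a ⟶ b), 𝒳.p.IsHomLift (𝒴.p.map f) (G₀.map f) := by
    intro a b f
    rw [← BasedFunctor.isHomLift_iff F]
    show 𝒴.p.IsHomLift _ (F.toFunctor.map (F.toFunctor.preimage _))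
    rw [Functor.map_preimage]
    have := he a
    have := he b
    infer_instance
  let G : 𝒴 ⥤ᵇ 𝒳 :=
    { toFunctor := G₀
      w := Functor.ext hobj (fun a b f => by
        have := hmap f
        exact IsHomLift.fac' 𝒳.p (𝒴.p.map f) (G₀.map f)) }
  refine ⟨G, ⟨BasedNatIso.mkNatIso (NatIso.ofComponents
      (fun x => F.toFunctor.preimageIso (e (F.toFunctor.obj x))) ?_) ?_⟩,
    ⟨BasedNatIso.mkNatIso (NatIso.ofComponents (fun y => e y) ?_) ?_⟩⟩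
  · intro a b f
    apply F.toFunctor.map_injective
    simp only [Functor.map_comp]
    change F.toFunctor.map (F.toFunctor.preimage ((e _).hom ≫ F.toFunctor.map f ≫ (e _).inv)) ≫
        F.toFunctor.map (F.toFunctor.preimage (e _).hom) =
      F.toFunctor.map (F.toFunctor.preimage (e _).hom) ≫ F.toFunctor.map f
    simp
  · intro a
    rw [← BasedFunctor.isHomLift_iff F]
    show 𝒴.p.IsHomLift _ (F.toFunctor.map (F.toFunctor.preimage (e (F.toFunctor.obj a)).hom))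
    rw [Functor.map_preimage]
    have := he (F.toFunctor.obj a)
    exact (F.w_obj a) ▸ this
  · intro a b f
    change F.toFunctor.map (F.toFunctor.preimage ((e a).hom ≫ f ≫ (e b).inv)) ≫ (e b).hom = (e a).hom ≫ f
    simp
  · intro a
    exact he a

lemma isEquivalence_of_isEquivOver {F : 𝒳 ⥤ᵇ 𝒴} (h : FibCat.IsEquivOver F) :
    F.toFunctor.IsEquivalence := by
  obtain ⟨G, ⟨η⟩, ⟨ε⟩⟩ := h
  exact Functor.IsEquivalence.mk' G.toFunctor ((BasedNatTrans.forgetful _ _).mapIso η).symm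
    ((BasedNatTrans.forgetful _ _).mapIso ε)

lemma exists_iso_of_isEquivOver {F : 𝒳 ⥤ᵇ 𝒴} (h : FibCat.IsEquivOver F) (η : 𝒴.obj) :
    ∃ (ξ : 𝒳.obj) (e : F.toFunctor.obj ξ ≅ η), 𝒴.p.IsHomLift (𝟙 (𝒴.p.obj η)) e.hom := by
  obtain ⟨G, -, ⟨ε⟩⟩ := h
  exact ⟨G.toFunctor.obj η, ((BasedNatTrans.forgetful _ _).mapIso ε).app η,
    BasedNatTrans.isHomLift ε.hom rfl⟩

theorem isEquivOver_iff (F : 𝒳 ⥤ᵇ 𝒴) :
    FibCat.IsEquivOver F ↔
      (F.toFunctor.Full ∧ F.toFunctor.Faithful) ∧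
        ∀ η : 𝒴.obj, ∃ (ξ : 𝒳.obj) (e : F.toFunctor.obj ξ ≅ η),
          𝒴.p.IsHomLift (𝟙 (𝒴.p.obj η)) e.hom := by
  refine ⟨fun h => ?_, fun ⟨⟨_, _⟩, h⟩ => isEquivOver_of_fullyFaithful F h⟩
  have := isEquivalence_of_isEquivOver h
  exact ⟨⟨inferInstance, inferInstance⟩, exists_iso_of_isEquivOver h⟩

lemma IsEquivOver.symm' {F : 𝒳 ⥤ᵇ 𝒴} (h : FibCat.IsEquivOver F) :
    ∃ G : 𝒴 ⥤ᵇ 𝒳, FibCat.IsEquivOver G :=
  let ⟨G, a, b⟩ := h
  ⟨G, F, b, a⟩

section Transportable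

/-- An equivalence of categories over `C` from a category with lifts of isomorphisms is an equivalence over `C`. -/
lemma isEquivOver_of_isEquivalence
    (h𝒳 : ∀ ⦃T S : C⦄ (α : T ≅ S) (ξ : 𝒳.obj), 𝒳.p.obj ξ = T →
      ∃ (ξ' : 𝒳.obj) (e : ξ ≅ ξ'), 𝒳.p.IsHomLift α.hom e.hom)
    (F : 𝒳 ⥤ᵇ 𝒴) [F.toFunctor.IsEquivalence] : FibCat.IsEquivOver F := by
  refine isEquivOver_of_fullyFaithful F fun η => ?_
  let i := F.toFunctor.objObjPreimageIso η
  let ξ := F.toFunctor.objPreimage η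
  let α : 𝒳.p.obj ξ ≅ 𝒴.p.obj η := eqToIso (F.w_obj ξ).symm ≪≫ 𝒴.p.mapIso i
  obtain ⟨ξ', e, he⟩ := h𝒳 α ξ rfl
  refine ⟨ξ', F.toFunctor.mapIso e.symm ≪≫ i, ?_⟩
  have h1 : 𝒳.p.IsHomLift α.inv e.inv := inferInstance
  have h2 : 𝒴.p.IsHomLift α.inv (F.toFunctor.map e.inv) :=
    BasedFunctor.preserves_isHomLift F _ _
  have h3 : 𝒴.p.IsHomLift α.hom i.hom := by
    have : α.hom = eqToHom (F.w_obj ξ).symm ≫ 𝒴.p.map i.hom := rfl
    rw [this]
    infer_instance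
  have h4 : 𝒴.p.IsHomLift (α.inv ≫ α.hom) (F.toFunctor.map e.inv ≫ i.hom) := inferInstance
  rw [α.inv_hom_id] at h4
  exact h4

end Transportable

/-- A fibred functor lifts isomorphisms with prescribed source. -/
lemma exists_lift_iso (p : 𝒳.obj ⥤ C) [p.IsPreFibered] (hs : ∀ {a : 𝒳.obj} {R S : C} (_ : p.obj a = S) (f : R ⟶ S),
    ∀ {b : 𝒳.obj} (φ : b ⟶ a), p.IsCartesian f φ → p.IsStronglyCartesian f φ) {T S : C} (α : T ≅ S) (ξ : 𝒳.obj) (h : p.obj ξ = T) :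
    ∃ (ξ' : 𝒳.obj) (e : ξ ≅ ξ'), p.IsHomLift α.hom e.hom := by
  obtain ⟨ξ', φ, hφ⟩ := IsPreFibered.exists_isCartesian p h α.inv
  have := hs h α.inv φ hφ
  have := IsStronglyCartesian.isIso_of_base_isIso p α.inv φ
  refine ⟨ξ', (asIso φ).symm, ?_⟩
  have := IsHomLift.inv p α.inv φ
  simpa using this

/-- Fibred source: equivalences are equivalences over `C`. -/
lemma isEquivOver_of_isEquivalence_of_isFibered [𝒳.p.IsFibered] (F : 𝒳 ⥤ᵇ 𝒴)
    [F.toFunctor.IsEquivalence] : FibCat.IsEquivOver F :=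
  isEquivOver_of_isEquivalence
    (fun _ _ α ξ h => exists_lift_iso 𝒳.p (fun _ _ _ _ _ => inferInstance) α ξ h) F

end Groth.CatFib
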