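import Groth.Agent.CategoryFibred.Functors
import Groth.Prelude.Def_W4stkcategoriessitesFib

/-!
# The 2-Yoneda lemma for fibred categories: evaluation at the identity
-/

set_option autoImplicit false
set_option backward.isDefEq.respectTransparency false
set_option backward.isDefEq.respectTransparency.types false

open CategoryTheory CategoryTheory.Functor Groth.StkBase

universe v₂ u₂ v u

namespace Groth.CatFib

variable {C : Type u} [Category.{v} C] {𝒳 : BasedCategory.{v₂, u₂} C} {U : C}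

lemma toId_left (g : (FibCat.overCat U).obj) : (toId g).left = g.hom := rfl

lemma isStronglyCartesian_toId (g : (FibCat.overCat U).obj) :
    (FibCat.overCat U).p.IsStronglyCartesian g.hom (toId g) :=
  have : (FibCat.overCat U).p.IsHomLift g.hom (toId g) :=
    (IsHomLift.map (FibCat.overCat U).p (toId g) : _)
  stronglyCartesian_of_isHomLift (p := (FibCat.overCat U).p) (isFibSet_overForget U).1 g.hom _

variable (G G' : FibCat.overCat U ⥤ᵇ 𝒳)

lemma map_isHomLift_left {g g' : (FibCat.overCat U).obj} (φ : g ⟶ g') :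
    𝒳.p.IsHomLift φ.left (G.toFunctor.map φ) :=
  have : (FibCat.overCat U).p.IsHomLift φ.left φ := IsHomLift.map (FibCat.overCat U).p φ
  BasedFunctor.preserves_isHomLift G φ.left φ

variable {G G'}

lemma eval_ext (hG' : FibCat.PreservesStronglyCartesian G') {α β : G ⟶ G'}
    (h : α.toNatTrans.app (idObj U) = β.toNatTrans.app (idObj U)) : α = β := by
  apply natTrans_ext
  intro g
  have := isStronglyCartesian_toId g
  have hs := hG' g.hom (toId g) this
  have := α.isHomLift' g
  have := β.isHomLift' g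
  apply IsStronglyCartesian.ext 𝒳.p g.hom (G'.toFunctor.map (toId g))
    (𝟙 ((FibCat.overCat U).p.obj g))
  have h₁ := α.toNatTrans.naturality (toId g)
  have h₂ := β.toNatTrans.naturality (toId g)
  rw [← h₁, ← h₂, h]

lemma eval_exists (hG' : FibCat.PreservesStronglyCartesian G') (ψ : G.obj (idObj U) ⟶ G'.obj (idObj U))
    (hψ : 𝒳.p.IsHomLift (𝟙 U) ψ) : ∃ α : G ⟶ G', α.toNatTrans.app (idObj U) = ψ := by
  have hc : ∀ g : (FibCat.overCat U).obj, ∃ c : G.obj g ⟶ G'.obj g,
      𝒳.p.IsHomLift (𝟙 ((FibCat.overCat U).p.obj g)) c ∧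
        c ≫ G'.toFunctor.map (toId g) = G.toFunctor.map (toId g) ≫ ψ := by
    intro g
    have := hG' g.hom (toId g) (isStronglyCartesian_toId g)
    have : 𝒳.p.IsHomLift g.hom (G.toFunctor.map (toId g)) := map_isHomLift_left G (toId g)
    exact (IsStronglyCartesian.universal_property 𝒳.p g.hom (G'.toFunctor.map (toId g))
      (𝟙 ((FibCat.overCat U).p.obj g)) g.hom (Category.id_comp _).symm
      (G.toFunctor.map (toId g) ≫ ψ)).exists
  choose c hc₁ hc₂ using hc
  have nat : ∀ ⦃g g' : (FibCat.overCat U).obj⦄ (a : g ⟶ g'),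
      G.toFunctor.map a ≫ c g' = c g ≫ G'.toFunctor.map a := by
    intro g g' a
    have := hG' g'.hom (toId g') (isStronglyCartesian_toId g')
    have := hc₁ g
    have := hc₁ g'
    have := map_isHomLift_left G a
    have := map_isHomLift_left G' a
    have : 𝒳.p.IsHomLift a.left (G.toFunctor.map a ≫ c g') :=
      IsHomLift.comp_lift_id_right' 𝒳.p a.left _ ((FibCat.overCat U).p.obj g') (c g')
    have : 𝒳.p.IsHomLift a.left (c g ≫ G'.toFunctor.map a) :=
      IsHomLift.comp_lift_id_left' 𝒳.p ((FibCat.overCat U).p.obj g) (c g) a.left _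
    apply IsStronglyCartesian.ext 𝒳.p g'.hom (G'.toFunctor.map (toId g')) a.left
    rw [Category.assoc, Category.assoc, hc₂, ← G'.toFunctor.map_comp, toId_naturality, hc₂,
      ← G.toFunctor.map_comp_assoc, toId_naturality]
  refine ⟨⟨⟨c, nat⟩, hc₁⟩, ?_⟩
  change c (idObj U) = ψ
  have e := hc₂ (idObj U)
  rw [toId_idObj, G.toFunctor.map_id, G'.toFunctor.map_id] at e
  simpa using e

variable [𝒳.p.IsFibered] (x : 𝒳.p.Fiber U)

/-- Chosen cartesian lift of `g : V ⟶ U` at `x`. -/
noncomputable abbrev evalLift (g : (FibCat.overCat U).obj) :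
    IsPreFibered.pullbackObj (p := 𝒳.p) x.2 g.hom ⟶ x.1 :=
  IsPreFibered.pullbackMap x.2 g.hom

/-- The functor `C/U ⟶ 𝒳` of an object over `U`, by cartesian lifts. -/
noncomputable def evalInv : FibCat.overCat U ⥤ᵇ 𝒳 where
  toFunctor :=
    { obj := fun g => IsPreFibered.pullbackObj (p := 𝒳.p) x.2 g.hom
      map := fun {g g'} a => IsStronglyCartesian.map 𝒳.p g'.hom (evalLift x g') (g := a.left)
        (f' := g.hom) (Over.w a).symm (evalLift x g)
      map_id := fun g => by
        symm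
        have : 𝒳.p.IsHomLift (Over.Hom.left (𝟙 g)) (𝟙 (IsPreFibered.pullbackObj (p := 𝒳.p) x.2 g.hom)) :=
          IsHomLift.id (IsPreFibered.pullbackObj_proj x.2 g.hom)
        exact IsStronglyCartesian.map_uniq 𝒳.p g.hom (evalLift x g) _ _ _ (Category.id_comp _)
      map_comp := fun {g g' g''} a b => by
        exact (IsStronglyCartesian.map_comp_map 𝒳.p g''.hom (evalLift x g'') (Over.w b).symm
          (Over.w a).symm (evalLift x g') (evalLift x g)).symm }
  w := Functor.ext (fun g => IsPreFibered.pullbackObj_proj x.2 g.hom) (fun g g' a => by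
    exact IsHomLift.fac' 𝒳.p a.left _)

lemma evalInv_preserves : FibCat.PreservesStronglyCartesian (evalInv x) := by
  intro R S f g g' a ha
  have hl : 𝒳.p.IsHomLift f ((evalInv x).toFunctor.map a) := BasedFunctor.preserves_isHomLift _ f a
  let M : IsPreFibered.pullbackObj (p := 𝒳.p) x.2 g.hom ⟶ IsPreFibered.pullbackObj (p := 𝒳.p) x.2 g'.hom :=
    (evalInv x).toFunctor.map a
  have hs : 𝒳.p.IsStronglyCartesian a.left M := by
    have : 𝒳.p.IsStronglyCartesian (a.left ≫ g'.hom) (M ≫ evalLift x g') := by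
      rw [show M ≫ evalLift x g' = evalLift x g from
        IsStronglyCartesian.fac 𝒳.p g'.hom (evalLift x g') (g := a.left) (f' := g.hom) (Over.w a).symm _,
        Over.w a]
      infer_instance
    have : 𝒳.p.IsHomLift a.left M := map_isHomLift_left _ a
    exact IsStronglyCartesian.of_comp 𝒳.p (f := a.left) (g := g'.hom) (ψ := evalLift x g')
  subst_hom_lift (FibCat.overCat U).p f a
  exact hs

omit [𝒳.p.IsFibered] in
lemma eval_fullyFaithful :
    ((ObjectProperty.ι (FibCat.PreservesStronglyCartesian (𝒳 := FibCat.overCat U) (𝒴 := 𝒳))) ⋙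
      FibCat.evalAtId 𝒳 U).Full ∧
    ((ObjectProperty.ι (FibCat.PreservesStronglyCartesian (𝒳 := FibCat.overCat U) (𝒴 := 𝒳))) ⋙
      FibCat.evalAtId 𝒳 U).Faithful := by
  constructor
  · refine ⟨fun {G G'} ψ => ?_⟩
    obtain ⟨α, hα⟩ := eval_exists G'.property ψ.1 ψ.2
    exact ⟨ObjectProperty.homMk α, Subtype.ext hα⟩
  · exact ⟨fun {G G'} α β h => ObjectProperty.hom_ext _ (eval_ext G'.property (congrArg Subtype.val h))⟩

lemma eval_essSurj :
    ((ObjectProperty.ι (FibCat.PreservesStronglyCartesian (𝒳 := FibCat.overCat U) (𝒴 := 𝒳))) ⋙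
      FibCat.evalAtId 𝒳 U).EssSurj := by
  refine ⟨fun y => ⟨⟨evalInv y, evalInv_preserves y⟩, ?_⟩⟩
  have hl : 𝒳.p.IsHomLift (𝟙 U) (evalLift y (idObj U)) :=
    (inferInstance : 𝒳.p.IsHomLift (idObj U).hom (evalLift y (idObj U)))
  have : IsIso (evalLift y (idObj U)) :=
    have : IsIso (idObj U).hom := inferInstanceAs (IsIso (𝟙 U))
    IsStronglyCartesian.isIso_of_base_isIso 𝒳.p (idObj U).hom _
  let i : IsPreFibered.pullbackObj (p := 𝒳.p) y.2 (idObj U).hom ≅ y.1 := asIso (evalLift y (idObj U))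
  exact ⟨fiberIsoMk i hl⟩

lemma eval_isEquivalence :
    ((ObjectProperty.ι (FibCat.PreservesStronglyCartesian (𝒳 := FibCat.overCat U) (𝒴 := 𝒳))) ⋙
      FibCat.evalAtId 𝒳 U).IsEquivalence := by
  obtain ⟨h1, h2⟩ := eval_fullyFaithful (𝒳 := 𝒳) (U := U)
  have h3 := eval_essSurj (𝒳 := 𝒳) (U := U)
  exact { }

omit [𝒳.p.IsFibered] in
lemma evalAtId_isEquivalence (hX : FibCat.IsFibGrpd 𝒳.p) (U : C) :
    (FibCat.evalAtId 𝒳 U).IsEquivalence := by
  have := isFibered_of_isFibGrpd hX
  have hp := fun G => preservesStronglyCartesian_of_isFibGrpd (𝒳 := FibCat.overCat U) G hX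
  have : (ObjectProperty.ι (FibCat.PreservesStronglyCartesian (𝒳 := FibCat.overCat U) (𝒴 := 𝒳))).EssSurj :=
    ⟨fun G => ⟨⟨G, hp G⟩, ⟨Iso.refl _⟩⟩⟩
  have : (ObjectProperty.ι (FibCat.PreservesStronglyCartesian (𝒳 := FibCat.overCat U) (𝒴 := 𝒳))).IsEquivalence := { }
  have := eval_isEquivalence (𝒳 := 𝒳) (U := U)
  exact Functor.isEquivalence_of_comp_left
    (ObjectProperty.ι (FibCat.PreservesStronglyCartesian (𝒳 := FibCat.overCat U) (𝒴 := 𝒳))) _

end Groth.CatFib
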