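import Groth.Agent.CategoryFibred.EquivOver
import Groth.Prelude.Def_W4stkcategoriessitesFib

/-!
# Cartesian morphisms under equivalences over the base; fibrewise criteria
-/

open CategoryTheory CategoryTheory.Functor

universe v₄ u₄ v₃ u₃ v₂ u₂ v u

namespace Groth.CatFib

variable {C : Type u} [Category.{v} C] {𝒳 : BasedCategory.{v₂, u₂} C} {𝒴 : BasedCategory.{v₃, u₃} C}
  (F : 𝒳 ⥤ᵇ 𝒴)

section Cartesian

variable {R S : C} {a b : 𝒳.obj} (f : R ⟶ S) (φ : a ⟶ b)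

lemma isCartesian_of_map [F.toFunctor.Full] [F.toFunctor.Faithful]
    [hh : 𝒴.p.IsCartesian f (F.toFunctor.map φ)] : 𝒳.p.IsCartesian f φ := by
  have := BasedFunctor.isHomLift_map F f φ
  refine { universal_property := fun {a'} φ' _ => ?_ }
  have : 𝒴.p.IsHomLift f (F.toFunctor.map φ') := BasedFunctor.preserves_isHomLift F f φ'
  obtain ⟨χ, ⟨hχ, hc⟩, hu⟩ := hh.universal_property (F.toFunctor.map φ')
  refine ⟨F.toFunctor.preimage χ, ⟨?_, ?_⟩, ?_⟩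
  · rw [← BasedFunctor.isHomLift_iff F]; simpa using hχ
  · exact F.toFunctor.map_injective (by simpa using hc)
  · rintro τ ⟨hτ, hτ'⟩
    exact F.toFunctor.map_injective
      (by simpa using hu _ ⟨(BasedFunctor.isHomLift_iff F _ _).2 hτ, by rw [← F.toFunctor.map_comp, hτ']⟩)

lemma isStronglyCartesian_of_map [F.toFunctor.Full] [F.toFunctor.Faithful]
    [hh : 𝒴.p.IsStronglyCartesian f (F.toFunctor.map φ)] : 𝒳.p.IsStronglyCartesian f φ := by
  have := BasedFunctor.isHomLift_map F f φ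
  refine { universal_property' := fun {a'} g φ' _ => ?_ }
  have : 𝒴.p.IsHomLift (g ≫ f) (F.toFunctor.map φ') := BasedFunctor.preserves_isHomLift F _ φ'
  obtain ⟨χ, ⟨hχ, hc⟩, hu⟩ := IsStronglyCartesian.universal_property 𝒴.p f (F.toFunctor.map φ) g
    (g ≫ f) rfl (F.toFunctor.map φ')
  refine ⟨F.toFunctor.preimage χ, ⟨?_, ?_⟩, ?_⟩
  · rw [← BasedFunctor.isHomLift_iff F]; simpa using hχ
  · exact F.toFunctor.map_injective (by simpa using hc)
  · rintro τ ⟨hτ, hτ'⟩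
    exact F.toFunctor.map_injective
      (by simpa using hu _ ⟨(BasedFunctor.isHomLift_iff F _ _).2 hτ, by rw [← F.toFunctor.map_comp, hτ']⟩)

lemma isCartesian_map (hF : FibCat.IsEquivOver F) [hh : 𝒳.p.IsCartesian f φ] :
    𝒴.p.IsCartesian f (F.toFunctor.map φ) := by
  obtain ⟨⟨_, _⟩, hs⟩ := (isEquivOver_iff F).1 hF
  refine { universal_property := fun {z} ψ hψ => ?_ }
  obtain ⟨ξ, e, he⟩ := hs z
  obtain rfl : 𝒴.p.obj z = R := IsHomLift.domain_eq 𝒴.p f ψ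
  have : 𝒳.p.IsHomLift f (F.toFunctor.preimage (e.hom ≫ ψ)) := by
    rw [← BasedFunctor.isHomLift_iff F, Functor.map_preimage]; infer_instance
  obtain ⟨χ, ⟨hχ, hc⟩, hu⟩ := hh.universal_property (F.toFunctor.preimage (e.hom ≫ ψ))
  have : 𝒴.p.IsHomLift (𝟙 (𝒴.p.obj z)) (F.toFunctor.map χ) := BasedFunctor.preserves_isHomLift F _ χ
  refine ⟨e.inv ≫ F.toFunctor.map χ, ⟨inferInstance, ?_⟩, ?_⟩
  · rw [Category.assoc, ← F.toFunctor.map_comp, hc]; simp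
  · rintro τ ⟨hτ, hτ'⟩
    have hlift : 𝒳.p.IsHomLift (𝟙 (𝒴.p.obj z)) (F.toFunctor.preimage (e.hom ≫ τ)) := by
      rw [← BasedFunctor.isHomLift_iff F, Functor.map_preimage]; infer_instance
    rw [← hu _ ⟨hlift, F.toFunctor.map_injective (by simp [hτ'])⟩]
    simp

lemma isStronglyCartesian_map (hF : FibCat.IsEquivOver F) [hh : 𝒳.p.IsStronglyCartesian f φ] :
    𝒴.p.IsStronglyCartesian f (F.toFunctor.map φ) := by
  obtain ⟨⟨_, _⟩, hs⟩ := (isEquivOver_iff F).1 hF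
  refine { universal_property' := fun {z} g ψ hψ => ?_ }
  obtain ⟨ξ, e, he⟩ := hs z
  have : 𝒳.p.IsHomLift (g ≫ f) (F.toFunctor.preimage (e.hom ≫ ψ)) := by
    rw [← BasedFunctor.isHomLift_iff F, Functor.map_preimage]; infer_instance
  obtain ⟨χ, ⟨hχ, hc⟩, hu⟩ := IsStronglyCartesian.universal_property 𝒳.p f φ g (g ≫ f) rfl
    (F.toFunctor.preimage (e.hom ≫ ψ))
  have : 𝒴.p.IsHomLift g (F.toFunctor.map χ) := BasedFunctor.preserves_isHomLift F _ χ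
  refine ⟨e.inv ≫ F.toFunctor.map χ, ⟨inferInstance, ?_⟩, ?_⟩
  · rw [Category.assoc, ← F.toFunctor.map_comp, hc]; simp
  · rintro τ ⟨hτ, hτ'⟩
    have hlift : 𝒳.p.IsHomLift g (F.toFunctor.preimage (e.hom ≫ τ)) := by
      rw [← BasedFunctor.isHomLift_iff F, Functor.map_preimage]; infer_instance
    rw [← hu _ ⟨hlift, F.toFunctor.map_injective (by simp [hτ'])⟩]
    simp

end Cartesian

lemma isFibered_of_isEquivOver_source (hF : FibCat.IsEquivOver F) [𝒳.p.IsFibered] : 𝒴.p.IsFibered := by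
  refine Functor.IsFibered.of_exists_isStronglyCartesian fun y R f => ?_
  obtain ⟨ξ, e, he⟩ := exists_iso_of_isEquivOver hF y
  have hξ : 𝒳.p.obj ξ = 𝒴.p.obj y :=
    (F.w_obj ξ).symm.trans (IsHomLift.domain_eq 𝒴.p (𝟙 (𝒴.p.obj y)) e.hom)
  obtain ⟨b, φ, hφ⟩ := IsPreFibered.exists_isCartesian 𝒳.p hξ f
  have := isStronglyCartesian_map F f φ hF
  have h := (inferInstance : 𝒴.p.IsStronglyCartesian (f ≫ 𝟙 (𝒴.p.obj y)) (F.toFunctor.map φ ≫ e.hom))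
  rw [Category.comp_id] at h
  exact ⟨_, _, h⟩

lemma isFibered_iff_of_isEquivOver (hF : FibCat.IsEquivOver F) : 𝒳.p.IsFibered ↔ 𝒴.p.IsFibered := by
  obtain ⟨G, a, b⟩ := hF
  exact ⟨fun _ => isFibered_of_isEquivOver_source F ⟨G, a, b⟩,
    fun _ => isFibered_of_isEquivOver_source G ⟨F, b, a⟩⟩

lemma preservesStronglyCartesian_of_isFibGrpd (h𝒴 : FibCat.IsFibGrpd 𝒴.p) :
    FibCat.PreservesStronglyCartesian F := fun R S f a b φ hφ =>
  have : 𝒴.p.IsHomLift f (F.toFunctor.map φ) := BasedFunctor.preserves_isHomLift F f φ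
  stronglyCartesian_of_isHomLift h𝒴 f _

lemma preservesStronglyCartesian_of_map_self
    (h : ∀ ⦃a b : 𝒳.obj⦄ (φ : a ⟶ b), 𝒳.p.IsStronglyCartesian (𝒳.p.map φ) φ →
      𝒴.p.IsStronglyCartesian (𝒳.p.map φ) (F.toFunctor.map φ)) :
    FibCat.PreservesStronglyCartesian F := fun R S f a b φ hφ => by
  subst_hom_lift 𝒳.p f φ
  exact h φ hφ

section Fiber

lemma fiber_functor_ext {A : Type u₄} [Category.{v₄} A] {p : 𝒴.obj ⥤ C} {U : C} {H H' : A ⥤ p.Fiber U}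
    (h : H ⋙ Fiber.fiberInclusion = H' ⋙ Fiber.fiberInclusion) : H = H' :=
  Functor.ext (fun x => Fiber.fiberInclusion_obj_inj (Functor.congr_obj h x)) fun x y f =>
    Fiber.hom_ext (by simpa [eqToHom_map] using Functor.congr_hom h f)

lemma eq_fiberFunctor {U : C} (GU : 𝒳.p.Fiber U ⥤ 𝒴.p.Fiber U)
    (h : GU ⋙ Fiber.fiberInclusion = Fiber.fiberInclusion ⋙ F.toFunctor) :
    GU = FibCat.fiberFunctor F U :=
  fiber_functor_ext (h.trans (Fiber.inducedFunctor_comp _).symm)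

variable {U : C}

instance fiberFunctor_faithful [F.toFunctor.Faithful] : (FibCat.fiberFunctor F U).Faithful :=
  ⟨fun {x y} φ ψ h => Subtype.ext (F.toFunctor.map_injective (congrArg Subtype.val h))⟩

instance fiberFunctor_full [F.toFunctor.Full] : (FibCat.fiberFunctor F U).Full := by
  refine ⟨fun {x y} ψ => ?_⟩
  obtain ⟨φ, hφ⟩ := F.toFunctor.map_surjective ψ.1
  exact ⟨⟨φ, (BasedFunctor.isHomLift_iff F _ _).1 (hφ.symm ▸ ψ.2)⟩, Subtype.ext hφ⟩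

variable [𝒳.p.IsFibered] (hF : FibCat.PreservesStronglyCartesian F)

include hF in
lemma faithful_of_fiber (h : ∀ U : C, (FibCat.fiberFunctor F U).Faithful) : F.toFunctor.Faithful := by
  refine ⟨fun {a b} φ ψ hφψ => ?_⟩
  have : 𝒳.p.IsHomLift (𝒳.p.map φ) ψ := by
    rw [← BasedFunctor.isHomLift_iff F, ← hφψ]
    exact BasedFunctor.preserves_isHomLift F _ φ
  let f := 𝒳.p.map φ
  let γ := IsPreFibered.pullbackMap (p := 𝒳.p) (rfl : 𝒳.p.obj b = _) f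
  have := hF f γ inferInstance
  let A : 𝒳.p.Fiber (𝒳.p.obj a) := ⟨a, rfl⟩
  let B : 𝒳.p.Fiber (𝒳.p.obj a) := ⟨IsPreFibered.pullbackObj (p := 𝒳.p) (rfl : 𝒳.p.obj b = _) f,
    IsPreFibered.pullbackObj_proj _ _⟩
  let φ' : A ⟶ B := ⟨IsCartesian.map 𝒳.p f γ φ, inferInstance⟩
  let ψ' : A ⟶ B := ⟨IsCartesian.map 𝒳.p f γ ψ, inferInstance⟩
  have key : F.toFunctor.map φ'.1 = F.toFunctor.map ψ'.1 := by
    have := (BasedFunctor.isHomLift_iff F _ _).2 φ'.2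
    have := (BasedFunctor.isHomLift_iff F _ _).2 ψ'.2
    apply IsCartesian.ext 𝒴.p f (F.toFunctor.map γ)
    rw [← F.toFunctor.map_comp, ← F.toFunctor.map_comp]
    simpa [φ', ψ'] using hφψ
  have e : φ' = ψ' := (h _).map_injective (Subtype.ext key)
  rw [← IsCartesian.fac 𝒳.p f γ φ, ← IsCartesian.fac 𝒳.p f γ ψ]
  exact congrArg (· ≫ γ) (congrArg Subtype.val e)

include hF in
lemma full_of_fiber (h : ∀ U : C, (FibCat.fiberFunctor F U).Full) : F.toFunctor.Full := by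
  refine ⟨fun {a b} ψ => ?_⟩
  obtain ⟨f, hψ⟩ : ∃ f : 𝒳.p.obj a ⟶ 𝒳.p.obj b, 𝒴.p.IsHomLift f ψ :=
    ⟨eqToHom (F.w_obj a).symm ≫ 𝒴.p.map ψ ≫ eqToHom (F.w_obj b),
      IsHomLift.of_fac 𝒴.p _ ψ (F.w_obj a) (F.w_obj b) rfl⟩
  let γ := IsPreFibered.pullbackMap (p := 𝒳.p) (rfl : 𝒳.p.obj b = _) f
  have := hF f γ inferInstance
  let A : 𝒳.p.Fiber (𝒳.p.obj a) := ⟨a, rfl⟩
  let B : 𝒳.p.Fiber (𝒳.p.obj a) := ⟨IsPreFibered.pullbackObj (p := 𝒳.p) (rfl : 𝒳.p.obj b = _) f,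
    IsPreFibered.pullbackObj_proj _ _⟩
  let t := IsCartesian.map 𝒴.p f (F.toFunctor.map γ) ψ
  have ht : 𝒴.p.IsHomLift (𝟙 (𝒳.p.obj a)) t := IsCartesian.map_isHomLift 𝒴.p f (F.toFunctor.map γ) ψ
  let τ : (FibCat.fiberFunctor F _).obj A ⟶ (FibCat.fiberFunctor F _).obj B := ⟨t, ht⟩
  obtain ⟨χ, hχ⟩ := (FibCat.fiberFunctor F _).map_surjective τ
  refine ⟨χ.1 ≫ γ, ?_⟩
  have e : F.toFunctor.map χ.1 = IsCartesian.map 𝒴.p f (F.toFunctor.map γ) ψ :=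
    (Subtype.mk.inj hχ : _)
  rw [Functor.map_comp, e, IsCartesian.fac]

omit [𝒳.p.IsFibered] in
lemma fiber_isEquivalence (h : FibCat.IsEquivOver F) (U : C) :
    (FibCat.fiberFunctor F U).IsEquivalence := by
  obtain ⟨⟨_, _⟩, hs⟩ := (isEquivOver_iff F).1 h
  have : (FibCat.fiberFunctor F U).EssSurj := ⟨fun ⟨y, hy⟩ => by
    obtain ⟨ξ, e, he⟩ := hs y
    subst hy
    refine ⟨⟨ξ, (F.w_obj ξ).symm.trans (IsHomLift.domain_eq 𝒴.p (𝟙 (𝒴.p.obj y)) e.hom)⟩, ?_⟩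
    exact ⟨fiberIsoMk e he⟩⟩
  exact { }

include hF in
lemma isEquivOver_of_fiber (h : ∀ U : C, (FibCat.fiberFunctor F U).IsEquivalence) :
    FibCat.IsEquivOver F := by
  have := full_of_fiber F hF fun U => (h U).full
  have := faithful_of_fiber F hF fun U => (h U).faithful
  refine isEquivOver_of_fullyFaithful F fun η => ?_
  have := h (𝒴.p.obj η)
  let i := (FibCat.fiberFunctor F (𝒴.p.obj η)).objObjPreimageIso ⟨η, rfl⟩
  exact ⟨_, Fiber.fiberInclusion.mapIso i, i.hom.2⟩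

end Fiber

end Groth.CatFib
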