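import Groth.Agent.CategoryFibred.Comp
import Groth.Agent.CategoryFibred.Fiberwise
import Groth.Prelude.Def_W4stkcategoriessitesFib
import Mathlib.CategoryTheory.Comma.Basic

/-!
# Factorisation of a morphism of fibred categories
-/

set_option autoImplicit false
set_option backward.isDefEq.respectTransparency false
set_option backward.isDefEq.respectTransparency.types false

open CategoryTheory CategoryTheory.Functor

universe v u

namespace Groth.CatFib

variable {C : Type u} [Category.{v} C] {𝒳 𝒴 : BasedCategory.{v, max u v} C} (F : 𝒳 ⥤ᵇ 𝒴)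

/-- Triples `(y, x, y ⟶ F x vertical)`. -/
def facProp : ObjectProperty (Comma (𝟭 𝒴.obj) F.toFunctor) :=
  fun t => 𝒴.p.IsHomLift (𝟙 (𝒴.p.obj t.left)) t.hom

/-- Objects of the factorisation category. -/
abbrev FacObj : Type (max u v) := (facProp F).FullSubcategory

/-- The projection to `𝒴`. -/
abbrev facV₀ : FacObj F ⥤ 𝒴.obj := (facProp F).ι ⋙ Comma.fst _ _

/-- The factorisation category. -/
abbrev facCat : BasedCategory.{v, max u v} C := BasedCategory.ofFunctor (facV₀ F ⋙ 𝒴.p)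

variable {F}

lemma fac_over (t : FacObj F) : 𝒳.p.obj t.obj.right = 𝒴.p.obj t.obj.left :=
  (F.w_obj _).symm.trans (have : 𝒴.p.IsHomLift (𝟙 (𝒴.p.obj t.obj.left)) t.obj.hom := t.property; IsHomLift.codomain_eq 𝒴.p (𝟙 (𝒴.p.obj t.obj.left)) t.obj.hom)

lemma fac_map_left {R S : C} (f : R ⟶ S) {s t : FacObj F} (φ : s ⟶ t)
    (h : (facCat F).p.IsHomLift f φ) : 𝒴.p.IsHomLift f φ.hom.left :=
  IsHomLift.of_fac' _ _ _ (IsHomLift.domain_eq (facCat F).p f φ)
    (IsHomLift.codomain_eq (facCat F).p f φ) (IsHomLift.fac' (facCat F).p f φ)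

lemma fac_map_right {R S : C} (f : R ⟶ S) {s t : FacObj F} (φ : s ⟶ t)
    (h : (facCat F).p.IsHomLift f φ) : 𝒳.p.IsHomLift f φ.hom.right := by
  have := fac_map_left f φ h
  rw [← BasedFunctor.isHomLift_iff F]
  have hs : 𝒴.p.IsHomLift (𝟙 (𝒴.p.obj s.obj.left)) s.obj.hom := s.property
  have ht : 𝒴.p.IsHomLift (𝟙 (𝒴.p.obj t.obj.left)) t.obj.hom := t.property
  have hc := φ.hom.w
  simp only [Functor.id_map] at hc
  have hsS : 𝒴.p.obj s.obj.left = R := IsHomLift.domain_eq 𝒴.p f φ.hom.left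
  have htS : 𝒴.p.obj t.obj.left = S := IsHomLift.codomain_eq 𝒴.p f φ.hom.left
  subst hsS
  subst htS
  have h1 : 𝒴.p.IsHomLift f (φ.hom.left ≫ t.obj.hom) := inferInstance
  rw [hc] at h1
  have d : 𝒴.p.obj (F.toFunctor.obj s.obj.right) = 𝒴.p.obj s.obj.left :=
    (IsHomLift.codomain_eq 𝒴.p (𝟙 (𝒴.p.obj s.obj.left)) s.obj.hom)
  refine IsHomLift.of_fac' _ _ _ d
    (IsHomLift.codomain_eq 𝒴.p (𝟙 (𝒴.p.obj t.obj.left)) t.obj.hom) ?_
  have e1 := IsHomLift.fac' 𝒴.p f (s.obj.hom ≫ F.toFunctor.map φ.hom.right)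
  have e2 := IsHomLift.fac' 𝒴.p (𝟙 (𝒴.p.obj s.obj.left)) s.obj.hom
  rw [Functor.map_comp, e2] at e1
  simp only [eqToHom_refl, Category.id_comp] at e1
  rw [← cancel_epi (eqToHom d.symm), e1]
  simp

variable (F)

/-- `v : 𝒳' ⥤ᵇ 𝒴`. -/
def facV : facCat F ⥤ᵇ 𝒴 where
  toFunctor := facV₀ F
  w := rfl

/-- `w : 𝒳' ⥤ᵇ 𝒳`. -/
def facW : facCat F ⥤ᵇ 𝒳 where
  toFunctor := (facProp F).ι ⋙ Comma.snd _ _
  w := Functor.ext (fun t => fac_over t) (fun s t φ => by
    have := fac_map_right ((facCat F).p.map φ) φ (IsHomLift.map _ _)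
    exact IsHomLift.fac' 𝒳.p ((facCat F).p.map φ) φ.hom.right)

/-- `u : 𝒳 ⥤ᵇ 𝒳'`. -/
def facU : 𝒳 ⥤ᵇ facCat F where
  toFunctor :=
    { obj := fun x => ⟨⟨F.toFunctor.obj x, x, 𝟙 _⟩, IsHomLift.id rfl⟩
      map := fun {x y} a => ObjectProperty.homMk ⟨F.toFunctor.map a, a, by simp⟩
      map_id := fun x => ObjectProperty.hom_ext _ (CommaMorphism.ext (F.toFunctor.map_id x) rfl)
      map_comp := fun a b => ObjectProperty.hom_ext _ (CommaMorphism.ext (F.toFunctor.map_comp a b) rfl) }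
  w := F.w

lemma facU_comp_facV : BasedFunctor.comp (facU F) (facV F) = F := rfl

/-- The adjunction `w ⊣ u`. -/
def facAdj : (facW F).toFunctor ⊣ (facU F).toFunctor :=
  Adjunction.mkOfHomEquiv
    { homEquiv := fun t x =>
        { toFun := fun a => ObjectProperty.homMk ⟨t.obj.hom ≫ F.toFunctor.map a, a, by simp [facU]⟩
          invFun := fun φ => φ.hom.right
          left_inv := fun a => rfl
          right_inv := fun φ => by
            apply ObjectProperty.hom_ext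
            refine CommaMorphism.ext ?_ ?_ <;> [skip; rfl]
            have := φ.hom.w
            simpa [facU] using this.symm }
      homEquiv_naturality_left_symm := fun a b => rfl
      homEquiv_naturality_right := fun {t x y} a b => by
        apply ObjectProperty.hom_ext
        refine CommaMorphism.ext ?_ ?_ <;> [skip; rfl]
        simp [facU]
        exact (Category.assoc _ _ _).symm }

lemma facU_full : (facU F).toFunctor.Full :=
  ⟨fun {x y} φ => ⟨φ.hom.right, ObjectProperty.hom_ext _ (CommaMorphism.ext (by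
    have := φ.hom.w
    simpa [facU] using this.symm) rfl)⟩⟩

lemma facU_faithful : (facU F).toFunctor.Faithful :=
  ⟨fun {x y} φ ψ h => congrArg (fun k : (facU F).toFunctor.obj x ⟶ (facU F).toFunctor.obj y => k.hom.right) h⟩

variable {F} (hF : FibCat.PreservesStronglyCartesian F)
include hF

/-- A morphism with cartesian second component is strongly cartesian over `𝒴`. -/
lemma fac_isStronglyCartesian {R S : C} (f : R ⟶ S) {s t : FacObj F} (φ : s ⟶ t)
    (h : (facCat F).p.IsHomLift f φ) [𝒳.p.IsStronglyCartesian f φ.hom.right] :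
    (facV₀ F).IsStronglyCartesian φ.hom.left φ := by
  have : (facV₀ F).IsHomLift φ.hom.left φ := IsHomLift.map (facV₀ F) φ
  constructor
  intro r e ψ hψ
  have he : ψ.hom.left = e ≫ φ.hom.left := by
    have := IsHomLift.fac (facV₀ F) (e ≫ φ.hom.left) ψ
    simpa using this.symm
  have := fac_map_left f φ h
  have hfl := hF f φ.hom.right inferInstance
  have hr : 𝒴.p.IsHomLift (𝟙 (𝒴.p.obj r.obj.left)) r.obj.hom := r.property
  have hs : 𝒴.p.IsHomLift (𝟙 (𝒴.p.obj s.obj.left)) s.obj.hom := s.property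
  have ht : 𝒴.p.IsHomLift (𝟙 (𝒴.p.obj t.obj.left)) t.obj.hom := t.property
  obtain rfl : 𝒴.p.obj s.obj.left = R := IsHomLift.domain_eq 𝒴.p f φ.hom.left
  obtain rfl : 𝒴.p.obj t.obj.left = S := IsHomLift.codomain_eq 𝒴.p f φ.hom.left
  let g : 𝒴.p.obj r.obj.left ⟶ 𝒴.p.obj s.obj.left := 𝒴.p.map e
  have hge : 𝒴.p.IsHomLift g e := IsHomLift.map 𝒴.p e
  have hψl : 𝒴.p.IsHomLift (g ≫ f) ψ.hom.left := by rw [he]; infer_instance
  have hψ' : (facCat F).p.IsHomLift (g ≫ f) ψ :=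
    IsHomLift.of_fac' _ _ _ rfl rfl (IsHomLift.fac' 𝒴.p (g ≫ f) ψ.hom.left)
  have := fac_map_right (g ≫ f) ψ hψ'
  obtain ⟨a, ⟨ha, ha'⟩, hau⟩ := IsStronglyCartesian.universal_property 𝒳.p f φ.hom.right g (g ≫ f)
    rfl ψ.hom.right
  have hlift : 𝒴.p.IsHomLift g (F.toFunctor.map a) := BasedFunctor.preserves_isHomLift F g a
  have hw : e ≫ s.obj.hom = r.obj.hom ≫ F.toFunctor.map a := by
    have l1 : 𝒴.p.IsHomLift g (e ≫ s.obj.hom) := inferInstance
    have l2 : 𝒴.p.IsHomLift g (r.obj.hom ≫ F.toFunctor.map a) :=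
      IsHomLift.comp_lift_id_left' 𝒴.p (𝒴.p.obj r.obj.left) r.obj.hom g (F.toFunctor.map a)
    have l3 : 𝒴.p.IsStronglyCartesian f (F.toFunctor.map φ.hom.right) := hfl
    apply IsStronglyCartesian.ext 𝒴.p f (F.toFunctor.map φ.hom.right) g
    have w1 := φ.hom.w
    have w2 := ψ.hom.w
    simp only [Functor.id_map] at w1 w2
    rw [Category.assoc, Category.assoc, ← w1, ← F.toFunctor.map_comp, ha', ← w2, he, Category.assoc]
  refine ⟨ObjectProperty.homMk ⟨e, a, by simpa using hw⟩, ⟨?_, ?_⟩, ?_⟩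
  · exact IsHomLift.map (facV₀ F) (ObjectProperty.homMk ⟨e, a, by simpa using hw⟩ : r ⟶ s)
  · exact ObjectProperty.hom_ext _ (CommaMorphism.ext he.symm ha')
  · rintro χ ⟨hχ, hχ'⟩
    have e1 : χ.hom.left = e := by
      have := IsHomLift.fac (facV₀ F) e χ
      simpa using this.symm
    refine ObjectProperty.hom_ext _ (CommaMorphism.ext e1 (hau _ ⟨?_, ?_⟩))
    · exact fac_map_right g χ (IsHomLift.of_fac' _ _ _ rfl rfl (by
        show 𝒴.p.map χ.hom.left = _
        rw [e1]; simp [g]))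
    · exact congrArg (fun k : r ⟶ t => k.hom.right) hχ'

lemma fac_exists_lift [𝒳.p.IsFibered] {R S : C} (f : R ⟶ S) (t : FacObj F) (y : 𝒴.obj)
    (c : y ⟶ t.obj.left) [hc : 𝒴.p.IsHomLift f c] :
    ∃ (x : 𝒳.obj) (a : x ⟶ t.obj.right) (m : y ⟶ F.toFunctor.obj x)
      (hm : facProp F (⟨y, x, m⟩ : Comma (𝟭 𝒴.obj) F.toFunctor))
      (w : c ≫ t.obj.hom = m ≫ F.toFunctor.map a),
      𝒳.p.IsStronglyCartesian f a ∧
        (facCat F).p.IsHomLift f (ObjectProperty.homMk ⟨c, a, by simpa using w⟩ :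
          (⟨⟨y, x, m⟩, hm⟩ : FacObj F) ⟶ t) := by
  have ht : 𝒴.p.IsHomLift (𝟙 (𝒴.p.obj t.obj.left)) t.obj.hom := t.property
  obtain rfl : 𝒴.p.obj y = R := IsHomLift.domain_eq 𝒴.p f c
  obtain rfl : 𝒴.p.obj t.obj.left = S := IsHomLift.codomain_eq 𝒴.p f c
  obtain ⟨x, a, ha⟩ := IsPreFibered.exists_isCartesian 𝒳.p (fac_over t) f
  have : 𝒳.p.IsStronglyCartesian f a := inferInstance
  have hFa : 𝒴.p.IsStronglyCartesian f (F.toFunctor.map a) := hF f a this
  have l : 𝒴.p.IsHomLift f (c ≫ t.obj.hom) := inferInstance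
  obtain ⟨m, ⟨hm, hm'⟩, -⟩ := IsStronglyCartesian.universal_property 𝒴.p f (F.toFunctor.map a)
    (𝟙 (𝒴.p.obj y)) f (Category.id_comp f).symm (c ≫ t.obj.hom)
  exact ⟨x, a, m, hm, hm'.symm, this,
    IsHomLift.of_fac' _ _ _ rfl rfl (IsHomLift.fac' 𝒴.p f c)⟩

lemma facV_isFibered [𝒳.p.IsFibered] : (facV₀ F).IsFibered :=
  Functor.IsFibered.of_exists_isStronglyCartesian fun t y c => by
    have hc : 𝒴.p.IsHomLift (𝒴.p.map c) c := IsHomLift.map 𝒴.p c
    obtain ⟨x, a, m, hm, w, ha, hl⟩ := fac_exists_lift hF (𝒴.p.map c) t y c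
    exact ⟨⟨⟨y, x, m⟩, hm⟩, ObjectProperty.homMk ⟨c, a, by simpa using w⟩,
      @fac_isStronglyCartesian _ _ _ _ _ hF _ _ (𝒴.p.map c) _ _
        (ObjectProperty.homMk ⟨c, a, by simpa using w⟩ : (⟨⟨y, x, m⟩, hm⟩ : FacObj F) ⟶ t) hl ha⟩

/-- Both components cartesian implies cartesian. -/
lemma fac_isStronglyCartesian' {R S : C} (f : R ⟶ S) {s t : FacObj F} (φ : s ⟶ t)
    (h : (facCat F).p.IsHomLift f φ) [𝒳.p.IsStronglyCartesian f φ.hom.right]
    [hl : 𝒴.p.IsStronglyCartesian f φ.hom.left] : (facCat F).p.IsStronglyCartesian f φ :=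
  have := fac_isStronglyCartesian hF f φ h
  have : 𝒴.p.IsStronglyCartesian f ((facV₀ F).map φ) := hl
  isStronglyCartesian_comp f φ.hom.left φ

lemma fac_cartesian_components [𝒳.p.IsFibered] [𝒴.p.IsFibered] {R S : C} (f : R ⟶ S)
    {s t : FacObj F} (φ : s ⟶ t) (hφ : (facCat F).p.IsStronglyCartesian f φ) :
    𝒳.p.IsStronglyCartesian f φ.hom.right ∧ 𝒴.p.IsStronglyCartesian f φ.hom.left := by
  have hS : 𝒴.p.obj t.obj.left = S := IsHomLift.codomain_eq (facCat F).p f φ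
  obtain ⟨y, c, hc⟩ := IsPreFibered.exists_isCartesian 𝒴.p hS f
  have hc' : 𝒴.p.IsStronglyCartesian f c := inferInstance
  obtain ⟨x, a, m, hm, w, ha, hl⟩ := fac_exists_lift hF f t y c
  let ψ : (⟨⟨y, x, m⟩, hm⟩ : FacObj F) ⟶ t := ObjectProperty.homMk ⟨c, a, by simpa using w⟩
  have hψ : (facCat F).p.IsStronglyCartesian f ψ :=
    @fac_isStronglyCartesian' _ _ _ _ _ hF _ _ f _ _ ψ hl ha hc'
  let i : s ≅ (⟨⟨y, x, m⟩, hm⟩ : FacObj F) := IsCartesian.domainUniqueUpToIso (facCat F).p f ψ φ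
  have hi : i.hom ≫ ψ = φ := IsCartesian.fac (facCat F).p f ψ φ
  have li : (facCat F).p.IsHomLift (𝟙 R) i.hom := inferInstance
  have l1 := fac_map_left (𝟙 R) i.hom li
  have l2 := fac_map_right (𝟙 R) i.hom li
  have : IsIso i.hom.hom.left := ((facV₀ F).mapIso i).isIso_hom
  have : IsIso i.hom.hom.right := ((facW F).toFunctor.mapIso i).isIso_hom
  constructor
  · have h1 : 𝒳.p.IsStronglyCartesian (𝟙 R) i.hom.hom.right :=
      IsStronglyCartesian.of_isIso 𝒳.p (𝟙 R) _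
    have : 𝒳.p.IsStronglyCartesian f ψ.hom.right := ha
    have h2 : 𝒳.p.IsStronglyCartesian (𝟙 R ≫ f) (i.hom.hom.right ≫ ψ.hom.right) := inferInstance
    rw [Category.id_comp] at h2
    rw [← hi]
    exact h2
  · have h1 : 𝒴.p.IsStronglyCartesian (𝟙 R) i.hom.hom.left :=
      IsStronglyCartesian.of_isIso 𝒴.p (𝟙 R) _
    have : 𝒴.p.IsStronglyCartesian f ψ.hom.left := hc'
    have h2 : 𝒴.p.IsStronglyCartesian (𝟙 R ≫ f) (i.hom.hom.left ≫ ψ.hom.left) := inferInstance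
    rw [Category.id_comp] at h2
    rw [← hi]
    exact h2

lemma facU_preserves : FibCat.PreservesStronglyCartesian (facU F) := fun {R S} f {a b} φ hφ => by
  have hl : (facCat F).p.IsHomLift f ((facU F).toFunctor.map φ) :=
    BasedFunctor.preserves_isHomLift (facU F) f φ
  exact @fac_isStronglyCartesian' _ _ _ _ _ hF _ _ f _ _ ((facU F).toFunctor.map φ) hl hφ (hF f φ hφ)

end Groth.CatFib
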