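import Mathlib.CategoryTheory.Abelian.Refinements
import Mathlib.CategoryTheory.Subobject.Lattice
import Mathlib.CategoryTheory.Subobject.Limits
import Mathlib.CategoryTheory.Abelian.Exact

/-!
Generalised elements of subobjects in an abelian category: membership is `Subobject.Factors`, and images and
suprema are described up to refinements.
-/

set_option autoImplicit false

universe v u

open CategoryTheory CategoryTheory.Limits

namespace Groth.CatFib.Mem

variable {A : Type u} [Category.{v} A] [Abelian A] {X Y T : A}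

lemma arrow_comp {S : Subobject X} {t : T ⟶ X} (h : S.Factors t) : ∃ x : T ⟶ (S : A), x ≫ S.arrow = t :=
  ⟨_, Subobject.factorThru_arrow S t h⟩

lemma of_arrow (S : Subobject X) (x : T ⟶ (S : A)) : S.Factors (x ≫ S.arrow) :=
  Subobject.factors_comp_arrow _

lemma descend {S : Subobject X} {T' : A} (π : T' ⟶ T) [Epi π] {t : T ⟶ X} (h : S.Factors (π ≫ t)) :
    S.Factors t := by
  obtain ⟨x, hx⟩ := arrow_comp h
  have ht : t ≫ cokernel.π S.arrow = 0 := by
    rw [← cancel_epi π, comp_zero, ← Category.assoc, ← hx, Category.assoc, cokernel.condition, comp_zero]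
  rw [← Abelian.monoLift_comp S.arrow t ht]
  exact of_arrow S _

lemma le_iff {S S' : Subobject X} : S ≤ S' ↔ ∀ (T : A) (t : T ⟶ X), S.Factors t → S'.Factors t :=
  ⟨fun h _ t ht => Subobject.factors_of_le t h ht, fun h => Subobject.le_of_factors (h _ _ S.factors_self)⟩

lemma ext {S S' : Subobject X} (h : ∀ (T : A) (t : T ⟶ X), S.Factors t ↔ S'.Factors t) : S = S' :=
  le_antisymm (le_iff.2 fun T t => (h T t).1) (le_iff.2 fun T t => (h T t).2)

lemma img_iff {f : X ⟶ Y} {y : T ⟶ Y} :
    (imageSubobject f).Factors y ↔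
      ∃ (T' : A) (π : T' ⟶ T) (_ : Epi π) (x : T' ⟶ X), π ≫ y = x ≫ f := by
  constructor
  · intro h
    obtain ⟨T', π, hπ, x, hx⟩ :=
      surjective_up_to_refinements_of_epi (factorThruImageSubobject f) ((imageSubobject f).factorThru y h)
    refine ⟨T', π, hπ, x, ?_⟩
    have := hx =≫ (imageSubobject f).arrow
    simpa using this
  · rintro ⟨T', π, hπ, x, hx⟩
    refine descend π ?_
    rw [hx]
    exact Subobject.factors_of_factors_right x (imageSubobject_factors_comp_self f (𝟙 X) |> (by simpa using ·))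

lemma imgSub_iff {f : X ⟶ Y} {S : Subobject X} {y : T ⟶ Y} :
    (imageSubobject (S.arrow ≫ f)).Factors y ↔
      ∃ (T' : A) (π : T' ⟶ T) (_ : Epi π) (x : T' ⟶ X), S.Factors x ∧ π ≫ y = x ≫ f := by
  rw [img_iff]
  constructor
  · rintro ⟨T', π, hπ, x, hx⟩
    exact ⟨T', π, hπ, x ≫ S.arrow, of_arrow S x, by rw [hx, Category.assoc]⟩
  · rintro ⟨T', π, hπ, x, hm, hx⟩
    obtain ⟨x', rfl⟩ := arrow_comp hm
    exact ⟨T', π, hπ, x', by rw [hx, Category.assoc]⟩

lemma imgSub_mk (f : X ⟶ Y) {S : Subobject X} {x : T ⟶ X} (h : S.Factors x) :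
    (imageSubobject (S.arrow ≫ f)).Factors (x ≫ f) :=
  imgSub_iff.2 ⟨T, 𝟙 T, inferInstance, x, h, Category.id_comp _⟩

lemma pullback_iff {f : X ⟶ Y} {S : Subobject Y} {x : T ⟶ X} :
    ((Subobject.pullback f).obj S).Factors x ↔ S.Factors (x ≫ f) := by
  constructor
  · intro h
    obtain ⟨x', rfl⟩ := arrow_comp h
    rw [Category.assoc, ← (Subobject.isPullback f S).w, ← Category.assoc]
    exact of_arrow S _
  · intro h
    obtain ⟨y, hy⟩ := arrow_comp h
    rw [← (Subobject.isPullback f S).lift_snd y x hy]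
    exact of_arrow _ _

lemma inf_iff {S S' : Subobject X} {t : T ⟶ X} : (S ⊓ S').Factors t ↔ S.Factors t ∧ S'.Factors t :=
  Subobject.inf_factors _

lemma zero (S : Subobject X) : S.Factors (0 : T ⟶ X) := by
  have := of_arrow S (0 : T ⟶ (S : A))
  rwa [zero_comp] at this

lemma add {S : Subobject X} {a b : T ⟶ X} (ha : S.Factors a) (hb : S.Factors b) : S.Factors (a + b) :=
  Subobject.factors_add a b ha hb

lemma neg {S : Subobject X} {a : T ⟶ X} (ha : S.Factors a) : S.Factors (-a) := by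
  obtain ⟨x, rfl⟩ := arrow_comp ha
  rw [← Preadditive.neg_comp]
  exact of_arrow _ _

lemma sub {S : Subobject X} {a b : T ⟶ X} (ha : S.Factors a) (hb : S.Factors b) : S.Factors (a - b) := by
  rw [sub_eq_add_neg]
  exact add ha (neg hb)

lemma comp_left {S : Subobject X} {t : T ⟶ X} {T' : A} (π : T' ⟶ T) (h : S.Factors t) : S.Factors (π ≫ t) :=
  Subobject.factors_of_factors_right π h

lemma bot_iff {t : T ⟶ X} : (⊥ : Subobject X).Factors t ↔ t = 0 :=
  Subobject.bot_factors_iff_zero t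

lemma top (t : T ⟶ X) : (⊤ : Subobject X).Factors t :=
  Subobject.top_factors t

lemma sup_iff {S S' : Subobject X} {t : T ⟶ X} :
    (S ⊔ S').Factors t ↔
      ∃ (T' : A) (π : T' ⟶ T) (_ : Epi π) (a b : T' ⟶ X), S.Factors a ∧ S'.Factors b ∧ π ≫ t = a + b := by
  constructor
  · intro h
    have hle : S ⊔ S' ≤ imageSubobject (biprod.desc S.arrow S'.arrow) := by
      refine sup_le (le_iff.2 fun W w hw => img_iff.2 ?_) (le_iff.2 fun W w hw => img_iff.2 ?_)
      · obtain ⟨x, rfl⟩ := arrow_comp hw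
        exact ⟨W, 𝟙 W, inferInstance, x ≫ biprod.inl, by simp⟩
      · obtain ⟨x, rfl⟩ := arrow_comp hw
        exact ⟨W, 𝟙 W, inferInstance, x ≫ biprod.inr, by simp⟩
    obtain ⟨T', π, hπ, x, hx⟩ := img_iff.1 (Subobject.factors_of_le t hle h)
    refine ⟨T', π, hπ, (x ≫ biprod.fst) ≫ S.arrow, (x ≫ biprod.snd) ≫ S'.arrow, of_arrow _ _, of_arrow _ _, ?_⟩
    rw [hx, biprod.desc_eq, Preadditive.comp_add, Category.assoc, Category.assoc]
  · rintro ⟨T', π, hπ, a, b, ha, hb, e⟩
    refine descend π ?_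
    rw [e]
    exact add (Subobject.factors_of_le a le_sup_left ha) (Subobject.factors_of_le b le_sup_right hb)

end Groth.CatFib.Mem
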