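import Groth.Prelude.Def_SpSeq
import Groth.Agent.CategoryFibred.SubobjMem
import Mathlib.Algebra.Homology.Refinements
import Mathlib.Order.Interval.Finset.Defs
import Mathlib.Data.Int.Interval
import Mathlib.Data.Set.Finite.Lattice

/-!
Filtered complexes with the generalised-element calculus.
-/

set_option autoImplicit false

universe v u

open CategoryTheory CategoryTheory.Limits SpSeq

namespace Groth.CatFib.FilEl

variable {A : Type u} [Category.{v} A] [Abelian A] (K : FilCx A) {T : A}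

lemma filX_iff {p n : ℤ} {t : T ⟶ K.obj.X n} :
    (K.filX p n).Factors t ↔ ∃ y : T ⟶ (K.fil p : CochainComplex A ℤ).X n, y ≫ (K.fil p).arrow.f n = t :=
  Subobject.mk_factors_iff _ _

lemma mono_step {p q : ℤ} (h : p ≤ q) {n : ℤ} {t : T ⟶ K.obj.X n} (ht : (K.filX q n).Factors t) :
    (K.filX p n).Factors t :=
  Subobject.factors_of_le t (K.filX_anti n h) ht

lemma d_mem {p n m : ℤ} {t : T ⟶ K.obj.X n} (ht : (K.filX p n).Factors t) :
    (K.filX p m).Factors (t ≫ K.obj.d n m) := by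
  obtain ⟨y, rfl⟩ := (filX_iff K).1 ht
  refine (filX_iff K).2 ⟨y ≫ (K.fil p : CochainComplex A ℤ).d n m, ?_⟩
  rw [Category.assoc, Category.assoc, HomologicalComplex.Hom.comm]

lemma step_d_eq_zero {p n m : ℤ} (y : T ⟶ (K.fil p : CochainComplex A ℤ).X n)
    (h : (y ≫ (K.fil p).arrow.f n) ≫ K.obj.d n m = 0) : y ≫ (K.fil p : CochainComplex A ℤ).d n m = 0 := by
  rw [← cancel_mono ((K.fil p).arrow.f m), zero_comp, Category.assoc, ← HomologicalComplex.Hom.comm,
    ← Category.assoc, h]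

/-- A cycle of a step with vanishing cohomology is the boundary of an element of the step. -/
lemma vanish {p l n : ℤ} (hl : l + 1 = n) (h : IsZero ((K.fil p : CochainComplex A ℤ).homology n)) {x : T ⟶ K.obj.X n}
    (hx : (K.filX p n).Factors x) (hd : x ≫ K.obj.d n (n + 1) = 0) :
    ∃ (T' : A) (π : T' ⟶ T) (_ : Epi π) (z : T' ⟶ K.obj.X l),
      (K.filX p l).Factors z ∧ π ≫ x = z ≫ K.obj.d l n := by
  obtain ⟨y, rfl⟩ := (filX_iff K).1 hx
  obtain ⟨T', π, hπ, z, hz⟩ := ((K.fil p : CochainComplex A ℤ).liftCycles_comp_homologyπ_eq_zero_iff_up_to_refinements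
    l n (n + 1) (by simp; omega) (CochainComplex.next ℤ n) y (step_d_eq_zero K y hd)).1 (h.eq_of_tgt _ _)
  refine ⟨T', π, hπ, z ≫ (K.fil p).arrow.f l, (filX_iff K).2 ⟨z, rfl⟩, ?_⟩
  rw [reassoc_of% hz, Category.assoc, HomologicalComplex.Hom.comm]

/-- If the cohomology of a step injects, a boundary in the step is the boundary of an element of the step. -/
lemma inj {p l n : ℤ} (hl : l + 1 = n) (h : Mono (HomologicalComplex.homologyMap (K.fil p).arrow n)) {x : T ⟶ K.obj.X n}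
    (hx : (K.filX p n).Factors x) (w : T ⟶ K.obj.X l) (hw : x = w ≫ K.obj.d l n) :
    ∃ (T' : A) (π : T' ⟶ T) (_ : Epi π) (z : T' ⟶ K.obj.X l),
      (K.filX p l).Factors z ∧ π ≫ x = z ≫ K.obj.d l n := by
  obtain ⟨y, rfl⟩ := (filX_iff K).1 hx
  have hd : (y ≫ (K.fil p).arrow.f n) ≫ K.obj.d n (n + 1) = 0 := by
    rw [hw, Category.assoc, K.obj.d_comp_d, comp_zero]
  obtain ⟨T', π, hπ, z, hz⟩ := (HomologicalComplex.mono_homologyMap_iff_up_to_refinements (K.fil p).arrow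
    l n (n + 1) (by simp; omega) (CochainComplex.next ℤ n)).1 h y (step_d_eq_zero K y hd) w hw
  refine ⟨T', π, hπ, z ≫ (K.fil p).arrow.f l, (filX_iff K).2 ⟨z, rfl⟩, ?_⟩
  rw [reassoc_of% hz, Category.assoc, HomologicalComplex.Hom.comm]

/-- If the cohomology of a step surjects, a cycle is homologous to a cycle of the step. -/
lemma surj {p n : ℤ} (h : Epi (HomologicalComplex.homologyMap (K.fil p).arrow n)) (x : T ⟶ K.obj.X n)
    (hd : x ≫ K.obj.d n (n + 1) = 0) :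
    ∃ (T' : A) (π : T' ⟶ T) (_ : Epi π) (y : T' ⟶ K.obj.X n) (w : T' ⟶ K.obj.X (n - 1)),
      (K.filX p n).Factors y ∧ y ≫ K.obj.d n (n + 1) = 0 ∧ π ≫ x = y + w ≫ K.obj.d (n - 1) n := by
  obtain ⟨T', π, hπ, y, hy, w, hw⟩ := (HomologicalComplex.epi_homologyMap_iff_up_to_refinements (K.fil p).arrow
    (n - 1) n (n + 1) (CochainComplex.prev ℤ n) (CochainComplex.next ℤ n)).1 h x hd
  refine ⟨T', π, hπ, y ≫ (K.fil p).arrow.f n, w, (filX_iff K).2 ⟨y, rfl⟩, ?_, hw⟩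
  rw [Category.assoc, HomologicalComplex.Hom.comm, ← Category.assoc, hy, zero_comp]

lemma ker_le_pullback {X Y : A} (f : X ⟶ Y) {S : Subobject Y} {t : T ⟶ X} (h : (kernelSubobject f).Factors t) :
    ((Subobject.pullback f).obj S).Factors t := by
  rw [Mem.pullback_iff, (kernelSubobject_factors_iff _ _).1 h]
  exact Mem.zero S

lemma ZTop_le_ZSub (r : ℕ) (p n : ℤ) : K.ZTop p n ≤ K.ZSub r p n :=
  sup_le_sup_right (inf_le_inf_left _ (FilCx.kernelSubobject_le_pullback _ _)) _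

lemma BSub_le_BBot (r : ℕ) (p n : ℤ) : K.BSub r p n ≤ K.BBot p n :=
  sup_le_sup_right (inf_le_inf_left _ (imageSubobject_comp_le _ _)) _

lemma mem_sup_left {X : A} {S S' : Subobject X} {t : T ⟶ X} (h : S.Factors t) : (S ⊔ S').Factors t :=
  Subobject.factors_of_le t le_sup_left h

lemma mem_sup_right {X : A} {S S' : Subobject X} {t : T ⟶ X} (h : S'.Factors t) : (S ⊔ S').Factors t :=
  Subobject.factors_of_le t le_sup_right h

/-- `ZSub` stabilises once the cohomology of the deep steps vanishes. -/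
lemma ZSub_le_ZTop {r : ℕ} (hr : 1 ≤ r) {p n : ℤ}
    (h : IsZero ((K.fil (p + r) : CochainComplex A ℤ).homology (n + 1))) : K.ZSub r p n ≤ K.ZTop p n := by
  refine sup_le (Mem.le_iff.2 fun T x hx => ?_) le_sup_right
  obtain ⟨hxF, hdx⟩ := Mem.inf_iff.1 hx
  rw [Mem.pullback_iff] at hdx
  obtain ⟨T', π, hπ, z, hz, e⟩ := vanish K (show n + 1 = n + 1 from rfl) h hdx (by rw [Category.assoc, K.obj.d_comp_d, comp_zero])
  refine Mem.descend π ?_
  rw [show π ≫ x = (π ≫ x - z) + z from (sub_add_cancel _ _).symm]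
  refine Mem.add (mem_sup_left (Mem.inf_iff.2 ⟨Mem.sub (Mem.comp_left π hxF) (mono_step K (by omega) hz), ?_⟩))
    (mem_sup_right (mono_step K (by omega) hz))
  refine kernelSubobject_factors _ _ ?_
  rw [Preadditive.sub_comp, Category.assoc, e, sub_self]

/-- `BSub` stabilises once the cohomology of the shallow steps injects. -/
lemma BBot_le_BSub {r : ℕ} (hr : 1 ≤ r) {p n : ℤ}
    (h : Mono (HomologicalComplex.homologyMap (K.fil (p - r + 1)).arrow n)) : K.BBot p n ≤ K.BSub r p n := by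
  refine sup_le (Mem.le_iff.2 fun T x hx => ?_) le_sup_right
  obtain ⟨hxF, hxd⟩ := Mem.inf_iff.1 hx
  obtain ⟨T', π, hπ, w, hw⟩ := Mem.img_iff.1 hxd
  obtain ⟨T'', π', hπ', z, hz, e⟩ := inj K (sub_add_cancel n 1) h (mono_step K (by omega) (Mem.comp_left π hxF)) w hw
  refine Mem.descend (π' ≫ π) (mem_sup_left (Mem.inf_iff.2 ⟨Mem.comp_left _ hxF, ?_⟩))
  rw [Category.assoc, e]
  exact Mem.imgSub_mk _ hz

/-- The first page vanishes where the cohomology of two consecutive steps vanishes. -/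
lemma ZSub_one_le_BSub_one_high {p n : ℤ} (h : IsZero ((K.fil (p + 1) : CochainComplex A ℤ).homology (n + 1)))
    (h' : IsZero ((K.fil p : CochainComplex A ℤ).homology n)) : K.ZSub 1 p n ≤ K.BSub 1 p n := by
  refine sup_le (Mem.le_iff.2 fun T x hx => ?_) le_sup_right
  obtain ⟨hxF, hdx⟩ := Mem.inf_iff.1 hx
  rw [Mem.pullback_iff, Nat.cast_one] at hdx
  obtain ⟨T', π, hπ, z, hz, e⟩ := vanish K (show n + 1 = n + 1 from rfl) h hdx (by rw [Category.assoc, K.obj.d_comp_d, comp_zero])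
  have hF := Mem.sub (Mem.comp_left π hxF) (mono_step K (Int.le_add_one le_rfl) hz)
  obtain ⟨T'', π', hπ', w, hw, e'⟩ := vanish K (sub_add_cancel n 1) h' hF (by rw [Preadditive.sub_comp, Category.assoc, e, sub_self])
  refine Mem.descend (π' ≫ π) ?_
  rw [show (π' ≫ π) ≫ x = π' ≫ (π ≫ x - z) + π' ≫ z by rw [Category.assoc, Preadditive.comp_sub, sub_add_cancel]]
  refine Mem.add (mem_sup_left (Mem.inf_iff.2 ⟨Mem.comp_left _ hF, ?_⟩)) (mem_sup_right (Mem.comp_left _ hz))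
  rw [e']
  exact Mem.imgSub_mk _ (mono_step K (by omega) hw)

/-- The first page vanishes where the cohomology of two consecutive steps is that of the whole complex. -/
lemma ZSub_one_le_BSub_one_low {p n : ℤ} (h : Mono (HomologicalComplex.homologyMap (K.fil (p + 1)).arrow (n + 1)))
    (h' : Epi (HomologicalComplex.homologyMap (K.fil (p + 1)).arrow n))
    (h'' : Mono (HomologicalComplex.homologyMap (K.fil p).arrow n)) : K.ZSub 1 p n ≤ K.BSub 1 p n := by
  refine sup_le (Mem.le_iff.2 fun T x hx => ?_) le_sup_right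
  obtain ⟨hxF, hdx⟩ := Mem.inf_iff.1 hx
  rw [Mem.pullback_iff, Nat.cast_one] at hdx
  obtain ⟨T₁, π₁, hπ₁, z, hz, e⟩ := inj K (show n + 1 = n + 1 from rfl) h hdx x rfl
  have hF := Mem.sub (Mem.comp_left π₁ hxF) (mono_step K (Int.le_add_one le_rfl) hz)
  have hc : (π₁ ≫ x - z) ≫ K.obj.d n (n + 1) = 0 := by rw [Preadditive.sub_comp, Category.assoc, e, sub_self]
  obtain ⟨T₂, π₂, hπ₂, y, w, hy, -, e₂⟩ := surj K h' _ hc
  have hy' := mono_step K (Int.le_add_one le_rfl) hy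
  obtain ⟨T₃, π₃, hπ₃, u, hu, e₃⟩ := inj K (sub_add_cancel n 1) h'' (x := π₂ ≫ (π₁ ≫ x - z) - y) (Mem.sub (Mem.comp_left _ hF) hy') w
    (by rw [e₂, add_sub_cancel_left])
  refine Mem.descend (π₃ ≫ π₂ ≫ π₁) ?_
  rw [show (π₃ ≫ π₂ ≫ π₁) ≫ x = π₃ ≫ (π₂ ≫ (π₁ ≫ x - z) - y) + (π₃ ≫ y + π₃ ≫ π₂ ≫ z) by
    simp only [Preadditive.comp_sub, Category.assoc]; abel]
  refine Mem.add (mem_sup_left (Mem.inf_iff.2 ⟨Mem.comp_left _ (Mem.sub (Mem.comp_left _ hF) hy'), ?_⟩))
    (mem_sup_right (Mem.add (Mem.comp_left _ hy) (Mem.comp_left _ (Mem.comp_left _ hz))))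
  rw [e₃]
  exact Mem.imgSub_mk _ (mono_step K (by omega) hu)

lemma isZero_subquot {X : A} {Z B : Subobject X} (h : B ≤ Z) (h' : Z ≤ B) : IsZero (subquot Z B h) := by
  obtain rfl : B = Z := le_antisymm h h'
  have : IsIso (B.ofLE B h) := by rw [Subobject.ofLE_refl]; infer_instance
  exact (isZero_zero A).of_iso (cokernel.ofEpi (B.ofLE B h))

lemma homologyMap_zero_of_isZero {p n : ℤ} (h : IsZero ((K.fil p : CochainComplex A ℤ).homology n)) :
    K.filH p n = ⊥ := by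
  refine le_bot_iff.1 (Mem.le_iff.2 fun T t ht => Mem.bot_iff.2 ?_)
  obtain ⟨T', π, hπ, x, hx⟩ := Mem.img_iff.1 ht
  rw [← cancel_epi π, comp_zero, hx, h.eq_of_tgt x 0, zero_comp]

lemma filH_top_of_epi {p n : ℤ} (h : Epi (HomologicalComplex.homologyMap (K.fil p).arrow n)) :
    K.filH p n = ⊤ := by
  refine top_le_iff.1 (Mem.le_iff.2 fun T t _ => ?_)
  obtain ⟨T', π, hπ, x, hx⟩ := surjective_up_to_refinements_of_epi (HomologicalComplex.homologyMap (K.fil p).arrow n) t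
  exact Mem.img_iff.2 ⟨T', π, hπ, x, hx⟩

/-- The hypotheses of eventual constancy give regularity, convergence and finiteness. -/
theorem converges_of_eventually
    (h0 : ∀ n : ℤ, ∃ p₀ : ℤ, ∀ p : ℤ, p₀ ≤ p → IsZero ((K.fil p : CochainComplex A ℤ).homology n))
    (h1 : ∀ n : ℤ, ∃ p₁ : ℤ, ∀ p : ℤ, p ≤ p₁ → IsIso (HomologicalComplex.homologyMap (K.fil p).arrow n)) :
    K.IsBounded 1 ∧ (∀ n : ℤ, (K.HFil n).IsFinite) ∧ K.Converges := by
  have stZ : ∀ p n : ℤ, ∃ r₀ : ℕ, ∀ r, r₀ ≤ r → K.ZSub r p n = K.ZTop p n := by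
    intro p n
    obtain ⟨p₀, hp₀⟩ := h0 (n + 1)
    exact ⟨(p₀ - p).toNat + 1, fun r hr =>
      le_antisymm (ZSub_le_ZTop K (by omega) (hp₀ _ (by omega))) (ZTop_le_ZSub K r p n)⟩
  have stB : ∀ p n : ℤ, ∃ r₀ : ℕ, ∀ r, r₀ ≤ r → K.BSub r p n = K.BBot p n := by
    intro p n
    obtain ⟨p₁, hp₁⟩ := h1 n
    refine ⟨(p + 1 - p₁).toNat + 1, fun r hr => ?_⟩
    have := hp₁ (p - r + 1) (by omega)
    exact le_antisymm (BSub_le_BBot K r p n) (BBot_le_BSub K (by omega) inferInstance)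
  have fin : ∀ n, (K.HFil n).IsFinite := fun n => by
    obtain ⟨p₀, hp₀⟩ := h0 n
    obtain ⟨p₁, hp₁⟩ := h1 n
    have := hp₁ p₁ le_rfl
    exact ⟨⟨p₁, filH_top_of_epi K inferInstance⟩, ⟨p₀, homologyMap_zero_of_isZero K (hp₀ p₀ le_rfl)⟩⟩
  refine ⟨fun n => ?_, fin, ?_, ⟨fun p n => ⟨?_, ?_⟩, fun n => ⟨?_, ?_⟩⟩, fun n => ?_⟩
  · obtain ⟨p₀, hp₀⟩ := h0 n
    obtain ⟨p₀', hp₀'⟩ := h0 (n + 1)
    obtain ⟨p₁, hp₁⟩ := h1 n
    obtain ⟨p₁', hp₁'⟩ := h1 (n + 1)
    refine (Set.finite_Icc (min p₁ p₁') (max p₀ p₀')).subset fun p hp => ?_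
    by_contra hcon
    simp only [Set.mem_Icc, not_and_or, not_le] at hcon
    refine hp (isZero_subquot _ ?_)
    rcases hcon with hc | hc
    · have := hp₁' (p + 1) (by omega)
      have := hp₁ (p + 1) (by omega)
      have := hp₁ p (by omega)
      exact ZSub_one_le_BSub_one_low K inferInstance inferInstance inferInstance
    · exact ZSub_one_le_BSub_one_high K (hp₀' _ (by omega)) (hp₀ _ (by omega))
  · intro p n
    obtain ⟨r₀, hr₀⟩ := stZ p n
    exact ⟨r₀, fun r hr => (hr₀ r hr).trans (hr₀ r₀ le_rfl).symm⟩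
  · obtain ⟨r₀, hr₀⟩ := stZ p n
    refine ⟨?_, fun S hS => (hr₀ r₀ le_rfl) ▸ hS ⟨r₀, rfl⟩⟩
    rintro _ ⟨r, rfl⟩
    exact ZTop_le_ZSub K r p n
  · obtain ⟨r₀, hr₀⟩ := stB p n
    refine ⟨?_, fun S hS => (hr₀ r₀ le_rfl) ▸ hS ⟨r₀, rfl⟩⟩
    rintro _ ⟨r, rfl⟩
    exact BSub_le_BBot K r p n
  · obtain ⟨b, hb⟩ := (fin n).2
    exact ⟨fun _ _ => bot_le, fun S hS => hb ▸ hS ⟨b, rfl⟩⟩
  · obtain ⟨a, ha⟩ := (fin n).1
    exact ⟨fun _ _ => le_top, fun S hS => ha ▸ hS ⟨a, rfl⟩⟩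
  · obtain ⟨b, hb⟩ := (fin n).2
    intro T f hf
    have iso : ∀ p, b ≤ p → IsIso (cokernel.π ((K.HFil n).fil p).arrow) := fun p hp => by
      have hz : ((K.HFil n).fil p).arrow = 0 := by
        rw [show (K.HFil n).fil p = ⊥ from le_bot_iff.1 (((K.HFil n).anti hp).trans hb.le)]
        exact Subobject.bot_arrow
      rw [show cokernel.π ((K.HFil n).fil p).arrow = (cokernelIsoOfEq hz ≪≫ cokernelZeroIsoTarget).inv by
        simp [← cancel_mono (cokernelIsoOfEq hz).hom]]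
      infer_instance
    have := iso b le_rfl
    refine ⟨f b ≫ inv (cokernel.π ((K.HFil n).fil b).arrow), fun p => ?_⟩
    rcases le_total p b with h | h
    · rw [← hf p b h, Category.assoc]
      refine congrArg (f b ≫ ·) ?_
      rw [IsIso.inv_comp_eq]
      exact (cokernel.π_desc _ _ _).symm
    · have := iso p h
      have hm : IsIso ((K.HFil n).quotMap h) := by
        have e : cokernel.π ((K.HFil n).fil p).arrow ≫ (K.HFil n).quotMap h = cokernel.π ((K.HFil n).fil b).arrow :=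
          cokernel.π_desc _ _ _
        exact IsIso.of_isIso_fac_left e
      rw [← cancel_mono ((K.HFil n).quotMap h), hf b p h, Category.assoc, Category.assoc]
      refine (congrArg (f b ≫ ·) ?_).trans (Category.comp_id _)
      rw [IsIso.inv_comp_eq, Category.comp_id]
      exact cokernel.π_desc _ _ _

end Groth.CatFib.FilEl
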