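import Groth.Agent.CategoryFibred.FilCxElem
import Mathlib.Algebra.Homology.ExactSequence

/-!
Turning the page of the spectral sequence of a filtered complex, and its limit terms, inside a weak Serre class.
-/

set_option autoImplicit false

universe v u

open CategoryTheory CategoryTheory.Limits ZeroObject SpSeq

namespace Groth.CatFib.FilEl

variable {A : Type u} [Category.{v} A] [Abelian A]

/-- The projection onto a subquotient. -/
noncomputable def subπ {X : A} {Z B : Subobject X} (h : B ≤ Z) : (Z : A) ⟶ subquot Z B h :=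
  cokernel.π _

instance epi_subπ {X : A} {Z B : Subobject X} (h : B ≤ Z) : Epi (subπ h) :=
  inferInstanceAs (Epi (cokernel.π _))

lemma comp_subπ_eq_zero_iff {X T : A} {Z B : Subobject X} (h : B ≤ Z) (x : T ⟶ (Z : A)) :
    x ≫ subπ h = 0 ↔ B.Factors (x ≫ Z.arrow) := by
  constructor
  · intro e
    obtain ⟨T', π, hπ, y, hy⟩ :=
      (ShortComplex.exact_of_g_is_cokernel (ShortComplex.mk (B.ofLE Z h) (subπ h) (cokernel.condition _))
        (cokernelIsCokernel _)).exact_up_to_refinements x e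
    refine Mem.descend π ?_
    rw [reassoc_of% hy, Subobject.ofLE_arrow]
    exact Mem.of_arrow B y
  · intro e
    obtain ⟨y, hy⟩ := Mem.arrow_comp e
    have : x = y ≫ B.ofLE Z h := by
      rw [← cancel_mono Z.arrow, Category.assoc, Subobject.ofLE_arrow, hy]
    rw [this, Category.assoc]
    exact (congrArg (y ≫ ·) (cokernel.condition _)).trans comp_zero

lemma exists_iso_of_kernels {W X Y : A} (f : W ⟶ X) (g : W ⟶ Y) [Epi f] [Epi g]
    (h : ∀ (T : A) (w : T ⟶ W), w ≫ f = 0 ↔ w ≫ g = 0) : Nonempty (X ≅ Y) := by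
  have hz : kernel.ι f ≫ g = 0 := (h _ _).1 (kernel.condition f)
  let q : X ⟶ Y := Abelian.epiDesc f g hz
  have hq : f ≫ q = g := Abelian.comp_epiDesc f g hz
  have : Epi q := by
    have : Epi (f ≫ q) := by rw [hq]; infer_instance
    exact epi_of_epi f q
  have : Mono q := Preadditive.mono_of_cancel_zero _ fun {T} t ht => by
    obtain ⟨T', π, hπ, w, hw⟩ := surjective_up_to_refinements_of_epi f t
    have : w ≫ f = 0 := (h _ _).2 (by rw [← hq, ← Category.assoc, ← hw, Category.assoc, ht, comp_zero])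
    rw [← cancel_epi π, hw, this, comp_zero]
  have := isIso_of_mono_of_epi q
  exact ⟨asIso q⟩

/-- A weak Serre class. -/
structure WeakSerre (P : ObjectProperty A) : Prop where
  iso : ∀ {X Y : A}, (X ≅ Y) → P X → P Y
  zero : ∀ {X : A}, IsZero X → P X
  five : ∀ S : ComposableArrows A 4, S.Exact → P (S.obj 0) → P (S.obj 1) → P (S.obj 3) → P (S.obj 4) → P (S.obj 2)

namespace WeakSerre

variable {P : ObjectProperty A} (hP : WeakSerre P)
include hP

lemma mid {X₀ X₁ X₂ X₃ X₄ : A} (f : X₀ ⟶ X₁) (g : X₁ ⟶ X₂) (h : X₂ ⟶ X₃) (i : X₃ ⟶ X₄)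
    (w₁ : f ≫ g = 0) (w₂ : g ≫ h = 0) (w₃ : h ≫ i = 0) (e₁ : (ShortComplex.mk f g w₁).Exact)
    (e₂ : (ShortComplex.mk g h w₂).Exact) (e₃ : (ShortComplex.mk h i w₃).Exact)
    (h₀ : P X₀) (h₁ : P X₁) (h₃ : P X₃) (h₄ : P X₄) : P X₂ :=
  hP.five (ComposableArrows.mk₄ f g h i)
    (ComposableArrows.exact_of_δ₀ e₁.exact_toComposableArrows
      (ComposableArrows.exact_of_δ₀ e₂.exact_toComposableArrows e₃.exact_toComposableArrows)) h₀ h₁ h₃ h₄

lemma ext {S : ShortComplex A} (hS : S.ShortExact) (h₁ : P S.X₁) (h₃ : P S.X₃) : P S.X₂ := by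
  have := hS.mono_f
  have := hS.epi_g
  refine hP.mid (0 : (0 : A) ⟶ S.X₁) S.f S.g (0 : S.X₃ ⟶ (0 : A)) zero_comp S.zero comp_zero ?_ hS.exact ?_
    (hP.zero (isZero_zero A)) h₁ h₃ (hP.zero (isZero_zero A))
  · exact (ShortComplex.exact_iff_mono _ rfl).2 inferInstance
  · exact (ShortComplex.exact_iff_epi _ rfl).2 inferInstance

lemma left {S : ShortComplex A} (hS : S.ShortExact) (h₂ : P S.X₂) (h₃ : P S.X₃) : P S.X₁ := by
  have := hS.mono_f
  refine hP.mid (0 : (0 : A) ⟶ (0 : A)) (0 : (0 : A) ⟶ S.X₁) S.f S.g zero_comp zero_comp S.zero ?_ ?_ hS.exact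
    (hP.zero (isZero_zero A)) (hP.zero (isZero_zero A)) h₂ h₃
  · exact ShortComplex.exact_of_isZero_X₂ _ (isZero_zero A)
  · exact (ShortComplex.exact_iff_mono _ rfl).2 inferInstance

lemma right {S : ShortComplex A} (hS : S.ShortExact) (h₁ : P S.X₁) (h₂ : P S.X₂) : P S.X₃ := by
  have := hS.epi_g
  refine hP.mid S.f S.g (0 : S.X₃ ⟶ (0 : A)) (0 : (0 : A) ⟶ (0 : A)) S.zero comp_zero zero_comp hS.exact ?_ ?_
    h₁ h₂ (hP.zero (isZero_zero A)) (hP.zero (isZero_zero A))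
  · exact (ShortComplex.exact_iff_epi _ rfl).2 inferInstance
  · exact ShortComplex.exact_of_isZero_X₂ _ (isZero_zero A)

lemma image {X Y : A} (f : X ⟶ Y) (hX : P X) (hY : P Y) : P (Abelian.image f) := by
  have hC : P (cokernel f) := by
    refine hP.mid f (cokernel.π f) (0 : cokernel f ⟶ (0 : A)) (0 : (0 : A) ⟶ (0 : A)) (cokernel.condition f)
      comp_zero zero_comp (ShortComplex.exact_of_g_is_cokernel _ (cokernelIsCokernel f)) ?_ ?_
      hX hY (hP.zero (isZero_zero A)) (hP.zero (isZero_zero A))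
    · exact (ShortComplex.exact_iff_epi _ rfl).2 inferInstance
    · exact ShortComplex.exact_of_isZero_X₂ _ (isZero_zero A)
  exact hP.left (S := ShortComplex.mk (kernel.ι (cokernel.π f)) (cokernel.π f) (kernel.condition _))
    { exact := ShortComplex.exact_of_f_is_kernel _ (kernelIsKernel _) } hY hC

end WeakSerre

/-- The inclusion of subquotients of a chain of three subobjects. -/
noncomputable def chainι {X : A} {B C Z : Subobject X} (h₁ : B ≤ C) (h₂ : C ≤ Z) :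
    subquot C B h₁ ⟶ subquot Z B (h₁.trans h₂) :=
  cokernel.map (B.ofLE C h₁) (B.ofLE Z (h₁.trans h₂)) (𝟙 _) (C.ofLE Z h₂) (by simp)

/-- The projection of subquotients of a chain of three subobjects. -/
noncomputable def chainπ {X : A} {B C Z : Subobject X} (h₁ : B ≤ C) (h₂ : C ≤ Z) :
    subquot Z B (h₁.trans h₂) ⟶ subquot Z C h₂ :=
  cokernel.map (B.ofLE Z (h₁.trans h₂)) (C.ofLE Z h₂) (B.ofLE C h₁) (𝟙 _) (by simp)

@[reassoc]
lemma subπ_chainι {X : A} {B C Z : Subobject X} (h₁ : B ≤ C) (h₂ : C ≤ Z) :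
    subπ h₁ ≫ chainι h₁ h₂ = C.ofLE Z h₂ ≫ subπ (h₁.trans h₂) :=
  cokernel.π_desc _ _ _

@[reassoc]
lemma subπ_chainπ {X : A} {B C Z : Subobject X} (h₁ : B ≤ C) (h₂ : C ≤ Z) :
    subπ (h₁.trans h₂) ≫ chainπ h₁ h₂ = subπ h₂ :=
  (cokernel.π_desc _ _ _).trans (Category.id_comp _)

lemma chain_zero {X : A} {B C Z : Subobject X} (h₁ : B ≤ C) (h₂ : C ≤ Z) : chainι h₁ h₂ ≫ chainπ h₁ h₂ = 0 := by
  rw [← cancel_epi (subπ h₁), comp_zero, subπ_chainι_assoc, subπ_chainπ]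
  exact cokernel.condition _

/-- The short exact sequence of subquotients of a chain of three subobjects. -/
noncomputable abbrev chainSeq {X : A} {B C Z : Subobject X} (h₁ : B ≤ C) (h₂ : C ≤ Z) : ShortComplex A :=
  ShortComplex.mk _ _ (chain_zero h₁ h₂)

lemma chainSeq_shortExact {X : A} {B C Z : Subobject X} (h₁ : B ≤ C) (h₂ : C ≤ Z) :
    (chainSeq h₁ h₂).ShortExact := by
  have hm : Mono (chainι h₁ h₂) := Preadditive.mono_of_cancel_zero _ fun {T} t ht => by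
    obtain ⟨T', π, hπ, c, hc⟩ := surjective_up_to_refinements_of_epi (subπ h₁) t
    have h' : (c ≫ C.ofLE Z h₂) ≫ subπ (h₁.trans h₂) = 0 := by
      rw [Category.assoc, ← subπ_chainι h₁ h₂, ← Category.assoc, ← hc, Category.assoc, ht, comp_zero]
    rw [comp_subπ_eq_zero_iff, Category.assoc, Subobject.ofLE_arrow] at h'
    replace h' := (comp_subπ_eq_zero_iff h₁ c).2 h'
    rw [← cancel_epi π, hc, h', comp_zero]
  have he : Epi (chainπ h₁ h₂) := by
    have : Epi (subπ (h₁.trans h₂) ≫ chainπ h₁ h₂) := by rw [subπ_chainπ]; infer_instance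
    exact epi_of_epi (subπ (h₁.trans h₂)) _
  have ex : ∀ (T : A) (t : T ⟶ subquot Z B (h₁.trans h₂)), t ≫ chainπ h₁ h₂ = 0 →
      ∃ (T' : A) (π : T' ⟶ T) (_ : Epi π) (x : T' ⟶ subquot C B h₁), π ≫ t = x ≫ chainι h₁ h₂ := by
    intro T t ht
    obtain ⟨T', π, hπ, z, hz⟩ := surjective_up_to_refinements_of_epi (subπ (h₁.trans h₂)) t
    have h' : z ≫ subπ h₂ = 0 := by
      rw [← subπ_chainπ h₁ h₂, ← Category.assoc, ← hz, Category.assoc, ht, comp_zero]
    obtain ⟨c, hc⟩ := Mem.arrow_comp ((comp_subπ_eq_zero_iff h₂ z).1 h')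
    refine ⟨T', π, hπ, c ≫ subπ h₁, ?_⟩
    rw [hz, Category.assoc, subπ_chainι, ← Category.assoc]
    congr 1
    rw [← cancel_mono Z.arrow, Category.assoc, Subobject.ofLE_arrow, hc]
  exact { exact := (chainSeq h₁ h₂).exact_iff_exact_up_to_refinements.2 fun T t ht => ex T t ht, mono_f := hm, epi_g := he }

variable (K : FilCx A) {T : A}

lemma dimg_iff {q l n : ℤ} (hl : l + 1 = n) {y : T ⟶ K.obj.X n} :
    (imageSubobject ((K.filX q (n - 1)).arrow ≫ K.obj.d (n - 1) n)).Factors y ↔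
      ∃ (T' : A) (π : T' ⟶ T) (_ : Epi π) (w : T' ⟶ K.obj.X l), (K.filX q l).Factors w ∧ π ≫ y = w ≫ K.obj.d l n := by
  obtain rfl : l = n - 1 := by omega
  exact Mem.imgSub_iff

lemma ZSub_succ_le (r : ℕ) (p n : ℤ) : K.ZSub (r + 1) p n ≤ K.ZSub r p n :=
  sup_le_sup_right (inf_le_inf_left _ ((Subobject.pullback _).map (homOfLE (K.filX_anti _ (by push_cast; omega)))).le) _

lemma BSub_le_succ (r : ℕ) (p n : ℤ) : K.BSub r p n ≤ K.BSub (r + 1) p n := by
  refine sup_le_sup_right (inf_le_inf_left _ (Mem.le_iff.2 fun T y hy => ?_)) _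
  obtain ⟨T', π, hπ, w, hw, e⟩ := Mem.imgSub_iff.1 hy
  exact Mem.imgSub_iff.2 ⟨T', π, hπ, w, mono_step K (by push_cast; omega) hw, e⟩

/-- The differential of the page `r` identifies `Z_r / Z_{r+1}` with `B_{r+1} / B_r` at its target. -/
lemma exists_iso_turn (r : ℕ) (p q n : ℤ) (hq : q = p + r) :
    Nonempty (subquot (K.ZSub r p n) (K.ZSub (r + 1) p n) (ZSub_succ_le K r p n) ≅
      subquot (K.BSub (r + 1) q (n + 1)) (K.BSub r q (n + 1)) (BSub_le_succ K r q (n + 1))) := by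
  subst hq
  let S : Subobject (K.obj.X n) := K.filX p n ⊓ (Subobject.pullback (K.obj.d n (n + 1))).obj (K.filX (p + r) (n + 1))
  have hS : ∀ {T : A} (x : T ⟶ K.obj.X n), S.Factors x ↔
      (K.filX p n).Factors x ∧ (K.filX (p + r) (n + 1)).Factors (x ≫ K.obj.d n (n + 1)) :=
    fun x => by rw [Mem.inf_iff, Mem.pullback_iff]
  have hB : (K.BSub (r + 1) (p + r) (n + 1)).Factors (S.arrow ≫ K.obj.d n (n + 1)) := by
    obtain ⟨h₁, h₂⟩ := (hS S.arrow).1 S.factors_self |> fun h => h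
    refine mem_sup_left (Mem.inf_iff.2 ⟨h₂, (dimg_iff K (show n + 1 = n + 1 from rfl)).2 ⟨_, 𝟙 _, inferInstance, S.arrow, ?_, Category.id_comp _⟩⟩)
    exact mono_step K (by push_cast; omega) h₁
  obtain ⟨b, hb⟩ := Mem.arrow_comp hB
  have hSle : S ≤ K.ZSub r p n := le_sup_left
  let f : (S : A) ⟶ subquot (K.ZSub r p n) (K.ZSub (r + 1) p n) (ZSub_succ_le K r p n) :=
    S.ofLE (K.ZSub r p n) hSle ≫ subπ _
  let g : (S : A) ⟶ subquot (K.BSub (r + 1) (p + r) (n + 1)) (K.BSub r (p + r) (n + 1)) (BSub_le_succ K r _ _) :=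
    b ≫ subπ _
  have : Epi f := by
    rw [epi_iff_surjective_up_to_refinements]
    intro T t
    obtain ⟨T₁, π₁, hπ₁, z, hz⟩ := surjective_up_to_refinements_of_epi (subπ (ZSub_succ_le K r p n)) t
    obtain ⟨T₂, π₂, hπ₂, a, c, ha, hc, e⟩ := Mem.sup_iff.1 (Mem.of_arrow (K.ZSub r p n) z)
    obtain ⟨a', ha'⟩ := Mem.arrow_comp ha
    refine ⟨T₂, π₂ ≫ π₁, epi_comp _ _, a', ?_⟩
    rw [Category.assoc, hz, ← sub_eq_zero]
    change π₂ ≫ z ≫ subπ _ - a' ≫ S.ofLE _ hSle ≫ subπ _ = 0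
    rw [← Category.assoc, ← Category.assoc a', ← Preadditive.sub_comp, comp_subπ_eq_zero_iff, Preadditive.sub_comp,
      Category.assoc, Category.assoc, Subobject.ofLE_arrow]
    erw [ha', e, add_sub_cancel_left]
    exact mem_sup_right hc
  have : Epi g := by
    rw [epi_iff_surjective_up_to_refinements]
    intro T t
    obtain ⟨T₁, π₁, hπ₁, z, hz⟩ := surjective_up_to_refinements_of_epi (subπ (BSub_le_succ K r (p + r) (n + 1))) t
    obtain ⟨T₂, π₂, hπ₂, a, c, ha, hc, e⟩ := Mem.sup_iff.1 (Mem.of_arrow (K.BSub (r + 1) (p + r) (n + 1)) z)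
    obtain ⟨haF, had⟩ := Mem.inf_iff.1 ha
    obtain ⟨T₃, π₃, hπ₃, w, hw, ew⟩ := (dimg_iff K (show n + 1 = n + 1 from rfl)).1 had
    have hwF := mono_step K (show p ≤ p + (r : ℤ) - ((r + 1 : ℕ) : ℤ) + 1 by push_cast; omega) hw
    obtain ⟨w', hw'⟩ := Mem.arrow_comp ((hS w).2 ⟨hwF, ew ▸ Mem.comp_left π₃ haF⟩)
    refine ⟨T₃, π₃ ≫ π₂ ≫ π₁, inferInstance, w', ?_⟩
    rw [Category.assoc, Category.assoc, hz, ← sub_eq_zero]
    change π₃ ≫ π₂ ≫ z ≫ subπ _ - w' ≫ b ≫ subπ _ = 0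
    rw [← Category.assoc π₂, ← Category.assoc π₃, ← Category.assoc w', ← Preadditive.sub_comp, comp_subπ_eq_zero_iff,
      Preadditive.sub_comp, Category.assoc, Category.assoc, Category.assoc, e, hb, Preadditive.comp_add,
      reassoc_of% hw', ← ew, add_sub_cancel_left]
    exact mem_sup_right (Mem.comp_left π₃ hc)
  refine exists_iso_of_kernels f g fun T w => ?_
  change w ≫ S.ofLE _ hSle ≫ subπ _ = 0 ↔ w ≫ b ≫ subπ _ = 0
  rw [← Category.assoc, ← Category.assoc w b, comp_subπ_eq_zero_iff, comp_subπ_eq_zero_iff, Category.assoc,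
    Category.assoc, Subobject.ofLE_arrow, hb]
  obtain ⟨hxF, hxd⟩ := (hS _).1 (Mem.of_arrow S w)
  rw [Category.assoc] at hxd
  constructor
  · intro h
    obtain ⟨T', π, hπ, a, c, ha, hc, e⟩ := Mem.sup_iff.1 h
    obtain ⟨haF, had⟩ := Mem.inf_iff.1 ha
    rw [Mem.pullback_iff] at had
    refine Mem.descend π ?_
    have e' : π ≫ w ≫ S.arrow ≫ K.obj.d n (n + 1) = c ≫ K.obj.d n (n + 1) + a ≫ K.obj.d n (n + 1) := by
      rw [reassoc_of% e, Preadditive.add_comp]
      exact add_comm _ _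
    rw [e']
    have hcd : (K.filX (p + r) (n + 1)).Factors (c ≫ K.obj.d n (n + 1)) := by
      rw [show c ≫ K.obj.d n (n + 1) = π ≫ (w ≫ S.arrow ≫ K.obj.d n (n + 1)) - a ≫ K.obj.d n (n + 1) by
        rw [e', add_sub_cancel_right]]
      exact Mem.sub (Mem.comp_left π hxd) (mono_step K (by push_cast; omega) had)
    refine Mem.add (mem_sup_left (Mem.inf_iff.2 ⟨hcd, (dimg_iff K (show n + 1 = n + 1 from rfl)).2 ⟨T', 𝟙 _, inferInstance, c, ?_, Category.id_comp _⟩⟩))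
      (mem_sup_right (mono_step K (by push_cast; omega) had))
    exact mono_step K (by omega) hc
  · intro h
    obtain ⟨T', π, hπ, a, c, ha, hc, e⟩ := Mem.sup_iff.1 h
    obtain ⟨T'', π', hπ', u, hu, eu⟩ := (dimg_iff K (show n + 1 = n + 1 from rfl)).1 (Mem.inf_iff.1 ha).2
    have hu' := mono_step K (show p + 1 ≤ p + (r : ℤ) - (r : ℤ) + 1 by omega) hu
    refine Mem.descend (π' ≫ π) ?_
    rw [show (π' ≫ π) ≫ w ≫ S.arrow = ((π' ≫ π) ≫ w ≫ S.arrow - u) + u from (sub_add_cancel _ _).symm]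
    refine Mem.add (mem_sup_left (Mem.inf_iff.2 ⟨Mem.sub (Mem.comp_left _ hxF) (mono_step K (by omega) hu'),
      Mem.pullback_iff.2 ?_⟩)) (mem_sup_right hu')
    rw [Preadditive.sub_comp, Category.assoc, Category.assoc, Category.assoc, e, Preadditive.comp_add, eu,
      add_sub_cancel_left]
    exact mono_step K (by push_cast; omega) (Mem.comp_left π' hc)

lemma subquot_congr {X : A} {Z Z' B B' : Subobject X} (h : B ≤ Z) (h' : B' ≤ Z') (e : Z = Z') (e' : B = B') :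
    subquot Z B h = subquot Z' B' h' := by
  subst e e'
  rfl

/-- A page in a weak Serre class is followed by another one. -/
lemma page_succ {P : ObjectProperty A} (hP : WeakSerre P) (r : ℕ) (hr : ∀ p n : ℤ, P (K.E r p n)) (p n : ℤ) :
    P (K.E (r + 1) p n) := by
  have hI : ∀ q m : ℤ, P (subquot (K.BSub (r + 1) q (m + 1)) (K.BSub r q (m + 1)) (BSub_le_succ K r _ _)) := by
    intro q m
    have hle : K.BSub (r + 1) q (m + 1) ≤ K.ZSub r q (m + 1) :=
      (K.BSub_le_ZSub (r + 1) q (m + 1)).trans (ZSub_succ_le K r q (m + 1))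
    obtain ⟨i⟩ := exists_iso_turn K r (q - r) q m (by omega)
    let S₁ := chainSeq (K.BSub_le_ZSub (r + 1) (q - r) m |> (le_trans (BSub_le_succ K r (q - r) m) ·)) (ZSub_succ_le K r (q - r) m)
    let S₂ := chainSeq (BSub_le_succ K r q (m + 1)) hle
    have h₁ := chainSeq_shortExact (K.BSub_le_ZSub (r + 1) (q - r) m |> (le_trans (BSub_le_succ K r (q - r) m) ·)) (ZSub_succ_le K r (q - r) m)
    have h₂ := chainSeq_shortExact (BSub_le_succ K r q (m + 1)) hle
    have := h₁.epi_g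
    have := h₂.mono_f
    let φ : S₁.X₂ ⟶ S₂.X₂ := (S₁.g ≫ i.hom) ≫ S₂.f
    have : Epi (S₁.g ≫ i.hom) := epi_comp _ _
    have := strongEpi_of_epi (S₁.g ≫ i.hom)
    refine hP.iso ?_ (hP.image φ (hr _ _) (hr _ _))
    exact (Abelian.imageIsoImage φ) ≪≫ (image.isoStrongEpiMono (S₁.g ≫ i.hom) S₂.f rfl).symm
  have hI' : ∀ q m : ℤ, P (subquot (K.BSub (r + 1) q m) (K.BSub r q m) (BSub_le_succ K r _ _)) := fun q m => by
    have key : ∀ m', m' = m → P (subquot (K.BSub (r + 1) q m') (K.BSub r q m') (BSub_le_succ K r _ _)) →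
        P (subquot (K.BSub (r + 1) q m) (K.BSub r q m) (BSub_le_succ K r _ _)) := by
      rintro _ rfl h
      exact h
    exact key _ (sub_add_cancel m 1) (hI q (m - 1))
  obtain ⟨i⟩ := exists_iso_turn K r p (p + r) n rfl
  have hle : K.BSub (r + 1) p n ≤ K.ZSub r p n := (K.BSub_le_ZSub (r + 1) p n).trans (ZSub_succ_le K r p n)
  have hZ : P (subquot (K.ZSub r p n) (K.BSub (r + 1) p n) hle) :=
    hP.right (chainSeq_shortExact (BSub_le_succ K r p n) hle) (hI' p n) (hr p n)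
  exact hP.left (chainSeq_shortExact (K.BSub_le_ZSub (r + 1) p n) (ZSub_succ_le K r p n)) hZ (hP.iso i.symm (hI _ _))

/-- The cohomology class of a cycle. -/
noncomputable def cls (C : CochainComplex A ℤ) {n : ℤ} (x : T ⟶ C.X n) (hx : x ≫ C.d n (n + 1) = 0) : T ⟶ C.homology n :=
  C.liftCycles x (n + 1) (CochainComplex.next ℤ n) hx ≫ C.homologyπ n

lemma cls_map {C D : CochainComplex A ℤ} (φ : C ⟶ D) {n : ℤ} (x : T ⟶ C.X n) (hx : x ≫ C.d n (n + 1) = 0) :
    cls C x hx ≫ HomologicalComplex.homologyMap φ n =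
      cls D (x ≫ φ.f n) (by rw [Category.assoc, φ.comm, ← Category.assoc, hx, zero_comp]) := by
  simp [cls]

lemma filH_cls {p n : ℤ} {x : T ⟶ K.obj.X n} (hF : (K.filX p n).Factors x) (hx : x ≫ K.obj.d n (n + 1) = 0) :
    (K.filH p n).Factors (cls K.obj x hx) := by
  obtain ⟨y, rfl⟩ := (filX_iff K).1 hF
  refine Mem.img_iff.2 ⟨T, 𝟙 T, inferInstance, cls _ y (step_d_eq_zero K y hx), ?_⟩
  rw [Category.id_comp, cls_map]

lemma exists_cls {p n : ℤ} {γ : T ⟶ K.obj.homology n} (h : (K.filH p n).Factors γ) :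
    ∃ (T' : A) (π : T' ⟶ T) (_ : Epi π) (x : T' ⟶ K.obj.X n) (hx : x ≫ K.obj.d n (n + 1) = 0),
      (K.filX p n).Factors x ∧ π ≫ γ = cls K.obj x hx := by
  obtain ⟨T₁, π₁, hπ₁, η, hη⟩ := Mem.img_iff.1 h
  obtain ⟨T₂, π₂, hπ₂, y, hy, ey⟩ :=
    (K.fil p : CochainComplex A ℤ).eq_liftCycles_homologyπ_up_to_refinements η (n + 1) (CochainComplex.next ℤ n)
  refine ⟨T₂, π₂ ≫ π₁, epi_comp _ _, y ≫ (K.fil p).arrow.f n, by rw [Category.assoc, HomologicalComplex.Hom.comm, ← Category.assoc, hy, zero_comp],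
    (filX_iff K).2 ⟨y, rfl⟩, ?_⟩
  rw [Category.assoc, hη, ← Category.assoc, ey]
  exact cls_map _ y hy

lemma cls_eq_iff {n : ℤ} (x x' : T ⟶ K.obj.X n) (hx : x ≫ K.obj.d n (n + 1) = 0) (hx' : x' ≫ K.obj.d n (n + 1) = 0) :
    cls K.obj x hx = cls K.obj x' hx' ↔
      ∃ (T' : A) (π : T' ⟶ T) (_ : Epi π) (w : T' ⟶ K.obj.X (n - 1)), π ≫ x = π ≫ x' + w ≫ K.obj.d (n - 1) n :=
  K.obj.liftCycles_comp_homologyπ_eq_iff_up_to_refinements (n - 1) n (n + 1) (CochainComplex.prev ℤ n)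
    (CochainComplex.next ℤ n) x x' hx hx'

lemma BBot_le_ZTop (p n : ℤ) : K.BBot p n ≤ K.ZTop p n :=
  sup_le_sup_right (inf_le_inf_left _ (le_kernelSubobject _ _ (imageSubobject_arrow_comp_eq_zero (by simp)))) _

/-- The limit term is the graded piece of cohomology. -/
lemma exists_iso_gr (p n : ℤ) :
    Nonempty (subquot (K.ZTop p n) (K.BBot p n) (BBot_le_ZTop K p n) ≅ (K.HFil n).gr p) := by
  let S : Subobject (K.obj.X n) := K.filX p n ⊓ kernelSubobject (K.obj.d n (n + 1))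
  have hS : ∀ {T : A} (x : T ⟶ K.obj.X n), S.Factors x ↔ (K.filX p n).Factors x ∧ x ≫ K.obj.d n (n + 1) = 0 :=
    fun x => by rw [Mem.inf_iff, kernelSubobject_factors_iff]
  obtain ⟨hSF, hSd⟩ := (hS S.arrow).1 S.factors_self
  obtain ⟨b, hb⟩ := Mem.arrow_comp (filH_cls K hSF hSd)
  have hle : K.filH (p + 1) n ≤ K.filH p n := K.filH_anti n (Int.le_add_one le_rfl)
  have hSle : S ≤ K.ZTop p n := le_sup_left
  let f : (S : A) ⟶ subquot (K.ZTop p n) (K.BBot p n) (BBot_le_ZTop K p n) := S.ofLE (K.ZTop p n) hSle ≫ subπ _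
  let g : (S : A) ⟶ subquot (K.filH p n) (K.filH (p + 1) n) hle := b ≫ subπ _
  have clsmap : ∀ {T : A} (w : T ⟶ (S : A)),
      w ≫ cls K.obj S.arrow hSd = cls K.obj (w ≫ S.arrow) (by rw [Category.assoc, hSd, comp_zero]) := by
    intro T w
    simp only [cls, ← Category.assoc]
    congr 1
    rw [← cancel_mono (K.obj.iCycles n)]
    simp
  have : Epi f := by
    rw [epi_iff_surjective_up_to_refinements]
    intro T t
    obtain ⟨T₁, π₁, hπ₁, z, hz⟩ := surjective_up_to_refinements_of_epi (subπ (BBot_le_ZTop K p n)) t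
    obtain ⟨T₂, π₂, hπ₂, a, c, ha, hc, e⟩ := Mem.sup_iff.1 (Mem.of_arrow (K.ZTop p n) z)
    obtain ⟨a', ha'⟩ := Mem.arrow_comp ha
    refine ⟨T₂, π₂ ≫ π₁, epi_comp _ _, a', ?_⟩
    rw [Category.assoc, hz, ← sub_eq_zero]
    change π₂ ≫ z ≫ subπ _ - a' ≫ S.ofLE _ hSle ≫ subπ _ = 0
    rw [← Category.assoc, ← Category.assoc a', ← Preadditive.sub_comp, comp_subπ_eq_zero_iff, Preadditive.sub_comp,
      Category.assoc, Category.assoc, Subobject.ofLE_arrow]
    erw [ha', e, add_sub_cancel_left]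
    exact mem_sup_right hc
  have : Epi g := by
    rw [epi_iff_surjective_up_to_refinements]
    intro T t
    obtain ⟨T₁, π₁, hπ₁, z, hz⟩ := surjective_up_to_refinements_of_epi (subπ hle) t
    obtain ⟨T₂, π₂, hπ₂, x, hx, hxF, e⟩ := exists_cls K (Mem.of_arrow (K.filH p n) z)
    obtain ⟨x', hx'⟩ := Mem.arrow_comp ((hS x).2 ⟨hxF, hx⟩)
    refine ⟨T₂, π₂ ≫ π₁, epi_comp _ _, x', ?_⟩
    rw [Category.assoc, hz]
    change π₂ ≫ z ≫ subπ _ = x' ≫ b ≫ subπ _
    rw [← Category.assoc, ← Category.assoc x']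
    congr 1
    rw [← cancel_mono (K.filH p n).arrow, Category.assoc, Category.assoc, hb, e, clsmap]
    congr 1
    exact hx'.symm
  suffices h : ∀ (T : A) (w : T ⟶ (S : A)), w ≫ f = 0 ↔ w ≫ g = 0 by
    obtain ⟨i⟩ := exists_iso_of_kernels f g h
    exact ⟨i⟩
  intro T w
  change w ≫ S.ofLE _ hSle ≫ subπ _ = 0 ↔ w ≫ b ≫ subπ _ = 0
  rw [← Category.assoc, ← Category.assoc w b, comp_subπ_eq_zero_iff, comp_subπ_eq_zero_iff, Category.assoc,
    Category.assoc, Subobject.ofLE_arrow, hb, clsmap]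
  obtain ⟨hxF, hxd⟩ := (hS _).1 (Mem.of_arrow S w)
  constructor
  · intro h
    obtain ⟨T', π, hπ, a, c, ha, hc, e⟩ := Mem.sup_iff.1 h
    obtain ⟨T'', π', hπ', v, hv⟩ := Mem.img_iff.1 (Mem.inf_iff.1 ha).2
    have hcd : (π' ≫ c) ≫ K.obj.d n (n + 1) = 0 := by
      have e' := congrArg (fun q => π' ≫ q ≫ K.obj.d n (n + 1)) e
      simp only [Category.assoc, Preadditive.add_comp, Preadditive.comp_add, reassoc_of% hv,
        HomologicalComplex.d_comp_d, comp_zero, zero_add] at e'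
      rw [Category.assoc, ← e', ← Category.assoc w, hxd, comp_zero, comp_zero]
    refine Mem.descend (π' ≫ π) ?_
    have heq : (π' ≫ π) ≫ cls K.obj (w ≫ S.arrow) hxd = cls K.obj (π' ≫ c) hcd := by
      have h1 : (π' ≫ π) ≫ cls K.obj (w ≫ S.arrow) hxd =
          cls K.obj ((π' ≫ π) ≫ w ≫ S.arrow) (by rw [Category.assoc, hxd, comp_zero]) := by
        simp only [cls, ← Category.assoc]
        congr 1
        rw [← cancel_mono (K.obj.iCycles n)]
        simp
      rw [h1, cls_eq_iff]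
      refine ⟨T'', 𝟙 _, inferInstance, v, ?_⟩
      rw [Category.id_comp, Category.id_comp, Category.assoc, e, Preadditive.comp_add, hv, add_comm]
    rw [heq]
    exact filH_cls K (Mem.comp_left _ hc) hcd
  · intro h
    obtain ⟨T', π, hπ, y, hy, hyF, e⟩ := exists_cls K h
    have h1 : π ≫ cls K.obj (w ≫ S.arrow) hxd = cls K.obj (π ≫ w ≫ S.arrow) (by rw [Category.assoc, hxd, comp_zero]) := by
      simp only [cls, ← Category.assoc]
      congr 1
      rw [← cancel_mono (K.obj.iCycles n)]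
      simp
    rw [h1, cls_eq_iff] at e
    obtain ⟨T'', π', hπ', v, hv⟩ := e
    refine Mem.descend (π' ≫ π) ?_
    rw [Category.assoc, hv, add_comm]
    refine Mem.add (mem_sup_left (Mem.inf_iff.2 ⟨?_, Mem.img_iff.2 ⟨T'', 𝟙 _, inferInstance, v, Category.id_comp _⟩⟩))
      (mem_sup_right (Mem.comp_left π' hyF))
    rw [show v ≫ K.obj.d (n - 1) n = π' ≫ π ≫ w ≫ S.arrow - π' ≫ y by rw [hv, add_sub_cancel_left]]
    exact Mem.sub (Mem.comp_left _ (Mem.comp_left _ hxF)) (Mem.comp_left _ (mono_step K (Int.le_add_one le_rfl) hyF))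

end Groth.CatFib.FilEl
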