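import Mathlib.CategoryTheory.Limits.Shapes.Equalizers
import Mathlib.CategoryTheory.Limits.Shapes.Pullback.HasPullback
import Mathlib.CategoryTheory.Limits.Shapes.BinaryProducts
import Mathlib.CategoryTheory.IsConnected
import Mathlib.CategoryTheory.FinCategory.Basic
import Mathlib.Data.Fintype.Sigma
import Mathlib.Data.Fintype.Prod
import Mathlib.Order.Preorder.Finite
import Mathlib.Data.Fintype.Powerset
import Mathlib.Data.Set.Finite.Basic
import Mathlib.Data.Finite.Prod

/-!
# Building finite limits one object and one arrow at a time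
-/

universe v u

open CategoryTheory CategoryTheory.Limits

namespace Groth.CatFib

variable {C : Type u} [Category.{v} C] {J : Type} [SmallCategory J] (F : J ⥤ C)

/-- A partial limit: jointly monic legs on `S`, receiving every cone. -/
def IsPartialLimit (S : Set J) (P : C) (π : ∀ j ∈ S, P ⟶ F.obj j) : Prop :=
  (∀ (W : C) (t t' : W ⟶ P), (∀ j (h : j ∈ S), t ≫ π j h = t' ≫ π j h) → t = t') ∧
    ∀ s : Cone F, ∃ t : s.pt ⟶ P, ∀ j (h : j ∈ S), t ≫ π j h = s.π.app j

lemma partial_univ [Finite J]
    (start : ∃ (S : Set J) (P : C) (π : ∀ j ∈ S, P ⟶ F.obj j), IsPartialLimit F S P π)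
    (step : ∀ (S : Set J) (P : C) (π : ∀ j ∈ S, P ⟶ F.obj j), IsPartialLimit F S P π →
      S ≠ Set.univ → ∃ (S' : Set J) (P' : C) (π' : ∀ j ∈ S', P' ⟶ F.obj j),
        IsPartialLimit F S' P' π' ∧ S ⊂ S') :
    ∃ (P : C) (π : ∀ j, P ⟶ F.obj j), IsPartialLimit F Set.univ P (fun j _ => π j) := by
  let G : Set (Set J) := {S | ∃ (P : C) (π : ∀ j ∈ S, P ⟶ F.obj j), IsPartialLimit F S P π}
  obtain ⟨S, hS⟩ := (Set.toFinite G).exists_maximal start
  obtain ⟨P, π, hp⟩ := hS.1
  by_cases h : S = Set.univ
  · subst h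
    exact ⟨P, fun j => π j trivial, hp⟩
  · obtain ⟨S', P', π', hp', hlt⟩ := step S P π hp h
    exact absurd (hS.2 ⟨P', π', hp'⟩ hlt.le) hlt.not_ge

variable [FinCategory J] [HasEqualizers C]

lemma hasLimit_of_partial {P : C} {π : ∀ j, P ⟶ F.obj j}
    (hp : IsPartialLimit F Set.univ P (fun j _ => π j)) : HasLimit F := by
  classical
  suffices H : ∀ E : Finset (Σ p : J × J, p.1 ⟶ p.2), ∃ (Q : C) (ρ : ∀ j, Q ⟶ F.obj j),
      IsPartialLimit F Set.univ Q (fun j _ => ρ j) ∧ ∀ a ∈ E, ρ a.1.1 ≫ F.map a.2 = ρ a.1.2 by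
    obtain ⟨Q, ρ, hQ, hw⟩ := H Finset.univ
    exact HasLimit.mk
      ⟨Cone.mk Q { app := ρ, naturality := fun i j u => (Category.id_comp _).trans (hw ⟨(i, j), u⟩ (Finset.mem_univ _)).symm },
        { lift := fun s => (hQ.2 s).choose
          fac := fun s j => (hQ.2 s).choose_spec j trivial
          uniq := fun s m hm => hQ.1 _ _ _ fun j _ => (hm j).trans ((hQ.2 s).choose_spec j trivial).symm }⟩
  intro E
  induction E using Finset.induction with
  | empty => exact ⟨P, π, hp, by simp⟩
  | @insert a E _ ih =>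
    obtain ⟨Q, ρ, hQ, hw⟩ := ih
    let e := equalizer.ι (ρ a.1.1 ≫ F.map a.2) (ρ a.1.2)
    refine ⟨_, fun j => e ≫ ρ j, ⟨fun W t t' h => ?_, fun s => ?_⟩, fun b hb => ?_⟩
    · exact (cancel_mono e).1 (hQ.1 _ _ _ fun j hj => by simpa using h j hj)
    · obtain ⟨t, ht⟩ := hQ.2 s
      refine ⟨equalizer.lift t ?_, fun j hj => ?_⟩
      · rw [← Category.assoc, ht _ trivial, ht _ trivial, s.w]
      · rw [equalizer.lift_ι_assoc]; exact ht j hj
    · rcases Finset.mem_insert.1 hb with rfl | hb
      · simpa using equalizer.condition (ρ b.1.1 ≫ F.map b.2) (ρ b.1.2)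
      · simp [hw b hb]

theorem hasLimit_of_binaryProducts [HasBinaryProducts C] [Nonempty J] : HasLimit F := by
  classical
  obtain ⟨P, π, hp⟩ := partial_univ F ⟨{Classical.arbitrary J}, F.obj (Classical.arbitrary J),
      fun j hj => eqToHom (by rw [Set.mem_singleton_iff.1 hj]),
      fun W t t' h => by simpa using h _ rfl,
      fun s => ⟨s.π.app _, fun j hj => by obtain rfl : j = _ := hj; simp⟩⟩
    (fun S P π hp hne => by
      obtain ⟨i, hi⟩ := (Set.ne_univ_iff_exists_notMem S).1 hne
      refine ⟨insert i S, P ⨯ F.obj i, fun j hj => if h : j = i then prod.snd ≫ eqToHom (by rw [h])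
        else prod.fst ≫ π j (hj.resolve_left h), ⟨fun W t t' h => ?_, fun s => ?_⟩, Set.ssubset_insert hi⟩
      · ext
        · refine hp.1 _ _ _ fun j hj => ?_
          have := h j (Or.inr hj)
          have hne : j ≠ i := fun e => hi (e ▸ hj)
          simpa [hne] using this
        · simpa using h i (Or.inl rfl)
      · obtain ⟨t, ht⟩ := hp.2 s
        refine ⟨prod.lift t (s.π.app i), fun j hj => ?_⟩
        by_cases h : j = i
        · subst h; dsimp only; rw [dif_pos rfl, eqToHom_refl, Category.comp_id]; exact prod.lift_snd _ _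
        · dsimp only; rw [dif_neg h, ← Category.assoc, prod.lift_fst]; exact ht j _)
  exact hasLimit_of_partial F hp

theorem hasLimit_of_pullbacks [HasPullbacks C] [IsConnected J] : HasLimit F := by
  classical
  obtain ⟨P, π, hp, -⟩ : ∃ (P : C) (π : ∀ j, P ⟶ F.obj j),
      IsPartialLimit F Set.univ P (fun j _ => π j) ∧ True := by
    let G : Set (Set J) := {S | S.Nonempty ∧
      ∃ (P : C) (π : ∀ j ∈ S, P ⟶ F.obj j), IsPartialLimit F S P π}
    obtain ⟨j₀⟩ : Nonempty J := inferInstance
    obtain ⟨S, hS⟩ := (Set.toFinite G).exists_maximal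
      ⟨{j₀}, Set.singleton_nonempty _, F.obj j₀,
        fun j hj => eqToHom (by rw [Set.mem_singleton_iff.1 hj]),
        fun W t t' h => by simpa using h _ rfl,
        fun s => ⟨s.π.app _, fun j hj => by obtain rfl : j = _ := hj; simp⟩⟩
    obtain ⟨⟨⟨j₁, hj₁⟩, P, π, hp⟩, hmax⟩ := hS
    have hall : ∀ j, j ∈ S := by
      refine induct_on_objects S hj₁ fun {i k} u => ⟨fun hi => ?_, fun hk => ?_⟩
      · by_contra hk
        refine absurd (hmax (y := insert k S) ⟨Set.insert_nonempty _ _, P, fun j hj =>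
          if h : j = k then π i hi ≫ F.map u ≫ eqToHom (by rw [h]) else π j (hj.resolve_left h),
          ⟨fun W t t' h => ?_, fun s => ?_⟩⟩ (Set.subset_insert _ _)) (Set.ssubset_insert hk).not_ge
        · refine hp.1 _ _ _ fun j hj => ?_
          have hne : j ≠ k := fun e => hk (e ▸ hj)
          simpa [hne] using h j (Or.inr hj)
        · obtain ⟨t, ht⟩ := hp.2 s
          refine ⟨t, fun j hj => ?_⟩
          by_cases h : j = k
          · subst h
            simp [reassoc_of% (ht i hi)]
          · simpa [h] using ht j _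
      · by_contra hi
        refine absurd (hmax (y := insert i S) ⟨Set.insert_nonempty _ _, pullback (π k hk) (F.map u), fun j hj =>
          if h : j = i then pullback.snd _ _ ≫ eqToHom (by rw [h])
          else pullback.fst _ _ ≫ π j (hj.resolve_left h),
          ⟨fun W t t' h => ?_, fun s => ?_⟩⟩ (Set.subset_insert _ _)) (Set.ssubset_insert hi).not_ge
        · ext
          · refine hp.1 _ _ _ fun j hj => ?_
            have hne : j ≠ i := fun e => hi (e ▸ hj)
            simpa [hne] using h j (Or.inr hj)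
          · simpa using h i (Or.inl rfl)
        · obtain ⟨t, ht⟩ := hp.2 s
          refine ⟨pullback.lift t (s.π.app i) (by rw [ht, s.w]), fun j hj => ?_⟩
          by_cases h : j = i
          · subst h; dsimp only; rw [dif_pos rfl, eqToHom_refl, Category.comp_id]
            exact pullback.lift_snd _ _ _
          · dsimp only; rw [dif_neg h, ← Category.assoc, pullback.lift_fst]; exact ht j _
    exact ⟨P, fun j => π j (hall j), ⟨fun W t t' h => hp.1 _ _ _ fun j _ => h j trivial,
      fun s => (hp.2 s).imp fun t ht j _ => ht j (hall j)⟩, trivial⟩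
  exact hasLimit_of_partial F hp

end Groth.CatFib
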