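import Groth.Agent.CategoryFibred.Fiberwise
import Groth.Agent.CategoryFibred.Comp

/-!
# The 2-fibre product over the base: lifts, cartesian morphisms, fibredness
-/

set_option backward.isDefEq.respectTransparency false
set_option backward.isDefEq.respectTransparency.types false

open CategoryTheory CategoryTheory.Functor CategoryTheory.Limits

universe v₄ u₄ v₃ u₃ v₂ u₂ v u

namespace Groth.CatFib

variable {C : Type u} [Category.{v} C] {𝒳 : BasedCategory.{v₂, u₂} C} {𝒴 : BasedCategory.{v₃, u₃} C}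
  {𝒮 : BasedCategory.{v₄, u₄} C} {F : 𝒳 ⥤ᵇ 𝒮} {G : 𝒴 ⥤ᵇ 𝒮}

lemma isCartesian_congr {D : Type u₂} [Category.{v₂} D] {p : D ⥤ C} {R S : C} {a b : D} (f : R ⟶ S)
    (φ : a ⟶ b) [p.IsHomLift f φ] : p.IsCartesian (p.map φ) φ ↔ p.IsCartesian f φ := by
  subst_hom_lift p f φ; rfl

lemma fp_isHomLift_iff {R S : C} {x y : (FibCat.fp F G).obj} (f : R ⟶ S) (φ : x ⟶ y) :
    (FibCat.fp F G).p.IsHomLift f φ ↔ 𝒳.p.IsHomLift f φ.hom.fst := by
  constructor <;> intro h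
  · subst_hom_lift (FibCat.fp F G).p f φ
    exact IsHomLift.map 𝒳.p φ.hom.fst
  · subst_hom_lift 𝒳.p f φ.hom.fst
    exact IsHomLift.map (FibCat.fp F G).p φ

lemma fp_isHomLift_fst {R S : C} {x y : (FibCat.fp F G).obj} (f : R ⟶ S) (φ : x ⟶ y)
    [h : (FibCat.fp F G).p.IsHomLift f φ] : 𝒳.p.IsHomLift f φ.hom.fst :=
  (fp_isHomLift_iff f φ).1 h

lemma fp_isHomLift_snd' {R S : C} {x y : (FibCat.fp F G).obj} (f : R ⟶ S) (φ : x ⟶ y)
    [(FibCat.fp F G).p.IsHomLift f φ] : 𝒴.p.IsHomLift f φ.hom.snd := by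
  subst_hom_lift (FibCat.fp F G).p f φ
  exact FibCat.fp_isHomLift_snd F G φ

/-- An object of the 2-fibre product over `C`. -/
abbrev fpMk (x : 𝒳.obj) (y : 𝒴.obj) (e : F.toFunctor.obj x ≅ G.toFunctor.obj y)
    (h : 𝒮.p.IsHomLift (𝟙 (𝒳.p.obj x)) e.hom) : (FibCat.fp F G).obj :=
  ⟨⟨x, y, e⟩, h⟩

/-- A morphism of the 2-fibre product over `C`. -/
abbrev fpHom {x y : (FibCat.fp F G).obj} (a : x.obj.fst ⟶ y.obj.fst) (b : x.obj.snd ⟶ y.obj.snd)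
    (w : F.toFunctor.map a ≫ y.obj.iso.hom = x.obj.iso.hom ≫ G.toFunctor.map b) : x ⟶ y :=
  ObjectProperty.homMk { fst := a, snd := b, w := w }

lemma fp_hom_ext {x y : (FibCat.fp F G).obj} {φ ψ : x ⟶ y} (h1 : φ.hom.fst = ψ.hom.fst)
    (h2 : φ.hom.snd = ψ.hom.snd) : φ = ψ :=
  ObjectProperty.hom_ext _ (CategoricalPullback.hom_ext h1 h2)

lemma fp_obj_snd (x : (FibCat.fp F G).obj) : 𝒴.p.obj x.obj.snd = 𝒳.p.obj x.obj.fst := by
  have h : 𝒮.p.IsHomLift (𝟙 (𝒳.p.obj x.obj.fst)) x.obj.iso.hom := x.property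
  exact (G.w_obj _).symm.trans (IsHomLift.codomain_eq 𝒮.p (𝟙 (𝒳.p.obj x.obj.fst)) x.obj.iso.hom)

lemma fp_iso_lift {R : C} (x : (FibCat.fp F G).obj) (hx : 𝒳.p.obj x.obj.fst = R) :
    𝒮.p.IsHomLift (𝟙 R) x.obj.iso.hom := by
  subst hx; exact x.property

lemma isCartesian_fp {R S : C} (f : R ⟶ S) {x y : (FibCat.fp F G).obj} (φ : x ⟶ y)
    [h1 : 𝒳.p.IsCartesian f φ.hom.fst] [h2 : 𝒴.p.IsCartesian f φ.hom.snd]
    [h3 : 𝒮.p.IsCartesian f (G.toFunctor.map φ.hom.snd)] :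
    (FibCat.fp F G).p.IsCartesian f φ := by
  have : (FibCat.fp F G).p.IsHomLift f φ := (fp_isHomLift_iff f φ).2 inferInstance
  refine { universal_property := fun {z} ψ hψ => ?_ }
  have hp1 := fp_isHomLift_fst f ψ
  have hp2 := fp_isHomLift_snd' f ψ
  obtain ⟨c1, ⟨hc1, e1⟩, u1⟩ := h1.universal_property ψ.hom.fst
  obtain ⟨c2, ⟨hc2, e2⟩, u2⟩ := h2.universal_property ψ.hom.snd
  have := fp_iso_lift (R := R) z (IsHomLift.domain_eq 𝒳.p f ψ.hom.fst)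
  have := fp_iso_lift (R := R) x (IsHomLift.domain_eq 𝒳.p f φ.hom.fst)
  have : 𝒮.p.IsHomLift (𝟙 R) (F.toFunctor.map c1) := BasedFunctor.preserves_isHomLift F _ c1
  have : 𝒮.p.IsHomLift (𝟙 R) (G.toFunctor.map c2) := BasedFunctor.preserves_isHomLift G _ c2
  have w : F.toFunctor.map c1 ≫ x.obj.iso.hom = z.obj.iso.hom ≫ G.toFunctor.map c2 := by
    apply IsCartesian.ext 𝒮.p f (G.toFunctor.map φ.hom.snd)
    rw [Category.assoc, Category.assoc, ← φ.hom.w, ← F.toFunctor.map_comp_assoc, e1,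
      ← G.toFunctor.map_comp, e2]
    exact ψ.hom.w
  refine ⟨fpHom c1 c2 w, ⟨(fp_isHomLift_iff _ _).2 hc1, fp_hom_ext e1 e2⟩, ?_⟩
  rintro τ ⟨hτ, hτ'⟩
  exact fp_hom_ext (u1 _ ⟨fp_isHomLift_fst _ τ, congrArg (fun k => k.hom.fst) hτ'⟩)
    (u2 _ ⟨fp_isHomLift_snd' _ τ, congrArg (fun k => k.hom.snd) hτ'⟩)

lemma isStronglyCartesian_fp {R S : C} (f : R ⟶ S) {x y : (FibCat.fp F G).obj} (φ : x ⟶ y)
    [h1 : 𝒳.p.IsStronglyCartesian f φ.hom.fst] [h2 : 𝒴.p.IsStronglyCartesian f φ.hom.snd]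
    [h3 : 𝒮.p.IsStronglyCartesian f (G.toFunctor.map φ.hom.snd)] :
    (FibCat.fp F G).p.IsStronglyCartesian f φ := by
  have : (FibCat.fp F G).p.IsHomLift f φ := (fp_isHomLift_iff f φ).2 inferInstance
  refine { universal_property' := fun {z} g ψ hψ => ?_ }
  have hp1 : 𝒳.p.IsHomLift (g ≫ f) ψ.hom.fst := fp_isHomLift_fst _ ψ
  have hp2 : 𝒴.p.IsHomLift (g ≫ f) ψ.hom.snd := fp_isHomLift_snd' _ ψ
  obtain ⟨c1, ⟨hc1, e1⟩, u1⟩ := IsStronglyCartesian.universal_property 𝒳.p f φ.hom.fst g _ rfl ψ.hom.fst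
  obtain ⟨c2, ⟨hc2, e2⟩, u2⟩ := IsStronglyCartesian.universal_property 𝒴.p f φ.hom.snd g _ rfl ψ.hom.snd
  have hz : 𝒮.p.IsHomLift (𝟙 ((FibCat.fp F G).p.obj z)) z.obj.iso.hom := z.property
  have := fp_iso_lift (R := R) x (IsHomLift.domain_eq 𝒳.p f φ.hom.fst)
  have : 𝒮.p.IsHomLift g (F.toFunctor.map c1) := BasedFunctor.preserves_isHomLift F _ c1
  have : 𝒮.p.IsHomLift g (G.toFunctor.map c2) := BasedFunctor.preserves_isHomLift G _ c2
  have w : F.toFunctor.map c1 ≫ x.obj.iso.hom = z.obj.iso.hom ≫ G.toFunctor.map c2 := by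
    apply IsStronglyCartesian.ext 𝒮.p f (G.toFunctor.map φ.hom.snd) g
    rw [Category.assoc, Category.assoc, ← φ.hom.w, ← F.toFunctor.map_comp_assoc, e1,
      ← G.toFunctor.map_comp, e2]
    exact ψ.hom.w
  refine ⟨fpHom c1 c2 w, ⟨(fp_isHomLift_iff _ _).2 hc1, fp_hom_ext e1 e2⟩, ?_⟩
  rintro τ ⟨hτ, hτ'⟩
  exact fp_hom_ext (u1 _ ⟨fp_isHomLift_fst _ τ, congrArg (fun k => k.hom.fst) hτ'⟩)
    (u2 _ ⟨fp_isHomLift_snd' _ τ, congrArg (fun k => k.hom.snd) hτ'⟩)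

/-- A lift in the 2-fibre product from lifts of the components. -/
lemma exists_fp_lift {R S : C} (f : R ⟶ S) (y : (FibCat.fp F G).obj) {a : 𝒳.obj} {b : 𝒴.obj}
    (α : a ⟶ y.obj.fst) (β : b ⟶ y.obj.snd) [𝒳.p.IsHomLift f α] [𝒴.p.IsHomLift f β]
    [hF : 𝒮.p.IsCartesian f (F.toFunctor.map α)] [hG : 𝒮.p.IsCartesian f (G.toFunctor.map β)] :
    ∃ (x : (FibCat.fp F G).obj) (φ : x ⟶ y) (h₁ : x.obj.fst = a) (h₂ : x.obj.snd = b),
      φ.hom.fst = eqToHom h₁ ≫ α ∧ φ.hom.snd = eqToHom h₂ ≫ β := by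
  have := fp_iso_lift (R := S) y (IsHomLift.codomain_eq 𝒳.p f α)
  have : 𝒮.p.IsCartesian f (F.toFunctor.map α ≫ y.obj.iso.hom) :=
    IsCartesian.of_comp_iso 𝒮.p f (F.toFunctor.map α) y.obj.iso
  let e := IsCartesian.domainUniqueUpToIso 𝒮.p f (G.toFunctor.map β) (F.toFunctor.map α ≫ y.obj.iso.hom)
  have he : 𝒮.p.IsHomLift (𝟙 R) e.hom := inferInstance
  refine ⟨fpMk a b e ((IsHomLift.domain_eq 𝒳.p f α).symm ▸ he), fpHom α β ?_, rfl, rfl, ?_, ?_⟩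
  · exact (IsCartesian.fac 𝒮.p f (G.toFunctor.map β) (F.toFunctor.map α ≫ y.obj.iso.hom)).symm
  · simp
  · simp

lemma isFibered_fp [𝒳.p.IsFibered] [𝒴.p.IsFibered]
    (hF : ∀ {R S : C} (f : R ⟶ S) {a b : 𝒳.obj} (φ : a ⟶ b), 𝒳.p.IsStronglyCartesian f φ → 𝒮.p.IsStronglyCartesian f (F.toFunctor.map φ))
    (hG : ∀ {R S : C} (f : R ⟶ S) {a b : 𝒴.obj} (φ : a ⟶ b), 𝒴.p.IsStronglyCartesian f φ → 𝒮.p.IsStronglyCartesian f (G.toFunctor.map φ)) :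
    (FibCat.fp F G).p.IsFibered := by
  refine Functor.IsFibered.of_exists_isStronglyCartesian fun y R f => ?_
  obtain ⟨a, α, hα⟩ := IsPreFibered.exists_isCartesian 𝒳.p (rfl : 𝒳.p.obj y.obj.fst = _) f
  obtain ⟨b, β, hβ⟩ := IsPreFibered.exists_isCartesian 𝒴.p (fp_obj_snd y) f
  have := hF f α inferInstance
  have := hG f β inferInstance
  obtain ⟨x, φ, rfl, rfl, e1, e2⟩ := exists_fp_lift f y α β
  simp only [eqToHom_refl, Category.id_comp] at e1 e2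
  have : 𝒳.p.IsStronglyCartesian f φ.hom.fst := by rw [e1]; infer_instance
  have : 𝒴.p.IsStronglyCartesian f φ.hom.snd := by rw [e2]; infer_instance
  have : 𝒮.p.IsStronglyCartesian f (G.toFunctor.map φ.hom.snd) := hG f _ inferInstance
  exact ⟨x, φ, isStronglyCartesian_fp f φ⟩

lemma isFibGrpd_fp (h𝒳 : FibCat.IsFibGrpd 𝒳.p) (h𝒴 : FibCat.IsFibGrpd 𝒴.p) (h𝒮 : FibCat.IsFibGrpd 𝒮.p) :
    FibCat.IsFibGrpd (FibCat.fp F G).p where
  exists_lift {y R} f := by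
    obtain ⟨a, α, hα⟩ := h𝒳.exists_lift f
    obtain ⟨b, β, hβ⟩ := exists_lift h𝒴 (fp_obj_snd y) f
    have := stronglyCartesian_of_isHomLift h𝒮 f (F.toFunctor.map α)
    have := stronglyCartesian_of_isHomLift h𝒮 f (G.toFunctor.map β)
    obtain ⟨x, φ, rfl, rfl, e1, -⟩ := exists_fp_lift f y α β
    refine ⟨x, φ, (fp_isHomLift_iff f φ).2 ?_⟩
    simp only [eqToHom_refl, Category.id_comp] at e1
    rw [e1]; exact hα
  isStronglyCartesian {x y} φ := by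
    have h1 := fp_isHomLift_fst ((FibCat.fp F G).p.map φ) φ
    have h2 := fp_isHomLift_snd' ((FibCat.fp F G).p.map φ) φ
    have := stronglyCartesian_of_isHomLift h𝒳 ((FibCat.fp F G).p.map φ) φ.hom.fst
    have := stronglyCartesian_of_isHomLift h𝒴 ((FibCat.fp F G).p.map φ) φ.hom.snd
    have := stronglyCartesian_of_isHomLift h𝒮 ((FibCat.fp F G).p.map φ) (G.toFunctor.map φ.hom.snd)
    exact isStronglyCartesian_fp _ φ

lemma isFibSet_selfOver : FibCat.IsFibSet (FibCat.selfOver C).p := by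
  change FibCat.IsFibSet (𝟭 C)
  rw [isFibSet_iff_existsUnique_lift]
  intro η R f
  refine ⟨⟨R, f⟩, (IsHomLift.map (𝟭 C) f : (𝟭 C).IsHomLift f f), ?_⟩
  rintro ⟨ξ, φ⟩ h
  have : (𝟭 C).IsHomLift f φ := h
  obtain rfl : ξ = R := IsHomLift.domain_eq (𝟭 C) f φ
  obtain rfl : f = φ := IsHomLift.eq_of_isHomLift (𝟭 C) f φ
  rfl

section Self

variable {𝒳' : BasedCategory.{v₂, u₂} C} {𝒴' : BasedCategory.{v₃, u₃} C}

lemma self_cartesian {R S : C} (f : R ⟶ S) {a b : (FibCat.selfOver C).obj} (φ : a ⟶ b)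
    [(FibCat.selfOver C).p.IsHomLift f φ] : (FibCat.selfOver C).p.IsStronglyCartesian f φ :=
  stronglyCartesian_of_isHomLift isFibSet_selfOver.1 f φ

lemma isCartesian_fp_self_iff {x y : (FibCat.fp (FibCat.toSelf 𝒳') (FibCat.toSelf 𝒴')).obj} {R S : C}
    (f : R ⟶ S) (φ : x ⟶ y) [(FibCat.fp (FibCat.toSelf 𝒳') (FibCat.toSelf 𝒴')).p.IsHomLift f φ] :
    (FibCat.fp (FibCat.toSelf 𝒳') (FibCat.toSelf 𝒴')).p.IsCartesian f φ ↔
      𝒳'.p.IsCartesian f φ.hom.fst ∧ 𝒴'.p.IsCartesian f φ.hom.snd := by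
  have l1 := fp_isHomLift_fst f φ
  have l2 := fp_isHomLift_snd' f φ
  constructor
  · intro h
    have hx := fp_iso_lift (R := R) x (IsHomLift.domain_eq 𝒳'.p f φ.hom.fst)
    constructor
    · refine { universal_property := fun {a} ψ hψ => ?_ }
      have hab : 𝒳'.p.obj a = 𝒴'.p.obj x.obj.snd :=
        (IsHomLift.domain_eq 𝒳'.p f ψ).trans (IsHomLift.domain_eq 𝒴'.p f φ.hom.snd).symm
      let z : (FibCat.fp (FibCat.toSelf 𝒳') (FibCat.toSelf 𝒴')).obj :=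
        fpMk a x.obj.snd (eqToIso hab) (IsHomLift.eqToHom_domain_lift_id (p := 𝟭 C) hab rfl)
      have wz : (FibCat.toSelf 𝒳').toFunctor.map ψ ≫ y.obj.iso.hom =
          z.obj.iso.hom ≫ (FibCat.toSelf 𝒴').toFunctor.map φ.hom.snd := by
        have := fp_iso_lift (R := S) y (IsHomLift.codomain_eq 𝒳'.p f φ.hom.fst)
        have : (FibCat.selfOver C).p.IsHomLift (𝟙 R) z.obj.iso.hom :=
          IsHomLift.eqToHom_domain_lift_id (p := 𝟭 C) hab (IsHomLift.domain_eq 𝒳'.p f ψ)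
        exact hom_eq isFibSet_selfOver f _ _
      have hz : (FibCat.fp (FibCat.toSelf 𝒳') (FibCat.toSelf 𝒴')).p.IsHomLift f (fpHom (x := z) ψ φ.hom.snd wz) :=
        (fp_isHomLift_iff _ _).2 hψ
      obtain ⟨χ, ⟨hχ, e⟩, u⟩ := h.universal_property (fpHom (x := z) ψ φ.hom.snd wz)
      refine ⟨χ.hom.fst, ⟨fp_isHomLift_fst _ χ, congrArg (fun k => k.hom.fst) e⟩, ?_⟩
      rintro τ ⟨hτ, hτ'⟩
      have wτ : (FibCat.toSelf 𝒳').toFunctor.map τ ≫ x.obj.iso.hom =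
          z.obj.iso.hom ≫ (FibCat.toSelf 𝒴').toFunctor.map (𝟙 _) := by
        have : (FibCat.selfOver C).p.IsHomLift (𝟙 R) z.obj.iso.hom :=
          IsHomLift.eqToHom_domain_lift_id (p := 𝟭 C) hab (IsHomLift.domain_eq 𝒳'.p f ψ)
        have : 𝒴'.p.IsHomLift (𝟙 R) (𝟙 x.obj.snd) := IsHomLift.id (IsHomLift.domain_eq 𝒴'.p f φ.hom.snd)
        exact hom_eq isFibSet_selfOver (𝟙 R) _ _
      exact congrArg (fun k => k.hom.fst) (u (fpHom (x := z) (y := x) τ (𝟙 _) wτ)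
        ⟨(fp_isHomLift_iff _ _).2 hτ, fp_hom_ext hτ' (Category.id_comp _)⟩)
    · refine { universal_property := fun {b} ψ hψ => ?_ }
      have hab : 𝒳'.p.obj x.obj.fst = 𝒴'.p.obj b :=
        (IsHomLift.domain_eq 𝒳'.p f φ.hom.fst).trans (IsHomLift.domain_eq 𝒴'.p f ψ).symm
      let z : (FibCat.fp (FibCat.toSelf 𝒳') (FibCat.toSelf 𝒴')).obj :=
        fpMk x.obj.fst b (eqToIso hab) (IsHomLift.eqToHom_domain_lift_id (p := 𝟭 C) hab rfl)
      have hzl : (FibCat.selfOver C).p.IsHomLift (𝟙 R) z.obj.iso.hom :=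
        IsHomLift.eqToHom_domain_lift_id (p := 𝟭 C) hab (IsHomLift.domain_eq 𝒳'.p f φ.hom.fst)
      have wz : (FibCat.toSelf 𝒳').toFunctor.map φ.hom.fst ≫ y.obj.iso.hom =
          z.obj.iso.hom ≫ (FibCat.toSelf 𝒴').toFunctor.map ψ := by
        have := fp_iso_lift (R := S) y (IsHomLift.codomain_eq 𝒳'.p f φ.hom.fst)
        exact hom_eq isFibSet_selfOver f _ _
      have hz : (FibCat.fp (FibCat.toSelf 𝒳') (FibCat.toSelf 𝒴')).p.IsHomLift f (fpHom (x := z) φ.hom.fst ψ wz) :=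
        (fp_isHomLift_iff _ _).2 l1
      obtain ⟨χ, ⟨hχ, e⟩, u⟩ := h.universal_property (fpHom (x := z) φ.hom.fst ψ wz)
      refine ⟨χ.hom.snd, ⟨fp_isHomLift_snd' _ χ, congrArg (fun k => k.hom.snd) e⟩, ?_⟩
      rintro τ ⟨hτ, hτ'⟩
      have : 𝒳'.p.IsHomLift (𝟙 R) (𝟙 x.obj.fst) := IsHomLift.id (IsHomLift.domain_eq 𝒳'.p f φ.hom.fst)
      have wτ : (FibCat.toSelf 𝒳').toFunctor.map (𝟙 _) ≫ x.obj.iso.hom =
          z.obj.iso.hom ≫ (FibCat.toSelf 𝒴').toFunctor.map τ :=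
        hom_eq isFibSet_selfOver (𝟙 R) _ _
      exact congrArg (fun k => k.hom.snd) (u (fpHom (x := z) (y := x) (𝟙 _) τ wτ)
        ⟨(fp_isHomLift_iff _ _).2 (IsHomLift.id (IsHomLift.domain_eq 𝒳'.p f φ.hom.fst)), fp_hom_ext (Category.id_comp _) hτ'⟩)
  · rintro ⟨_, _⟩
    have : (FibCat.selfOver C).p.IsStronglyCartesian f ((FibCat.toSelf 𝒴').toFunctor.map φ.hom.snd) :=
      self_cartesian f _
    exact isCartesian_fp f φ

end Self

end Groth.CatFib
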