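import Mathlib.CategoryTheory.Localization.CalculusOfFractions
import Mathlib.CategoryTheory.Limits.Preserves.Finite
import Mathlib.Data.Fintype.Sigma
import Mathlib.Data.Fintype.Prod

/-!
# Consequences of a calculus of left fractions: common denominators
-/

universe v' u' v u

open CategoryTheory CategoryTheory.Limits

namespace Groth.CatFib

variable {C : Type u} [Category.{v} C] {D : Type u'} [Category.{v'} D] (W : MorphismProperty C)
  (L : C ⥤ D) [L.IsLocalization W] [W.HasLeftCalculusOfFractions]

omit [L.IsLocalization W] in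
lemma exists_common_upper {Y Y' Y'' : C} (s : Y ⟶ Y') (hs : W s) (s' : Y ⟶ Y'') (hs' : W s') :
    ∃ (Z : C) (t : Y' ⟶ Z) (u : Y'' ⟶ Z), W (s' ≫ u) ∧ W u ∧ s ≫ t = s' ≫ u := by
  obtain ⟨ψ, hψ⟩ := (MorphismProperty.RightFraction.mk (W := W) s hs s').exists_leftFraction
  exact ⟨ψ.Y', ψ.f, ψ.s, W.comp_mem _ _ hs' ψ.hs, ψ.hs, hψ.symm⟩

omit [W.HasLeftCalculusOfFractions] in
lemma isIso_map_of_mem {X Y : C} (s : X ⟶ Y) (hs : W s) : IsIso (L.map s) :=
  Localization.inverts L W s hs

/-- Common denominators for finitely many morphisms with the same target. -/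
lemma exists_common_denominator_finset {ι : Type*} [DecidableEq ι] (F : Finset ι) (X : ι → C) (Y : C)
    (g : ∀ i, L.obj (X i) ⟶ L.obj Y) :
    ∃ (Y' : C) (s : Y ⟶ Y') (_ : W s), ∀ i ∈ F, ∃ f : X i ⟶ Y', g i ≫ L.map s = L.map f := by
  induction F using Finset.induction with
  | empty => exact ⟨Y, 𝟙 Y, W.id_mem Y, by simp⟩
  | @insert a F _ ih =>
    obtain ⟨Y', s, hs, h⟩ := ih
    obtain ⟨φ, hφ⟩ := Localization.exists_leftFraction L W (g a)
    obtain ⟨Z, t, u, hu, -, e⟩ := exists_common_upper W s hs φ.s φ.hs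
    refine ⟨Z, φ.s ≫ u, hu, fun i hi => ?_⟩
    rcases Finset.mem_insert.1 hi with rfl | hi
    · refine ⟨φ.f ≫ u, ?_⟩
      rw [hφ, L.map_comp, L.map_comp, φ.map_comp_map_s_assoc]
    · obtain ⟨f, hf⟩ := h i hi
      refine ⟨f ≫ t, ?_⟩
      rw [← e, L.map_comp, L.map_comp, reassoc_of% hf]

/-- Common denominators for a finite family. -/
lemma exists_common_denominator {ι : Type*} [Finite ι] (X : ι → C) (Y : C)
    (g : ∀ i, L.obj (X i) ⟶ L.obj Y) :
    ∃ (Y' : C) (s : Y ⟶ Y') (_ : W s) (f : ∀ i, X i ⟶ Y'), ∀ i, g i ≫ L.map s = L.map (f i) := by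
  classical
  have := Fintype.ofFinite ι
  obtain ⟨Y', s, hs, h⟩ := exists_common_denominator_finset W L Finset.univ X Y g
  choose f hf using fun i => h i (Finset.mem_univ i)
  exact ⟨Y', s, hs, f, hf⟩

/-- Finitely many pairs equalized by `L` are equalized by one morphism of `W`. -/
lemma exists_equalizing {ι : Type*} [Finite ι] (X : ι → C) (Y : C) (a b : ∀ i, X i ⟶ Y)
    (h : ∀ i, L.map (a i) = L.map (b i)) :
    ∃ (Z : C) (t : Y ⟶ Z) (_ : W t), ∀ i, a i ≫ t = b i ≫ t := by
  classical
  have := Fintype.ofFinite ι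
  suffices ∀ F : Finset ι, ∃ (Z : C) (t : Y ⟶ Z) (_ : W t), ∀ i ∈ F, a i ≫ t = b i ≫ t by
    obtain ⟨Z, t, ht, e⟩ := this Finset.univ
    exact ⟨Z, t, ht, fun i => e i (Finset.mem_univ i)⟩
  intro F
  induction F using Finset.induction with
  | empty => exact ⟨Y, 𝟙 Y, W.id_mem Y, by simp⟩
  | @insert c F _ ih =>
    obtain ⟨Z, t, ht, e⟩ := ih
    obtain ⟨Z', s, hs, e'⟩ := (MorphismProperty.map_eq_iff_postcomp L W (a c ≫ t) (b c ≫ t)).1
      (by simp [h])
    refine ⟨Z', t ≫ s, W.comp_mem _ _ ht hs, fun i hi => ?_⟩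
    rcases Finset.mem_insert.1 hi with rfl | hi
    · simpa using e'
    · rw [reassoc_of% (e i hi)]

include W in
lemma preservesColimitsOfShape_of_finCategory (J : Type) [SmallCategory J] [FinCategory J] :
    PreservesColimitsOfShape J L where
  preservesColimit {K} :=
    ⟨fun {c} hc => ⟨by
      have := Localization.essSurj L W
      have hfin : Finite (Σ p : J × J, p.1 ⟶ p.2) := Finite.of_fintype _
      have hex : ∀ (d : Cocone (K ⋙ L)), ∃ g : L.obj c.pt ⟶ d.pt,
          ∀ j, L.map (c.ι.app j) ≫ g = d.ι.app j := by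
        intro d
        let e := L.objObjPreimageIso d.pt
        obtain ⟨Y', s, hs, f, hf⟩ := exists_common_denominator W L (fun j => K.obj j) (L.objPreimage d.pt)
          (fun j => d.ι.app j ≫ e.inv)
        obtain ⟨Z, t, ht, heq⟩ := exists_equalizing W L (fun p : Σ p : J × J, p.1 ⟶ p.2 => K.obj p.1.1) Y'
          (fun p => K.map p.2 ≫ f p.1.2) (fun p => f p.1.1) (fun p => by
            rw [L.map_comp, ← hf, ← hf]
            have := d.w p.2
            simp only [Functor.comp_map] at this
            simp only [Category.assoc, reassoc_of% this])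
        have := isIso_map_of_mem W L (s ≫ t) (W.comp_mem _ _ hs ht)
        refine ⟨L.map (hc.desc (Cocone.mk Z
            { app := fun j => f j ≫ t
              naturality := fun i j u => by
                simpa using heq ⟨(i, j), u⟩ })) ≫ inv (L.map (s ≫ t)) ≫ e.hom, fun j => ?_⟩
        rw [← L.map_comp_assoc, hc.fac, L.map_comp, ← hf]
        simp
      have huniq : ∀ (Y : D) (g g' : L.obj c.pt ⟶ Y),
          (∀ j, L.map (c.ι.app j) ≫ g = L.map (c.ι.app j) ≫ g') → g = g' := by
        intro Y g g' h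
        let e := L.objObjPreimageIso Y
        obtain ⟨Y', s, hs, f, hf⟩ := exists_common_denominator W L (fun _ : Bool => c.pt) (L.objPreimage Y)
          (fun b => (if b then g else g') ≫ e.inv)
        obtain ⟨Z, t, ht, heq⟩ := exists_equalizing W L (fun j => K.obj j) Y'
          (fun j => c.ι.app j ≫ f true) (fun j => c.ι.app j ≫ f false) (fun j => by
            rw [L.map_comp, L.map_comp, ← hf, ← hf]
            simp [reassoc_of% (h j)])
        have hh : f true ≫ t = f false ≫ t := hc.hom_ext fun j => by simpa using heq j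
        have := isIso_map_of_mem W L (s ≫ t) (W.comp_mem _ _ hs ht)
        rw [← cancel_mono e.inv, ← cancel_mono (L.map (s ≫ t))]
        have h1 := hf true
        have h2 := hf false
        simp only [if_true, Bool.false_eq_true, if_false] at h1 h2
        rw [L.map_comp, Category.assoc, Category.assoc]
        rw [Category.assoc] at h1 h2
        rw [reassoc_of% h1, reassoc_of% h2, ← L.map_comp, ← L.map_comp, hh]
      choose desc hdesc using hex
      exact
        { desc := desc
          fac := fun d j => hdesc d j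
          uniq := fun d m hm => huniq _ _ _ fun j => (hm j).trans (hdesc d j).symm }⟩⟩

include W in
lemma preservesFiniteColimits : PreservesFiniteColimits L :=
  ⟨fun J _ _ => preservesColimitsOfShape_of_finCategory W L J⟩

end Groth.CatFib
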