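import Groth.Agent.CategoryFibred.Fp
import Groth.Agent.StkBase.Yoneda

/-!
# Functors between categories fibred in groupoids; inertia
-/

set_option autoImplicit false
set_option backward.isDefEq.respectTransparency false
set_option backward.isDefEq.respectTransparency.types false

open CategoryTheory CategoryTheory.Functor Groth.StkBase

universe v₃ u₃ v₂ u₂ v u

namespace Groth.CatFib

variable {C : Type u} [Category.{v} C] {𝒳 : BasedCategory.{v₂, u₂} C} {𝒴 : BasedCategory.{v₃, u₃} C}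

/-- A functor between categories fibred in groupoids is fibred in groupoids as soon as lifts exist. -/
lemma isFibGrpd_functor_of_lift (hX : FibCat.IsFibGrpd 𝒳.p) (hY : FibCat.IsFibGrpd 𝒴.p) (H : 𝒳 ⥤ᵇ 𝒴)
    (hl : ∀ {x : 𝒳.obj} {y : 𝒴.obj} (g : y ⟶ H.toFunctor.obj x),
      ∃ (x' : 𝒳.obj) (φ : x' ⟶ x), H.toFunctor.IsHomLift g φ) :
    FibCat.IsFibGrpd H.toFunctor where
  exists_lift := fun g => hl g
  isStronglyCartesian {y x} φ := by
    refine { universal_property' := fun {z} g ψ hψ => ?_ }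
    have he : g ≫ H.toFunctor.map φ = H.toFunctor.map ψ := IsHomLift.eq_of_isHomLift H.toFunctor _ ψ
    let g0 : 𝒳.p.obj z ⟶ 𝒳.p.obj y :=
      eqToHom (H.w_obj z).symm ≫ 𝒴.p.map g ≫ eqToHom (H.w_obj y)
    have hg0 : g0 ≫ 𝒳.p.map φ = 𝒳.p.map ψ := by
      have h1 := map_map H φ
      have h2 := map_map H ψ
      rw [← he, Functor.map_comp, h1] at h2
      have := congrArg (fun k => eqToHom (H.w_obj z).symm ≫ k ≫ eqToHom (H.w_obj x)) h2
      simpa [g0] using this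
    obtain ⟨χ, ⟨hχ, hc⟩, hu⟩ := factor_unique hX φ ψ g0 hg0
    have e : H.toFunctor.map χ = g := by
      apply hom_eq_of_comp_eq hY (H.toFunctor.map φ)
      · rw [map_map, hχ]; simp [g0]
      · rw [← H.toFunctor.map_comp, hc, he]
    refine ⟨χ, ⟨e ▸ IsHomLift.map H.toFunctor χ, hc⟩, ?_⟩
    rintro τ ⟨hτ, hτ'⟩
    have e' : g = H.toFunctor.map τ := IsHomLift.eq_of_isHomLift H.toFunctor g τ
    refine hu τ ⟨?_, hτ'⟩
    subst e'
    simp [g0, map_map]

variable (F : 𝒳 ⥤ᵇ 𝒴)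

lemma inertia_aut_isVert (x : (FibCat.inertia F).obj) : IsVert 𝒳.p x.aut.hom := by
  apply isVert_of_map (F := F)
  rw [x.map_aut]
  exact isVert_id _

lemma inertia_isHomLift_iff {R S : C} {x y : (FibCat.inertia F).obj} (f : R ⟶ S) (φ : x ⟶ y) :
    (FibCat.inertia F).p.IsHomLift f φ ↔ 𝒳.p.IsHomLift f φ.hom := by
  constructor <;> intro h
  · subst_hom_lift (FibCat.inertia F).p f φ
    exact IsHomLift.map 𝒳.p φ.hom
  · subst_hom_lift 𝒳.p f φ.hom
    exact IsHomLift.map (FibCat.inertia F).p φ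

lemma inertia_isStronglyCartesian {R S : C} {x y : (FibCat.inertia F).obj} (f : R ⟶ S) (φ : x ⟶ y)
    [h : 𝒳.p.IsStronglyCartesian f φ.hom] : (FibCat.inertia F).p.IsStronglyCartesian f φ := by
  have : (FibCat.inertia F).p.IsHomLift f φ := (inertia_isHomLift_iff F f φ).2 inferInstance
  refine { universal_property' := fun {z} g ψ hψ => ?_ }
  have hp : 𝒳.p.IsHomLift (g ≫ f) ψ.hom := (inertia_isHomLift_iff F _ ψ).1 hψ
  obtain ⟨c, ⟨hc, e⟩, u⟩ := IsStronglyCartesian.universal_property 𝒳.p f φ.hom g _ rfl ψ.hom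
  have h1 := (inertia_aut_isVert F z).isHomLift (R := (FibCat.inertia F).p.obj z) rfl
  have h2 := (inertia_aut_isVert F x).isHomLift (R := R) (IsHomLift.domain_eq 𝒳.p f φ.hom)
  have w : z.aut.hom ≫ c = c ≫ x.aut.hom := by
    apply IsStronglyCartesian.ext 𝒳.p f φ.hom g
    rw [Category.assoc, e, Category.assoc, x.aut.hom ≫= rfl, φ.comm, ← Category.assoc, e, ψ.comm]
  refine ⟨⟨c, w⟩, ⟨(inertia_isHomLift_iff F _ _).2 hc, FibCat.InertiaObj.hom_ext e⟩, ?_⟩
  rintro τ ⟨hτ, hτ'⟩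
  exact FibCat.InertiaObj.hom_ext
    (u _ ⟨(inertia_isHomLift_iff F _ τ).1 hτ, congrArg (fun k => k.hom) hτ'⟩)

lemma inertia_exists_lift {R S : C} (f : R ⟶ S) (y : (FibCat.inertia F).obj) {a : 𝒳.obj} (φ : a ⟶ y.pt)
    [h : 𝒳.p.IsCartesian f φ] [hF : 𝒴.p.IsCartesian f (F.toFunctor.map φ)] :
    ∃ (x : (FibCat.inertia F).obj) (ψ : x ⟶ y) (h : x.pt = a), ψ.hom = eqToHom h ≫ φ := by
  have := (inertia_aut_isVert F y).isHomLift (R := S) (IsHomLift.codomain_eq 𝒳.p f φ)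
  have := IsHomLift.lift_id_inv 𝒳.p S y.aut
  let α := IsCartesian.map 𝒳.p f φ (φ ≫ y.aut.hom)
  let β := IsCartesian.map 𝒳.p f φ (φ ≫ y.aut.inv)
  have e1 : α ≫ β = 𝟙 a := by
    have : 𝒳.p.IsHomLift (𝟙 R) (𝟙 a) := IsHomLift.id (IsHomLift.domain_eq 𝒳.p f φ)
    apply IsCartesian.ext 𝒳.p f φ
    simp [α, β]
  have e2 : β ≫ α = 𝟙 a := by
    have : 𝒳.p.IsHomLift (𝟙 R) (𝟙 a) := IsHomLift.id (IsHomLift.domain_eq 𝒳.p f φ)
    apply IsCartesian.ext 𝒳.p f φ
    simp [α, β]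
  have hα : F.toFunctor.map α = 𝟙 (F.toFunctor.obj a) := by
    have : 𝒴.p.IsHomLift (𝟙 R) (F.toFunctor.map α) := BasedFunctor.preserves_isHomLift F _ α
    have : 𝒴.p.IsHomLift (𝟙 R) (𝟙 (F.toFunctor.obj a)) :=
      IsHomLift.id ((F.w_obj a).trans (IsHomLift.domain_eq 𝒳.p f φ))
    apply IsCartesian.ext 𝒴.p f (F.toFunctor.map φ)
    rw [← F.toFunctor.map_comp, IsCartesian.fac, F.toFunctor.map_comp, y.map_aut]
    simp
  refine ⟨⟨a, ⟨α, β, e1, e2⟩, hα⟩, ⟨φ, IsCartesian.fac 𝒳.p f φ (φ ≫ y.aut.hom)⟩, rfl, ?_⟩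
  simp

lemma isFibered_inertia [𝒳.p.IsFibered] (hF : ∀ {R S : C} (f : R ⟶ S) {a b : 𝒳.obj} (φ : a ⟶ b),
      𝒳.p.IsStronglyCartesian f φ → 𝒴.p.IsStronglyCartesian f (F.toFunctor.map φ)) :
    (FibCat.inertia F).p.IsFibered := by
  refine Functor.IsFibered.of_exists_isStronglyCartesian fun y R f => ?_
  obtain ⟨a, φ, hφ⟩ := IsPreFibered.exists_isCartesian 𝒳.p (rfl : 𝒳.p.obj y.pt = _) f
  have := hF f φ inferInstance
  obtain ⟨x, ψ, rfl, e⟩ := inertia_exists_lift F f y φ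
  simp only [eqToHom_refl, Category.id_comp] at e
  have : 𝒳.p.IsStronglyCartesian f ψ.hom := by rw [e]; infer_instance
  exact ⟨x, ψ, inertia_isStronglyCartesian F f ψ⟩

lemma isFibGrpd_inertia (hX : FibCat.IsFibGrpd 𝒳.p) (hY : FibCat.IsFibGrpd 𝒴.p) :
    FibCat.IsFibGrpd (FibCat.inertia F).p where
  exists_lift {y R} f := by
    obtain ⟨a, φ, hφ⟩ := hX.exists_lift (x := y.pt) f
    have := stronglyCartesian_of_isHomLift hX f φ
    have := stronglyCartesian_of_isHomLift hY f (F.toFunctor.map φ)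
    obtain ⟨x, ψ, rfl, e⟩ := inertia_exists_lift F f y φ
    refine ⟨x, ψ, (inertia_isHomLift_iff F f ψ).2 ?_⟩
    simp only [eqToHom_refl, Category.id_comp] at e
    rw [e]; exact hφ
  isStronglyCartesian {x y} φ := by
    have := (inertia_isHomLift_iff F ((FibCat.inertia F).p.map φ) φ).1 inferInstance
    have := stronglyCartesian_of_isHomLift hX ((FibCat.inertia F).p.map φ) φ.hom
    exact inertia_isStronglyCartesian F _ φ

end Groth.CatFib
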