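import Mathlib.CategoryTheory.Subobject.Limits
import Mathlib.CategoryTheory.Abelian.Basic

/-! Small lemmas on image subobjects in abelian categories. -/

universe v u

open CategoryTheory CategoryTheory.Limits

namespace Groth.CatFib

variable {A : Type u} [Category.{v} A] [Abelian A]

lemma img_epi_comp {X Y Z : A} (e : X ⟶ Y) [Epi e] (h : Y ⟶ Z) :
    imageSubobject (e ≫ h) = imageSubobject h := by
  refine le_antisymm (imageSubobject_comp_le e h) ?_
  haveI : IsIso (Subobject.ofLE _ _ (imageSubobject_comp_le e h)) := isIso_of_mono_of_epi _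
  exact Subobject.le_of_comm (inv (Subobject.ofLE _ _ (imageSubobject_comp_le e h))) (by simp)

lemma img_epi_top {X Y : A} (f : X ⟶ Y) [Epi f] : imageSubobject f = ⊤ := by
  rw [← Category.comp_id f, img_epi_comp, imageSubobject_mono, Subobject.mk_eq_top_of_isIso]

lemma img_comp_mono {X Y Z : A} (h : X ⟶ Y) (g : Y ⟶ Z) [Mono g] :
    imageSubobject (h ≫ g) = Subobject.mk ((imageSubobject h).arrow ≫ g) := by
  conv_lhs => rw [← imageSubobject_arrow_comp h, Category.assoc, img_epi_comp, imageSubobject_mono]

lemma img_le_of_le_pullback {X Y : A} (P : Subobject X) (f : X ⟶ Y) (Q : Subobject Y)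
    (hR : P ≤ (Subobject.pullback f).obj Q) : imageSubobject (P.arrow ≫ f) ≤ Q := by
  refine imageSubobject_le _ (Subobject.ofLE _ _ hR ≫ Subobject.pullbackπ f Q) ?_
  rw [Category.assoc, (Subobject.isPullback f Q).w, ← Category.assoc, Subobject.ofLE_arrow]

end Groth.CatFib
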