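import Mathlib.AlgebraicTopology.SimplicialObject.Basic
import Mathlib.Algebra.Category.Grp.Basic

/-!
Moore's algorithm for filling horns in simplicial groups.
-/

set_option autoImplicit false

universe u

open CategoryTheory Opposite Simplicial

namespace Groth.CatFib.Moore

variable (X : SimplicialObject GrpCat.{u}) (P : ∀ n : ℕ, X.obj (op ⦋n⦌) → Prop)

/-- A degreewise predicate cutting out a simplicial subgroup. -/
structure IsSub : Prop where
  one : ∀ n, P n 1
  mul : ∀ n x y, P n x → P n y → P n (x * y)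
  inv : ∀ n x, P n x → P n x⁻¹
  δ : ∀ n (i : Fin (n + 2)) x, P (n + 1) x → P n (X.δ i x)
  σ : ∀ n (i : Fin (n + 1)) x, P n x → P (n + 1) (X.σ i x)

variable {X P}

/-- The compatibility of prescribed faces on the indices in `A`. -/
def Compat : {n : ℕ} → (A : Fin (n + 2) → Prop) → (Fin (n + 2) → X.obj (op ⦋n⦌)) → Prop
  | 0, _, _ => True
  | m + 1, A, x => ∀ (j k : Fin (m + 3)) (h : j < k), A j → A k →
      X.δ (k.pred (Fin.ne_zero_of_lt h)) (x j) = X.δ (j.castPred (Fin.ne_last_of_lt h)) (x k)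

lemma δδ {m : ℕ} (a b : Fin (m + 3)) (h : a < b) (w : X.obj (op ⦋m + 2⦌)) :
    X.δ (a.castPred (Fin.ne_last_of_lt h)) (X.δ b w) = X.δ (b.pred (Fin.ne_zero_of_lt h)) (X.δ a w) := by
  obtain ⟨a', rfl⟩ := a.eq_castSucc_of_ne_last (Fin.ne_last_of_lt h)
  obtain ⟨b', rfl⟩ := b.eq_succ_of_ne_zero (Fin.ne_zero_of_lt h)
  rw [Fin.castPred_castSucc, Fin.pred_succ]
  exact ConcreteCategory.congr_hom (X.δ_comp_δ (Fin.le_def.2 (by rw [Fin.lt_def] at h; simp at h; omega))) w

lemma step (hP : IsSub X P) {n : ℕ} (A S : Fin (n + 2) → Prop) (x : Fin (n + 2) → X.obj (op ⦋n⦌))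
    (hA : ∀ j, A j → P n (x j)) (hx : Compat A x) (hS : ∀ l, S l → A l) (w : X.obj (op ⦋n + 1⦌))
    (hw : P (n + 1) w) (hwS : ∀ l, S l → X.δ l w = x l) (j : Fin (n + 2)) (hj : A j) (a : Fin (n + 1))
    (ha : (j = a.castSucc ∧ ∀ l, S l → l < j) ∨ (j = a.succ ∧ ∀ l, S l → l.val + 1 < j.val ∨ j < l)) :
    ∃ w', P (n + 1) w' ∧ X.δ j w' = x j ∧ ∀ l, S l → X.δ l w' = x l := by
  let u := (X.δ j w)⁻¹ * x j
  have hu : P n u := hP.mul _ _ _ (hP.inv _ _ (hP.δ _ _ _ hw)) (hA j hj)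
  refine ⟨w * X.σ a u, hP.mul _ _ _ hw (hP.σ _ _ _ hu), ?_, fun l hl => ?_⟩
  · have e : X.δ j (X.σ a u) = u := by
      rcases ha with ⟨rfl, -⟩ | ⟨rfl, -⟩
      · exact ConcreteCategory.congr_hom X.δ_comp_σ_self u
      · exact ConcreteCategory.congr_hom X.δ_comp_σ_succ u
    rw [map_mul, e, mul_inv_cancel_left]
  rw [map_mul, hwS l hl]
  suffices X.δ l (X.σ a u) = 1 by rw [this, mul_one]
  have hlv : l.val < a.val ∨ a.val + 1 < l.val := by
    rcases ha with ⟨rfl, h'⟩ | ⟨rfl, h'⟩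
    · have := h' l hl
      rw [Fin.lt_def] at this; simp at this
      exact Or.inl this
    · have := h' l hl
      rw [Fin.lt_def] at this; simp at this
      omega
  obtain _ | m := n
  · have := a.isLt; have := l.isLt; omega
  have key : ∀ (i : Fin (m + 2)), (i.val = l.val ∧ l < j) ∨ (i.val + 1 = l.val ∧ j < l) → X.δ i u = 1 := by
    rintro i (⟨hi, hlj⟩ | ⟨hi, hlj⟩)
    · obtain rfl : i = l.castPred (Fin.ne_last_of_lt hlj) := Fin.ext (by simpa using hi)
      rw [map_mul, map_inv, δδ l j hlj, hwS l hl, hx l j hlj (hS l hl) hj, inv_mul_cancel]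
    · obtain rfl : i = l.pred (Fin.ne_zero_of_lt hlj) := Fin.ext (by simp; omega)
      rw [map_mul, map_inv, ← δδ j l hlj, hwS l hl, hx j l hlj hj (hS l hl), inv_mul_cancel]
  have hjv : j.val = a.val ∨ j.val = a.val + 1 := by
    rcases ha with ⟨rfl, -⟩ | ⟨rfl, -⟩ <;> simp
  rcases hlv with h | h
  · obtain ⟨i, rfl⟩ := l.eq_castSucc_of_ne_last (by intro hh; subst hh; simp at h; omega)
    obtain ⟨a', rfl⟩ := a.eq_succ_of_ne_zero (by intro hh; subst hh; simp at h)
    simp at h hjv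
    refine (ConcreteCategory.congr_hom (X.δ_comp_σ_of_le (i := i) (j := a') (Fin.le_def.2 (by simp; omega))) u).trans ?_
    exact (congrArg (X.σ a') (key i (Or.inl ⟨by simp, Fin.lt_def.2 (by simp; omega)⟩))).trans (map_one _)
  · obtain ⟨i, rfl⟩ := l.eq_succ_of_ne_zero (by intro hh; subst hh; simp at h)
    obtain ⟨a', rfl⟩ := a.eq_castSucc_of_ne_last (by intro hh; subst hh; have := i.isLt; simp at h; omega)
    simp at h hjv
    refine (ConcreteCategory.congr_hom (X.δ_comp_σ_of_gt (i := i) (j := a') (Fin.lt_def.2 (by simp; omega))) u).trans ?_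
    exact (congrArg (X.σ a') (key i (Or.inr ⟨by simp, Fin.lt_def.2 (by simp; omega)⟩))).trans (map_one _)

theorem exists_filler (hP : IsSub X P) {n : ℕ} (i : Fin (n + 2)) (x : Fin (n + 2) → X.obj (op ⦋n⦌))
    (hA : ∀ j, j ≠ i → P n (x j)) (hx : Compat (fun j => j ≠ i) x) :
    ∃ w, P (n + 1) w ∧ ∀ j, j ≠ i → X.δ j w = x j := by
  have phase1 : ∀ t, t ≤ i.val → ∃ w, P (n + 1) w ∧ ∀ j : Fin (n + 2), j.val < t → X.δ j w = x j := by
    intro t
    induction t with
    | zero => exact fun _ => ⟨1, hP.one _, fun j h => absurd h (Nat.not_lt_zero _)⟩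
    | succ t ih =>
      intro ht
      obtain ⟨w, hw, hwS⟩ := ih (by omega)
      have := i.isLt
      obtain ⟨w', hw', e, e'⟩ := step hP (fun j => j ≠ i) (fun j => j.val < t) x hA hx
        (fun l hl h => by subst h; omega) w hw hwS ⟨t, by omega⟩ (fun h => by rw [← h] at ht; simp at ht)
        ⟨t, by omega⟩ (Or.inl ⟨rfl, fun l hl => hl⟩)
      refine ⟨w', hw', fun j hj => ?_⟩
      rcases Nat.lt_succ_iff_lt_or_eq.1 hj with h | h
      · exact e' j h
      · rw [show j = ⟨t, by omega⟩ from Fin.ext h]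
        exact e
  have phase2 : ∀ t, t + i.val ≤ n + 1 → ∃ w, P (n + 1) w ∧
      ∀ j : Fin (n + 2), j.val < i.val ∨ n + 1 < j.val + t → X.δ j w = x j := by
    intro t
    induction t with
    | zero =>
      intro _
      obtain ⟨w, hw, h⟩ := phase1 i.val le_rfl
      exact ⟨w, hw, fun j hj => h j (by have := j.isLt; omega)⟩
    | succ t ih =>
      intro ht
      obtain ⟨w, hw, hwS⟩ := ih (by omega)
      obtain ⟨w', hw', e, e'⟩ := step hP (fun j => j ≠ i) (fun j => j.val < i.val ∨ n + 1 < j.val + t) x hA hx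
        (fun l hl h => by subst h; omega) w hw hwS ⟨n + 1 - t, by omega⟩ (fun h => by rw [← h] at ht; simp at ht; omega)
        ⟨n - t, by omega⟩ (Or.inr ⟨Fin.ext (by simp; omega), fun l hl => by simp [Fin.lt_def]; omega⟩)
      refine ⟨w', hw', fun j hj => ?_⟩
      by_cases h : j.val = n + 1 - t
      · rw [show j = ⟨n + 1 - t, by omega⟩ from Fin.ext h]
        exact e
      · exact e' j (by omega)
  obtain ⟨w, hw, h⟩ := phase2 (n + 1 - i.val) (by have := i.isLt; omega)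
  exact ⟨w, hw, fun j hj => h j (by have := i.isLt; have := Fin.val_ne_of_ne hj; omega)⟩

end Groth.CatFib.Moore
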