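import Groth.Agent.CategoryFibred.MooreFill
import Mathlib.AlgebraicTopology.SimplicialSet.KanComplex
import Mathlib.Algebra.Category.Grp.EquivalenceGroupAddGroup

/-!
Elements of simplicial groups versus maps of simplicial sets; kernels of maps of simplicial abelian groups.
-/

set_option autoImplicit false

universe u

open CategoryTheory Opposite Simplicial

namespace Groth.CatFib.Moore

lemma yoneda_δ {S : SSet.{u}} {n : ℕ} (a : Fin (n + 2)) (φ : Δ[n + 1] ⟶ S) :
    S.map (SimplexCategory.δ a).op (SSet.yonedaEquiv φ) = SSet.yonedaEquiv (SSet.stdSimplex.δ a ≫ φ) :=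
  SSet.yonedaEquiv_naturality _ _

/-- The faces cut out by a compatible family are compatible. -/
lemma compat_of_hom (X : SimplicialObject GrpCat.{u}) {n : ℕ} (i : Fin (n + 2))
    (f : ∀ (j : Fin (n + 2)) (_ : j ≠ i), Δ[n] ⟶ (X ⋙ forget GrpCat.{u} : SSet.{u}))
    (hf : SSet.horn.IsCompatible f) (x : Fin (n + 2) → X.obj (op ⦋n⦌))
    (hx : ∀ j hj, x j = SSet.yonedaEquiv (f j hj)) : Compat (fun j => j ≠ i) x := by
  obtain _ | m := n
  · trivial
  intro j k h hj hk
  rw [hx j hj, hx k hk]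
  exact (yoneda_δ _ _).trans ((congrArg SSet.yonedaEquiv (hf j k hj hk h)).trans (yoneda_δ _ _).symm)

/-- A simplicial abelian group as a simplicial group. -/
def mult : SimplicialObject AddCommGrpCat.{u} ⥤ SimplicialObject GrpCat.{u} :=
  (SimplicialObject.whiskering _ _).obj (forget₂ AddCommGrpCat.{u} AddGrpCat.{u} ⋙ AddGrpCat.toGrp)

/-- The underlying element. -/
def tA {X : SimplicialObject AddCommGrpCat.{u}} {n : ℕ} (x : (mult.obj X).obj (op ⦋n⦌)) : X.obj (op ⦋n⦌) :=
  Multiplicative.toAdd x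

/-- The kernel predicate of a map of simplicial abelian groups. -/
def kerPred {X Y : SimplicialObject AddCommGrpCat.{u}} (f : X ⟶ Y) (n : ℕ) (x : (mult.obj X).obj (op ⦋n⦌)) : Prop :=
  f.app (op ⦋n⦌) (tA x) = 0

lemma kerPred_isSub {X Y : SimplicialObject AddCommGrpCat.{u}} (f : X ⟶ Y) :
    IsSub (mult.obj X) (kerPred f) where
  one n := map_zero _
  mul n x y hx hy := by
    change f.app (op ⦋n⦌) (tA x + tA y) = 0
    rw [map_add, hx, hy, add_zero]
  inv n x hx := by
    change f.app (op ⦋n⦌) (-tA x) = 0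
    rw [map_neg, hx, neg_zero]
  δ n i x hx := by
    change f.app (op ⦋n⦌) (X.δ i (tA x)) = 0
    exact (NatTrans.naturality_apply f _ _).trans ((congrArg (Y.δ i) hx).trans (map_zero _))
  σ n i x hx := by
    change f.app (op ⦋n + 1⦌) (X.σ i (tA x)) = 0
    exact (NatTrans.naturality_apply f _ _).trans ((congrArg (Y.σ i) hx).trans (map_zero _))

/-- Horn filling in the kernel, in additive terms. -/
theorem exists_filler_ker {X Y : SimplicialObject AddCommGrpCat.{u}} (f : X ⟶ Y) {n : ℕ} (i : Fin (n + 2))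
    (x : Fin (n + 2) → X.obj (op ⦋n⦌)) (h0 : ∀ j, j ≠ i → f.app (op ⦋n⦌) (x j) = 0)
    (hx : Compat (X := mult.obj X) (fun j => j ≠ i) (fun j => Multiplicative.ofAdd (x j))) :
    ∃ w, f.app (op ⦋n + 1⦌) w = 0 ∧ ∀ j, j ≠ i → X.δ j w = x j := by
  obtain ⟨w, hw, h⟩ := exists_filler (kerPred_isSub f) i (fun j => Multiplicative.ofAdd (x j)) h0 hx
  exact ⟨Multiplicative.toAdd w, hw, fun j hj => congrArg Multiplicative.toAdd (h j hj)⟩

/-- Subtracting the faces of a simplex preserves compatibility. -/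
lemma compat_sub (X : SimplicialObject AddCommGrpCat.{u}) {n : ℕ} (A : Fin (n + 2) → Prop)
    (x : Fin (n + 2) → X.obj (op ⦋n⦌)) (a : X.obj (op ⦋n + 1⦌))
    (hx : Compat (X := mult.obj X) A (fun j => Multiplicative.ofAdd (x j))) :
    Compat (X := mult.obj X) A (fun j => Multiplicative.ofAdd (x j - X.δ j a)) := by
  obtain _ | m := n
  · trivial
  intro j k h hj hk
  change Multiplicative.ofAdd (X.δ _ (x j - X.δ j a)) = Multiplicative.ofAdd (X.δ _ (x k - X.δ k a))
  have e₁ : X.δ (k.pred (Fin.ne_zero_of_lt h)) (x j) = X.δ (j.castPred (Fin.ne_last_of_lt h)) (x k) :=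
    congrArg Multiplicative.toAdd (hx j k h hj hk)
  have e₂ : X.δ (j.castPred (Fin.ne_last_of_lt h)) (X.δ k a) = X.δ (k.pred (Fin.ne_zero_of_lt h)) (X.δ j a) :=
    congrArg Multiplicative.toAdd (δδ (X := mult.obj X) j k h (Multiplicative.ofAdd a))
  exact congrArg Multiplicative.ofAdd ((map_sub (X.δ _).hom _ _).trans ((congrArg₂ (· - ·) e₁ e₂.symm).trans (map_sub (X.δ _).hom _ _).symm))

end Groth.CatFib.Moore
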