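import Groth.Prelude.Def_W4stkcategoriessitesFib

/-!
# The functor between 2-fibre products induced by a morphism of cospans
-/

set_option autoImplicit false
set_option backward.isDefEq.respectTransparency false
set_option backward.isDefEq.respectTransparency.types false

open CategoryTheory CategoryTheory.Limits

universe v₆ u₆ v₅ u₅ v₄ u₄ v₃ u₃ v₂ u₂ v u

namespace Groth.CatFib

variable {X : Type u} {Y : Type u₂} {Z : Type u₃} {A : Type u₄} {B : Type u₅} {C : Type u₆}
  [Category.{v} X] [Category.{v₂} Y] [Category.{v₃} Z] [Category.{v₄} A] [Category.{v₅} B] [Category.{v₆} C]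
  {H : X ⥤ Z} {I : Y ⥤ Z} {F : A ⥤ C} {G : B ⥤ C} (ψ : CatCospanTransform H I F G)

lemma pbMap_iso (x : CategoricalPullback H I) :
    ((FibCat.categoricalPullbackMap ψ).obj x).iso.hom =
      (ψ.squareLeft.iso).inv.app x.fst ≫ ψ.base.map x.iso.hom ≫
        (ψ.squareRight.iso).hom.app x.snd := by
  simp [FibCat.categoricalPullbackMap, CategoricalPullback.CatCommSqOver.transform,
    CategoricalPullback.toCatCommSqOver, CategoricalPullback.CatCommSqOver.toFunctorToCategoricalPullback]
  rfl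

lemma pbMap_faithful [ψ.left.Faithful] [ψ.right.Faithful] :
    (FibCat.categoricalPullbackMap ψ).Faithful :=
  ⟨fun {x y} f g h => CategoricalPullback.hom_ext
    (ψ.left.map_injective (congrArg (fun k => k.fst) h))
    (ψ.right.map_injective (congrArg (fun k => k.snd) h))⟩

lemma pbMap_full [ψ.left.Full] [ψ.right.Full] [ψ.base.Faithful] :
    (FibCat.categoricalPullbackMap ψ).Full := by
  refine ⟨fun {x y} φ => ?_⟩
  obtain ⟨a, ha⟩ := ψ.left.map_surjective (X := x.fst) (Y := y.fst) φ.fst
  obtain ⟨b, hb⟩ := ψ.right.map_surjective (X := x.snd) (Y := y.snd) φ.snd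
  refine ⟨⟨a, b, ?_⟩, CategoricalPullback.hom_ext ha hb⟩
  apply ψ.base.map_injective
  have w : F.map φ.fst ≫ ((FibCat.categoricalPullbackMap ψ).obj y).iso.hom =
      ((FibCat.categoricalPullbackMap ψ).obj x).iso.hom ≫ G.map φ.snd := φ.w
  rw [pbMap_iso, pbMap_iso] at w
  have w' : F.map (ψ.left.map a) ≫ (ψ.squareLeft.iso).inv.app y.fst ≫ ψ.base.map y.iso.hom ≫
        (ψ.squareRight.iso).hom.app y.snd =
      ((ψ.squareLeft.iso).inv.app x.fst ≫ ψ.base.map x.iso.hom ≫
        (ψ.squareRight.iso).hom.app x.snd) ≫ G.map (ψ.right.map b) := by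
    rw [ha, hb]; exact w
  have n1 := (ψ.squareLeft.iso).inv.naturality a
  have n2 := (ψ.squareRight.iso).hom.naturality b
  simp only [Functor.comp_map] at n1 n2
  rw [Functor.map_comp, Functor.map_comp, ← cancel_epi ((ψ.squareLeft.iso).inv.app x.fst),
    ← cancel_mono ((ψ.squareRight.iso).hom.app y.snd)]
  simp only [Category.assoc] at w' ⊢
  rw [← reassoc_of% n1, w']
  erw [← n2]

lemma pbMap_isEquivalence [ψ.left.IsEquivalence] [ψ.right.IsEquivalence] [ψ.base.Full] [ψ.base.Faithful] :
    (FibCat.categoricalPullbackMap ψ).IsEquivalence := by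
  have := pbMap_faithful ψ
  have := pbMap_full ψ
  have : (FibCat.categoricalPullbackMap ψ).EssSurj := by
    refine ⟨fun t => ?_⟩
    let a := ψ.left.objPreimage t.fst
    let b := ψ.right.objPreimage t.snd
    let ia : ψ.left.obj a ≅ t.fst := ψ.left.objObjPreimageIso t.fst
    let ib : ψ.right.obj b ≅ t.snd := ψ.right.objObjPreimageIso t.snd
    let j : ψ.base.obj (H.obj a) ≅ ψ.base.obj (I.obj b) :=
      (ψ.squareLeft.iso).app a ≪≫ F.mapIso ia ≪≫ t.iso ≪≫ (G.mapIso ib).symm ≪≫
        ((ψ.squareRight.iso).app b).symm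
    refine ⟨⟨a, b, ψ.base.preimageIso j⟩, ⟨CategoricalPullback.mkIso ia ib ?_⟩⟩
    rw [pbMap_iso]
    simp [j]
  exact { }

end Groth.CatFib
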