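import Groth.Agent.StkBase.Yoneda
import Mathlib.CategoryTheory.Limits.Shapes.BinaryProducts
import Mathlib.CategoryTheory.Limits.Shapes.Pullback.HasPullback

/-!
# Representable categories and representable 1-morphisms over a base
-/

set_option autoImplicit false
set_option backward.isDefEq.respectTransparency false
set_option backward.isDefEq.respectTransparency.types false

open CategoryTheory CategoryTheory.Limits Groth.StkBase

universe v₇ u₇ v₆ u₆ v₅ u₅ v₄ u₄ v₃ u₃ v₂ u₂ v u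

namespace Groth.CatFib

variable {C : Type u} [Category.{v} C]

section Congr

variable {𝒳 : BasedCategory.{v₂, u₂} C} {𝒴 : BasedCategory.{v₃, u₃} C}

lemma isRepresentable_of_equiv_to {e : 𝒳 ⥤ᵇ 𝒴} (he : FibCat.IsEquivOver e)
    (h : FibCat.IsRepresentable 𝒴) : FibCat.IsRepresentable 𝒳 := by
  obtain ⟨U, F, hF⟩ := h
  exact ⟨U, _, isEquivOver_comp he hF⟩

lemma isRepresentable_of_equiv_from {e : 𝒳 ⥤ᵇ 𝒴} (he : FibCat.IsEquivOver e)
    (h : FibCat.IsRepresentable 𝒳) : FibCat.IsRepresentable 𝒴 := by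
  obtain ⟨e', he', -⟩ := isEquivOver_symm he
  exact isRepresentable_of_equiv_to he' h

lemma isRepresentable_iff_of_equiv {e : 𝒳 ⥤ᵇ 𝒴} (he : FibCat.IsEquivOver e) :
    FibCat.IsRepresentable 𝒳 ↔ FibCat.IsRepresentable 𝒴 :=
  ⟨isRepresentable_of_equiv_from he, isRepresentable_of_equiv_to he⟩

/-- Every functor over `C` to `C` itself has at most one value up to a canonical isomorphism. -/
def selfIso (a b : 𝒳 ⥤ᵇ FibCat.selfOver C) : a ≅ b :=
  isoMk (fun x => eqToIso ((a.w_obj x).trans (b.w_obj x).symm))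
    (fun {x y} φ => by
      have ha := map_map a φ
      have hb := map_map b φ
      change a.map φ = _ at ha
      change b.map φ = _ at hb
      simp only [eqToIso.hom]
      rw [ha, hb]
      simp)
    (fun x => ⟨(a.w_obj x).trans (b.w_obj x).symm, rfl⟩)

/-- The pair `(a, b)` as a functor into the product over `C`. -/
abbrev pairSelf {𝒲 : BasedCategory.{v₄, u₄} C} (a : 𝒲 ⥤ᵇ 𝒳) (b : 𝒲 ⥤ᵇ 𝒴) :
    𝒲 ⥤ᵇ FibCat.fp (FibCat.toSelf 𝒳) (FibCat.toSelf 𝒴) :=
  FibCat.fpLift a b (selfIso _ _)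

lemma self_hom_ext {a b : (FibCat.selfOver C).obj} {φ ψ : a ⟶ b}
    (hφ : IsVert (FibCat.selfOver C).p φ) (hψ : IsVert (FibCat.selfOver C).p ψ) : φ = ψ :=
  hφ.map_eq.trans hψ.map_eq.symm

end Congr

section Rep1

variable {𝒳 : BasedCategory.{v₂, u₂} C} {𝒴 : BasedCategory.{v₃, u₃} C} {𝒵 : BasedCategory.{v₄, u₄} C}

/-- A base change along a representable source. -/
lemma isRepresentable_fp {f : 𝒳 ⥤ᵇ 𝒴} (hf : FibCat.IsRepresentable1 f) (G : 𝒵 ⥤ᵇ 𝒴)
    (hZ : FibCat.IsRepresentable 𝒵) : FibCat.IsRepresentable (FibCat.fp G f) := by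
  obtain ⟨W, E, hE⟩ := hZ
  obtain ⟨E', hE', -, -⟩ := isEquivOver_symm hE
  exact isRepresentable_of_equiv_from (isEquivOver_fpPre hE' (isEquivOver_id 𝒳) G f)
    (hf W (BasedFunctor.comp E' G))

lemma isRepresentable1_fpFst {f : 𝒳 ⥤ᵇ 𝒴} (hf : FibCat.IsRepresentable1 f) (g : 𝒵 ⥤ᵇ 𝒴) :
    FibCat.IsRepresentable1 (FibCat.fpFst g f) := fun U G =>
  isRepresentable_of_equiv_to (isEquivOver_fpPaste G g f) (hf U _)

lemma isRepresentable1_comp {f : 𝒳 ⥤ᵇ 𝒴} {g : 𝒴 ⥤ᵇ 𝒵} (hf : FibCat.IsRepresentable1 f)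
    (hg : FibCat.IsRepresentable1 g) : FibCat.IsRepresentable1 (BasedFunctor.comp f g) := by
  intro U G
  have h1 := isRepresentable_fp hf (FibCat.fpSnd G g) (hg U G)
  have h2 := isRepresentable_of_equiv_from (isEquivOver_fpSwap _ _) h1
  have h3 : FibCat.IsRepresentable (FibCat.fp f (FibCat.fpFst g G)) := by
    let s : FibCat.fp G g ⥤ᵇ FibCat.fp g G := fpSwap G g
    exact isRepresentable_of_equiv_from
      (isEquivOver_fpPre (isEquivOver_id 𝒳) (isEquivOver_fpSwap G g) f (FibCat.fpFst g G)) h2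
  exact isRepresentable_of_equiv_from (isEquivOver_fpSwap _ _)
    (isRepresentable_of_equiv_from (isEquivOver_fpPaste f g G) h3)

section Invariance

variable {𝒳' : BasedCategory.{v₅, u₅} C} {𝒴' : BasedCategory.{v₆, u₆} C}

lemma isRepresentable_fp_congr {f f' : 𝒳 ⥤ᵇ 𝒴} {G G' : 𝒵 ⥤ᵇ 𝒴} (α : G ≅ G') (β : f ≅ f') :
    FibCat.IsRepresentable (FibCat.fp G f) ↔ FibCat.IsRepresentable (FibCat.fp G' f') :=
  isRepresentable_iff_of_equiv (isEquivOver_fpCongr α β)

lemma isRepresentable1_iff_of_square (f : 𝒳 ⥤ᵇ 𝒴) (f' : 𝒳' ⥤ᵇ 𝒴') (a : 𝒳' ⥤ᵇ 𝒳) (b : 𝒴' ⥤ᵇ 𝒴)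
    (ha : FibCat.IsEquivOver a) (hb : FibCat.IsEquivOver b)
    (e : BasedFunctor.comp f' b ≅ BasedFunctor.comp a f) :
    FibCat.IsRepresentable1 f ↔ FibCat.IsRepresentable1 f' := by
  have := full_of_isEquivOver hb
  have := faithful_of_isEquivOver hb
  have key : ∀ (U : C) (G : FibCat.overCat U ⥤ᵇ 𝒴') (G' : FibCat.overCat U ⥤ᵇ 𝒴)
      (_ : BasedFunctor.comp G b ≅ G'),
      FibCat.IsRepresentable (FibCat.fp G f') ↔ FibCat.IsRepresentable (FibCat.fp G' f) := by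
    intro U G G' α
    rw [isRepresentable_iff_of_equiv (isEquivOver_fpPost G f' b), isRepresentable_fp_congr α e]
    exact isRepresentable_iff_of_equiv (isEquivOver_fpPre (isEquivOver_id _) ha G' f)
  constructor
  · intro h U G
    exact (key U G _ (Iso.refl _)).2 (h U _)
  · intro h U G'
    obtain ⟨b', -, -, ⟨ε⟩⟩ := isEquivOver_symm hb
    exact (key U (BasedFunctor.comp G' b') G' (whiskerLeftIso G' ε)).1 (h U _)

end Invariance

end Rep1

section Magic

variable {𝒳 : BasedCategory.{v₂, u₂} C} {𝒴 : BasedCategory.{v₃, u₃} C} {𝒵 : BasedCategory.{v₄, u₄} C}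
  {𝒲 : BasedCategory.{v₅, u₅} C}
  (G : 𝒲 ⥤ᵇ 𝒴) (f : 𝒳 ⥤ᵇ 𝒴) (g : 𝒴 ⥤ᵇ 𝒵) {a : 𝒲 ⥤ᵇ 𝒵} {b : 𝒳 ⥤ᵇ 𝒵}
  (α : BasedFunctor.comp G g ≅ a) (β : BasedFunctor.comp f g ≅ b)

/-- `W ×_Z X ⟶ Y ×_Z Y`. -/
def magicPair : FibCat.fp a b ⥤ᵇ FibCat.fp g g :=
  FibCat.fpLift (BasedFunctor.comp (FibCat.fpFst a b) G) (BasedFunctor.comp (FibCat.fpSnd a b) f)
    ((whiskerLeftIso (FibCat.fpFst a b) α).trans
      ((FibCat.fpIso a b).trans (whiskerLeftIso (FibCat.fpSnd a b) β).symm))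

/-- `W ×_Y X ⟶ W ×_Z X`. -/
def magicTop : FibCat.fp G f ⥤ᵇ FibCat.fp a b :=
  FibCat.fpLift (FibCat.fpFst G f) (FibCat.fpSnd G f)
    ((whiskerLeftIso (FibCat.fpFst G f) α).symm.trans
      ((whiskerRightIso (FibCat.fpIso G f) g).trans (whiskerLeftIso (FibCat.fpSnd G f) β)))

/-- The magic square: `W ×_Y X ≅ (W ×_Z X) ×_{Y ×_Z Y} Y`. -/
def magic : FibCat.fp G f ⥤ᵇ FibCat.fp (magicPair G f g α β) (FibCat.diag g) :=
  FibCat.fpLift (magicTop G f g α β) (BasedFunctor.comp (FibCat.fpSnd G f) f)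
    (fpIsoMk (FibCat.fpIso G f) (Iso.refl _) fun x => by
      simp [magicTop, magicPair, FibCat.diag])

lemma magicPair_iso (x : (FibCat.fp a b).obj) :
    ((magicPair G f g α β).obj x).obj.iso.hom =
      (isoApp α x.obj.fst).hom ≫ x.obj.iso.hom ≫ (isoApp β x.obj.snd).inv := by
  simp [magicPair]

lemma isEquivOver_magic : FibCat.IsEquivOver (magic G f g α β) := by
  refine Groth.StkBase.isEquivOver_of_fullyFaithful _ ⟨fun {x y} φ => ?_⟩ ⟨fun {x y} φ ψ h => ?_⟩ (fun y => ?_)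
  · let t := φ.hom.fst
    have hw1 : G.map t.hom.fst ≫ y.obj.iso.hom = x.obj.iso.hom ≫ φ.hom.snd :=
      congrArg (fun k => k.hom.fst) φ.hom.w
    have hw2' : f.map t.hom.snd ≫ 𝟙 (f.obj y.obj.snd) = 𝟙 (f.obj x.obj.snd) ≫ φ.hom.snd :=
      congrArg (fun k => k.hom.snd) φ.hom.w
    have hw2 : f.map t.hom.snd = φ.hom.snd :=
      (Category.comp_id _).symm.trans (hw2'.trans (Category.id_comp _))
    refine ⟨fpHom t.hom.fst t.hom.snd (by rw [hw1, hw2]), ?_⟩
    exact fp_hom_ext (fp_hom_ext rfl rfl) hw2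
  · exact fp_hom_ext (congrArg (fun k => k.hom.fst.hom.fst) h) (congrArg (fun k => k.hom.fst.hom.snd) h)
  · let P := y.obj.fst
    let j : ((magicPair G f g α β).obj P) ≅ (FibCat.diag g).obj y.obj.snd := y.obj.iso
    have hj : IsVert (FibCat.fp g g).p j.hom := fp_isVert y
    let j1 : G.obj P.obj.fst ≅ y.obj.snd := (FibCat.fpFst g g).toFunctor.mapIso j
    let j2 : f.obj P.obj.snd ≅ y.obj.snd := (FibCat.fpSnd g g).toFunctor.mapIso j
    have hj1 : IsVert 𝒴.p j1.hom := isVert_map (F := FibCat.fpFst g g) hj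
    have hj2 : IsVert 𝒴.p j2.hom := isVert_map (F := FibCat.fpSnd g g) hj
    have hw : g.map j1.hom = (isoApp α P.obj.fst).hom ≫ P.obj.iso.hom ≫ (isoApp β P.obj.snd).inv ≫
        g.map j2.hom := by
      have := j.hom.hom.w
      change g.map j1.hom ≫ 𝟙 _ = ((magicPair G f g α β).obj P).obj.iso.hom ≫ g.map j2.hom at this
      rw [magicPair_iso, Category.comp_id] at this
      simpa using this
    let z : (FibCat.fp G f).obj := fpMk P.obj.fst P.obj.snd (j1 ≪≫ j2.symm)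
      (hj1.comp (IsVert.inv hj2))
    let top : (magicTop G f g α β).obj z ≅ P := fpObjIso (Iso.refl _) (Iso.refl _) (by
      simp [magicTop, z, fpMk, hw, ← g.toFunctor.map_comp])
    refine ⟨z, fpObjIso top j2 ?_, isVert_id P.obj.fst⟩
    apply fp_hom_ext
    · change G.map (𝟙 _) ≫ j1.hom = (j1.hom ≫ j2.inv) ≫ j2.hom
      simp
    · change f.map (𝟙 _) ≫ j2.hom = 𝟙 _ ≫ j2.hom
      simp

end Magic

section OverCat

lemma overCat_hom_eq {U : C} {g g' : (FibCat.overCat U).obj} (φ : g ⟶ g') (h : IsVert (FibCat.overCat U).p φ) :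
    g.hom = eqToHom h.obj_eq ≫ g'.hom := by
  rw [← Over.w φ]
  congr 1
  exact h.map_eq

/-- A functor over `C` between slices is given by composition with a morphism. -/
theorem exists_iso_overPostMap {U V : C} (K : FibCat.overCat U ⥤ᵇ FibCat.overCat V) :
    ∃ h : U ⟶ V, Nonempty (overPostMap h ≅ K) ∧ (K.obj (idObj U)).hom = eqToHom (K.w_obj (idObj U)) ≫ h := by
  refine ⟨eqToHom (K.w_obj (idObj U)).symm ≫ (K.obj (idObj U)).hom, ?_, by simp⟩
  refine (nonempty_overIso_iff (isFibGrpd_overCat V) _ K).2 ?_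
  refine ⟨Over.homMk (eqToHom (K.w_obj (idObj U)).symm) (Category.id_comp _).symm, ?_⟩
  exact ⟨(K.w_obj (idObj U)).symm, rfl⟩

theorem isRepresentable1_overPostMap [HasPullbacks C] {X Y : C} (f : X ⟶ Y) :
    FibCat.IsRepresentable1 (overPostMap f) := by
  intro U G
  obtain ⟨h, ⟨α⟩, -⟩ := exists_iso_overPostMap G
  refine (isRepresentable_fp_congr α (Iso.refl _)).1 ?_
  let e : BasedFunctor.comp (overPostMap (pullback.fst h f)) (overPostMap h) ≅
      BasedFunctor.comp (overPostMap (pullback.snd h f)) (overPostMap f) :=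
    isoMk (fun g => Over.isoMk (Iso.refl _) (by
        change 𝟙 _ ≫ ((g.hom ≫ pullback.snd h f) ≫ f) = (g.hom ≫ pullback.fst h f) ≫ h
        simp [pullback.condition]))
      (fun {g g'} φ => Over.OverMorphism.ext (by
        change φ.left ≫ 𝟙 _ = 𝟙 _ ≫ φ.left
        simp))
      (fun g => ⟨rfl, rfl⟩)
  have hE : FibCat.IsEquivOver (FibCat.fpLift _ _ e) := by
    refine Groth.StkBase.isEquivOver_of_fullyFaithful _ ⟨fun {g g'} φ => ?_⟩ ⟨fun {g g'} φ ψ hh => ?_⟩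
      (fun y => ?_)
    · have hv : φ.hom.fst.left = φ.hom.snd.left := by
        have h1 : φ.hom.fst.left ≫ 𝟙 _ = 𝟙 _ ≫ φ.hom.snd.left :=
          congrArg CommaMorphism.left φ.hom.w
        exact (Category.comp_id _).symm.trans (h1.trans (Category.id_comp _))
      refine ⟨Over.homMk φ.hom.fst.left ?_, fp_hom_ext (Over.OverMorphism.ext rfl) (Over.OverMorphism.ext hv)⟩
      apply pullback.hom_ext
      · have := Over.w φ.hom.fst
        simpa [overPostMap] using this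
      · have := Over.w φ.hom.snd
        rw [← hv] at this
        simpa [overPostMap] using this
    · exact Over.OverMorphism.ext (congrArg (fun k => k.hom.fst.left) hh)
    · have hl : y.obj.fst.left = y.obj.snd.left := (fp_isVert y).obj_eq
      have hh := overCat_hom_eq y.obj.iso.hom (fp_isVert y)
      change y.obj.fst.hom ≫ h = eqToHom hl ≫ y.obj.snd.hom ≫ f at hh
      let m : y.obj.fst.left ⟶ pullback h f :=
        pullback.lift y.obj.fst.hom (eqToHom hl ≫ y.obj.snd.hom) (by rw [hh, Category.assoc])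
      refine ⟨Over.mk m, fpObjIso (Over.isoMk (Iso.refl _) (by simp [m, overPostMap]))
        (Over.isoMk (eqToIso hl) (by simp [m, overPostMap])) ?_, ⟨rfl, rfl⟩⟩
      apply Over.OverMorphism.ext
      change 𝟙 _ ≫ y.obj.iso.hom.left = 𝟙 _ ≫ eqToHom hl
      simp only [Category.id_comp]
      exact (fp_isVert y).map_eq
  exact isRepresentable_of_equiv_from hE ⟨_, _, isEquivOver_id _⟩

end OverCat

end Groth.CatFib
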