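import Groth.Agent.CategoryFibred.Representable

/-!
# Representable diagonals
-/

set_option autoImplicit false
set_option backward.isDefEq.respectTransparency false
set_option backward.isDefEq.respectTransparency.types false

open CategoryTheory CategoryTheory.Limits Groth.StkBase

universe v₆ u₆ v₅ u₅ v₄ u₄ v₃ u₃ v₂ u₂ v u

namespace Groth.CatFib

variable {C : Type u} [Category.{v} C]

/-- `C/(U × V) ⟶ C/U ×_C C/V`. -/
noncomputable def slicePair [HasBinaryProducts C] (U V : C) :
    FibCat.overCat (U ⨯ V) ⥤ᵇ FibCat.fp (FibCat.toSelf (FibCat.overCat U)) (FibCat.toSelf (FibCat.overCat V)) :=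
  pairSelf (overPostMap prod.fst) (overPostMap prod.snd)

lemma isEquivOver_slicePair [HasBinaryProducts C] (U V : C) : FibCat.IsEquivOver (slicePair U V) := by
  refine Groth.StkBase.isEquivOver_of_fullyFaithful _ ⟨fun {g g'} φ => ?_⟩ ⟨fun {g g'} φ ψ hh => ?_⟩
    (fun y => ?_)
  · have hv : φ.hom.fst.left = φ.hom.snd.left := by
      have h1 : φ.hom.fst.left ≫ 𝟙 _ = 𝟙 _ ≫ φ.hom.snd.left := φ.hom.w
      exact (Category.comp_id _).symm.trans (h1.trans (Category.id_comp _))
    refine ⟨Over.homMk φ.hom.fst.left ?_, fp_hom_ext (Over.OverMorphism.ext rfl) (Over.OverMorphism.ext hv)⟩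
    apply prod.hom_ext
    · have := Over.w φ.hom.fst
      simpa [slicePair, overPostMap] using this
    · have := Over.w φ.hom.snd
      rw [← hv] at this
      simpa [slicePair, overPostMap] using this
  · exact Over.OverMorphism.ext (congrArg (fun k => k.hom.fst.left) hh)
  · have hl : y.obj.fst.left = y.obj.snd.left := (fp_isVert y).obj_eq
    let m : y.obj.fst.left ⟶ U ⨯ V := prod.lift y.obj.fst.hom (eqToHom hl ≫ y.obj.snd.hom)
    refine ⟨Over.mk m, fpObjIso (Over.isoMk (Iso.refl _) (by simp [m, slicePair, overPostMap]))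
      (Over.isoMk (eqToIso hl) (by simp [m, slicePair, overPostMap])) ?_, ⟨rfl, rfl⟩⟩
    change 𝟙 _ ≫ y.obj.iso.hom = 𝟙 _ ≫ eqToHom hl
    simp only [Category.id_comp]
    exact (fp_isVert y).map_eq

lemma isRepresentable_prod [HasBinaryProducts C] (U V : C) :
    FibCat.IsRepresentable (FibCat.fp (FibCat.toSelf (FibCat.overCat U)) (FibCat.toSelf (FibCat.overCat V))) :=
  isRepresentable_of_equiv_from (isEquivOver_slicePair U V) ⟨_, _, isEquivOver_id _⟩

lemma isRepresentable1_diag_overCat [HasBinaryProducts C] [HasPullbacks C] (U : C) :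
    FibCat.IsRepresentable1 (FibCat.diag (FibCat.toSelf (FibCat.overCat U))) := by
  let d : FibCat.overCat U ⥤ᵇ FibCat.overCat (U ⨯ U) := overPostMap (diag U)
  let e : BasedFunctor.comp d (slicePair U U) ≅
      BasedFunctor.comp (BasedFunctor.id _) (FibCat.diag (FibCat.toSelf (FibCat.overCat U))) :=
    fpIsoMk
      (isoMk (fun g => Over.isoMk (Iso.refl _) (by
          change 𝟙 _ ≫ g.hom = (g.hom ≫ prod.lift (𝟙 U) (𝟙 U)) ≫ prod.fst
          simp))
        (fun {g g'} φ => Over.OverMorphism.ext (by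
          change φ.left ≫ 𝟙 _ = 𝟙 _ ≫ φ.left
          simp))
        (fun g => ⟨rfl, rfl⟩))
      (isoMk (fun g => Over.isoMk (Iso.refl _) (by
          change 𝟙 _ ≫ g.hom = (g.hom ≫ prod.lift (𝟙 U) (𝟙 U)) ≫ prod.snd
          simp))
        (fun {g g'} φ => Over.OverMorphism.ext (by
          change φ.left ≫ 𝟙 _ = 𝟙 _ ≫ φ.left
          simp))
        (fun g => ⟨rfl, rfl⟩))
      (fun g => self_hom_ext ((isVert_map (isVert_isoApp _ g)).comp (fp_isVert _))
        ((fp_isVert _).comp (isVert_map (isVert_isoApp _ g))))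
  exact (isRepresentable1_iff_of_square _ d (BasedFunctor.id _) (slicePair U U) (isEquivOver_id _)
    (isEquivOver_slicePair U U) e).2 (isRepresentable1_overPostMap _)

variable {𝒮 : BasedCategory.{v₂, u₂} C}

/-- Forward direction: a representable diagonal makes every functor out of a slice representable. -/
lemma isRepresentable1_of_diag [HasBinaryProducts C]
    (hΔ : FibCat.IsRepresentable1 (FibCat.diag (FibCat.toSelf 𝒮))) (U : C)
    (G : FibCat.overCat U ⥤ᵇ 𝒮) : FibCat.IsRepresentable1 G := fun V K =>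
  isRepresentable_of_equiv_to
    (isEquivOver_magic K G (FibCat.toSelf 𝒮) (selfIso _ (FibCat.toSelf (FibCat.overCat V)))
      (selfIso _ (FibCat.toSelf (FibCat.overCat U))))
    (isRepresentable_fp hΔ _ (isRepresentable_prod V U))

/-- Converse: representable functors out of slices give a representable diagonal. -/
lemma isRepresentable1_diag_of [HasBinaryProducts C] [HasPullbacks C]
    (h : ∀ (U : C) (G : FibCat.overCat U ⥤ᵇ 𝒮), FibCat.IsRepresentable1 G) :
    FibCat.IsRepresentable1 (FibCat.diag (FibCat.toSelf 𝒮)) := by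
  intro U H
  let h₁ := BasedFunctor.comp H (FibCat.fpFst (FibCat.toSelf 𝒮) (FibCat.toSelf 𝒮))
  let h₂ := BasedFunctor.comp H (FibCat.fpSnd (FibCat.toSelf 𝒮) (FibCat.toSelf 𝒮))
  let K := magicPair h₁ h₂ (FibCat.toSelf 𝒮) (selfIso _ (FibCat.toSelf (FibCat.overCat U)))
    (selfIso _ (FibCat.toSelf (FibCat.overCat U)))
  have hA : FibCat.IsRepresentable (FibCat.fp K (FibCat.diag (FibCat.toSelf 𝒮))) :=
    isRepresentable_of_equiv_from (isEquivOver_magic h₁ h₂ (FibCat.toSelf 𝒮) _ _) (h U h₂ U h₁)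
  let ε : BasedFunctor.comp (FibCat.diag (FibCat.toSelf (FibCat.overCat U))) K ≅ H :=
    fpIsoMk (Iso.refl _) (Iso.refl _) fun x =>
      self_hom_ext ((isVert_map (isVert_id _)).comp (fp_isVert _))
        ((fp_isVert _).comp (isVert_map (isVert_id _)))
  refine (isRepresentable_fp_congr ε (Iso.refl _)).1 ?_
  refine isRepresentable_of_equiv_from (isEquivOver_fpPaste _ K _) ?_
  refine isRepresentable_of_equiv_from (isEquivOver_fpSwap _ _) ?_
  exact isRepresentable_fp (isRepresentable1_diag_overCat U) (FibCat.fpFst K (FibCat.diag (FibCat.toSelf 𝒮))) hA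

section CompCancel

variable {𝒳 : BasedCategory.{v₃, u₃} C} {𝒴 : BasedCategory.{v₄, u₄} C} {𝒵 : BasedCategory.{v₅, u₅} C}

lemma isRepresentable1_of_comp_of_diag (f : 𝒳 ⥤ᵇ 𝒴) (g : 𝒴 ⥤ᵇ 𝒵)
    (hgf : FibCat.IsRepresentable1 (BasedFunctor.comp f g))
    (hΔ : FibCat.IsRepresentable1 (FibCat.diag g)) : FibCat.IsRepresentable1 f := fun U G =>
  isRepresentable_of_equiv_to (isEquivOver_magic G f g (Iso.refl _) (Iso.refl _))
    (isRepresentable_fp hΔ _ (hgf U _))

end CompCancel

end Groth.CatFib
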