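import Groth.Agent.CategoryFibred.RepresentableDiag

/-!
# Products of representable 1-morphisms
-/

set_option autoImplicit false
set_option backward.isDefEq.respectTransparency false
set_option backward.isDefEq.respectTransparency.types false

open CategoryTheory CategoryTheory.Limits Groth.StkBase

universe v₆ u₆ v₅ u₅ v₄ u₄ v₃ u₃ v₂ u₂ v u

namespace Groth.CatFib

variable {C : Type u} [Category.{v} C]
  {𝒳₁ : BasedCategory.{v₂, u₂} C} {𝒳₂ : BasedCategory.{v₃, u₃} C}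
  {𝒴₁ : BasedCategory.{v₄, u₄} C} {𝒴₂ : BasedCategory.{v₅, u₅} C} {𝒲 : BasedCategory.{v₆, u₆} C}
  (f₁ : 𝒳₁ ⥤ᵇ 𝒴₁) (f₂ : 𝒳₂ ⥤ᵇ 𝒴₂)
  (e : BasedFunctor.comp (BasedFunctor.comp (FibCat.fpFst (FibCat.toSelf 𝒳₁) (FibCat.toSelf 𝒳₂)) f₁) (FibCat.toSelf 𝒴₁) ≅
    BasedFunctor.comp (BasedFunctor.comp (FibCat.fpSnd (FibCat.toSelf 𝒳₁) (FibCat.toSelf 𝒳₂)) f₂) (FibCat.toSelf 𝒴₂))

/-- `f₁ × f₂`. -/
abbrev prodMapSelf : FibCat.fp (FibCat.toSelf 𝒳₁) (FibCat.toSelf 𝒳₂) ⥤ᵇ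
    FibCat.fp (FibCat.toSelf 𝒴₁) (FibCat.toSelf 𝒴₂) :=
  FibCat.fpLift (BasedFunctor.comp (FibCat.fpFst (FibCat.toSelf 𝒳₁) (FibCat.toSelf 𝒳₂)) f₁)
    (BasedFunctor.comp (FibCat.fpSnd (FibCat.toSelf 𝒳₁) (FibCat.toSelf 𝒳₂)) f₂) e

variable (H : 𝒲 ⥤ᵇ FibCat.fp (FibCat.toSelf 𝒴₁) (FibCat.toSelf 𝒴₂))

/-- `W ×_{Y₁} X₁`. -/
abbrev prodStep : BasedCategory C := FibCat.fp (BasedFunctor.comp H (FibCat.fpFst _ _)) f₁

/-- `W ×_{Y₁} X₁ ⟶ Y₂`. -/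
abbrev prodStepMap : prodStep f₁ H ⥤ᵇ 𝒴₂ :=
  BasedFunctor.comp (FibCat.fpFst (BasedFunctor.comp H (FibCat.fpFst _ _)) f₁)
    (BasedFunctor.comp H (FibCat.fpSnd _ _))

/-- `(W ×_{Y₁} X₁) ×_{Y₂} X₂ ⟶ W ×_{Y₁ × Y₂} (X₁ × X₂)`. -/
def prodPaste : FibCat.fp (prodStepMap f₁ H) f₂ ⥤ᵇ FibCat.fp H (prodMapSelf f₁ f₂ e) :=
  FibCat.fpLift (BasedFunctor.comp (FibCat.fpFst (prodStepMap f₁ H) f₂) (FibCat.fpFst _ _))
    (pairSelf (BasedFunctor.comp (FibCat.fpFst (prodStepMap f₁ H) f₂) (FibCat.fpSnd _ _))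
      (FibCat.fpSnd (prodStepMap f₁ H) f₂))
    (fpIsoMk (whiskerLeftIso (FibCat.fpFst (prodStepMap f₁ H) f₂) (FibCat.fpIso _ _))
      (FibCat.fpIso (prodStepMap f₁ H) f₂)
      fun x => self_hom_ext ((isVert_map (isVert_isoApp _ x)).comp (fp_isVert _))
        ((fp_isVert _).comp (isVert_map (isVert_isoApp _ x))))

lemma isEquivOver_prodPaste : FibCat.IsEquivOver (prodPaste f₁ f₂ e H) := by
  refine Groth.StkBase.isEquivOver_of_fullyFaithful _ ⟨fun {x y} φ => ?_⟩ ⟨fun {x y} φ ψ h => ?_⟩ (fun y => ?_)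
  · have w1 := congrArg (fun k => k.hom.fst) φ.hom.w
    have w2 := congrArg (fun k => k.hom.snd) φ.hom.w
    refine ⟨fpHom (fpHom φ.hom.fst φ.hom.snd.hom.fst w1) φ.hom.snd.hom.snd w2, fp_hom_ext rfl (fp_hom_ext rfl rfl)⟩
  · exact fp_hom_ext (fp_hom_ext (congrArg (fun k => k.hom.fst) h) (congrArg (fun k => k.hom.snd.hom.fst) h))
      (congrArg (fun k => k.hom.snd.hom.snd) h)
  · let j : H.obj y.obj.fst ≅ (prodMapSelf f₁ f₂ e).obj y.obj.snd := y.obj.iso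
    let j1 := (FibCat.fpFst _ _).toFunctor.mapIso j
    let j2 := (FibCat.fpSnd _ _).toFunctor.mapIso j
    have hj1 : IsVert 𝒴₁.p j1.hom := isVert_map (F := FibCat.fpFst _ _) (fp_isVert y)
    have hj2 : IsVert 𝒴₂.p j2.hom := isVert_map (F := FibCat.fpSnd _ _) (fp_isVert y)
    let a : (prodStep f₁ H).obj :=
      Groth.StkBase.fpMk (F := BasedFunctor.comp H (FibCat.fpFst _ _)) (G := f₁) y.obj.fst y.obj.snd.obj.fst j1 hj1
    let z : (FibCat.fp (prodStepMap f₁ H) f₂).obj :=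
      Groth.StkBase.fpMk (F := prodStepMap f₁ H) (G := f₂) a y.obj.snd.obj.snd j2 hj2
    refine ⟨z, fpObjIso (Iso.refl _) (fpObjIso (Iso.refl _) (Iso.refl _) ?_) ?_, isVert_id y.obj.fst⟩
    · exact self_hom_ext ((isVert_map (isVert_id _)).comp (fp_isVert _))
        ((fp_isVert _).comp (isVert_map (isVert_id _)))
    · apply fp_hom_ext
      · change (H.map (𝟙 _)).hom.fst ≫ j1.hom = j1.hom ≫ f₁.map (𝟙 _)
        simp
      · change (H.map (𝟙 _)).hom.snd ≫ j2.hom = j2.hom ≫ f₂.map (𝟙 _)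
        simp

lemma isRepresentable1_prodMap (h₁ : FibCat.IsRepresentable1 f₁) (h₂ : FibCat.IsRepresentable1 f₂) :
    FibCat.IsRepresentable1 (prodMapSelf f₁ f₂ e) := fun U H =>
  isRepresentable_of_equiv_from (isEquivOver_prodPaste f₁ f₂ e H)
    (isRepresentable_fp h₂ _ (h₁ U _))

end Groth.CatFib
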