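import Mathlib.AlgebraicTopology.DoldKan.Normalized
import Mathlib.AlgebraicTopology.DoldKan.Degeneracies
import Mathlib.AlgebraicTopology.SimplicialObject.Basic
import Mathlib.CategoryTheory.Functor.KanExtension.Pointwise
import Mathlib.CategoryTheory.Limits.Shapes.FiniteLimits
import Mathlib.Data.Finite.Sigma
import Mathlib.Data.Fintype.Pi
import Groth.Agent.CategoryFibred.SubobjMem

/-!
Normalized parts of skeleta in abelian categories.
-/

set_option autoImplicit false

universe v u

open CategoryTheory Opposite CategoryTheory.Limits Simplicial AlgebraicTopology AlgebraicTopology.DoldKan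

namespace Groth.CatFib.SkAb

variable {A : Type u} [Category.{v} A] [Abelian A]

lemma not_mono_of_len_lt {m : ℕ} {i : SimplexCategory} (θ : ⦋m⦌ ⟶ i) (h : i.len < m) : ¬ Mono θ :=
  fun _ => absurd (SimplexCategory.len_le_of_mono θ) (by simpa using h)

/-- A simplex of the normalized part killed by `PInfty` is zero. -/
lemma eq_zero_of_normalized (U : SimplicialObject A) (m : ℕ) {T : A} {t : T ⟶ U.obj (op ⦋m⦌)}
    (h : (NormalizedMooreComplex.objX U m).Factors t) (h' : t ≫ PInfty.f m = 0) : t = 0 := by
  obtain ⟨x, rfl⟩ := Mem.arrow_comp h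
  have e := HomologicalComplex.congr_hom (inclusionOfMooreComplexMap_comp_PInfty U) m
  rw [HomologicalComplex.comp_f, inclusionOfMooreComplexMap_f] at e
  rw [Category.assoc] at h'
  exact (congrArg (x ≫ ·) e).symm.trans h'

lemma mem_objX_succ (U : SimplicialObject A) (m : ℕ) {T : A} (t : T ⟶ U.obj (op ⦋m + 1⦌))
    (h : ∀ k : Fin (m + 1), t ≫ U.δ k.succ = 0) : (NormalizedMooreComplex.objX U (m + 1)).Factors t := by
  simp only [NormalizedMooreComplex.objX_add_one, Subobject.finset_inf_factors]
  intro k _
  exact kernelSubobject_factors _ _ (h k)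

instance finite_truncated (k : ℕ) : Finite (SimplexCategory.Truncated k) :=
  Finite.of_injective (fun j => (⟨j.obj.len, Nat.lt_succ_of_le j.property⟩ : Fin (k + 1))) fun a b h =>
    ObjectProperty.FullSubcategory.ext (SimplexCategory.ext (congrArg Fin.val h))

instance finite_hom (a b : SimplexCategory) : Finite (a ⟶ b) :=
  Finite.of_injective (fun θ => (θ.toOrderHom : Fin (a.len + 1) → Fin (b.len + 1))) fun _ _ h =>
    SimplexCategory.Hom.ext _ _ (OrderHom.ext _ _ h)

instance hasPointwiseLeft {C : Type u} [Category.{v} C] [HasFiniteColimits C] (k : ℕ)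
    (F : (SimplexCategory.Truncated k)ᵒᵖ ⥤ C) :
    (SimplexCategory.Truncated.inclusion k).op.HasPointwiseLeftKanExtension F := fun Y => by
  let J := CostructuredArrow (SimplexCategory.Truncated.inclusion k).op Y
  have : Finite J := Finite.of_injective
    (fun a => (⟨a.left.unop, a.hom.unop⟩ : Σ j : SimplexCategory.Truncated k, (Y.unop ⟶ j.obj)))
    fun a b h => by
      obtain ⟨⟨a⟩, ⟨⟩, ha⟩ := a
      obtain ⟨⟨b⟩, ⟨⟩, hb⟩ := b
      obtain ⟨rfl, h'⟩ := Sigma.mk.inj_iff.1 h
      exact congrArg _ (Quiver.Hom.unop_inj (eq_of_heq h'))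
  have : ∀ a b : J, Finite (a ⟶ b) := fun a b => Finite.of_injective (fun f => f.left.unop.hom) fun f g h =>
    CostructuredArrow.hom_ext _ _ (Quiver.Hom.unop_inj (InducedCategory.hom_ext h))
  letI : FinCategory J := { fintypeObj := Fintype.ofFinite J, fintypeHom := fun a b => Fintype.ofFinite _ }
  exact inferInstanceAs (HasColimit _)

variable (k : ℕ) [∀ F : (SimplexCategory.Truncated k)ᵒᵖ ⥤ A,
  (SimplexCategory.Truncated.inclusion k).op.HasLeftKanExtension F]

/-- Maps out of a skeleton are determined on the generating simplices. -/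
lemma sk_hom_ext (F : SimplicialObject.Truncated A k) {m : SimplexCategory} {Z : A}
    {a b : ((SimplicialObject.Truncated.sk k).obj F).obj (op m) ⟶ Z}
    (h : ∀ (i : SimplexCategory) (hi : i.len ≤ k) (θ : m ⟶ i),
      ((SimplicialObject.skAdj k).unit.app F).app (op ⟨i, hi⟩) ≫ ((SimplicialObject.Truncated.sk k).obj F).map θ.op ≫ a =
        ((SimplicialObject.skAdj k).unit.app F).app (op ⟨i, hi⟩) ≫ ((SimplicialObject.Truncated.sk k).obj F).map θ.op ≫ b) :
    a = b := by
  have : ((SimplicialObject.Truncated.sk k).obj F).IsLeftKanExtension (F := F)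
      (L := (SimplexCategory.Truncated.inclusion k).op) ((SimplicialObject.skAdj k).unit.app F) := by
    dsimp [SimplicialObject.skAdj, SimplicialObject.Truncated.sk]
    rw [Functor.lanAdjunction_unit]
    infer_instance
  refine (Functor.isPointwiseLeftKanExtensionOfIsLeftKanExtension (F := F) (L := (SimplexCategory.Truncated.inclusion k).op)
    ((SimplicialObject.Truncated.sk k).obj F) ((SimplicialObject.skAdj k).unit.app F) (op m)).hom_ext fun φ => ?_
  exact (Category.assoc _ _ _).trans ((h φ.left.unop.obj φ.left.unop.property φ.hom.unop).trans (Category.assoc _ _ _).symm)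

lemma sk_PInfty_eq_zero (F : SimplicialObject.Truncated A k) (m : ℕ) (hm : k < m) :
    (PInfty (X := (SimplicialObject.Truncated.sk k).obj F)).f m = 0 := by
  refine sk_hom_ext k F fun i hi θ => ?_
  have e := degeneracy_comp_PInfty ((SimplicialObject.Truncated.sk k).obj F) m θ (not_mono_of_len_lt θ (lt_of_le_of_lt hi hm))
  rw [comp_zero]
  exact (congrArg (_ ≫ ·) e).trans comp_zero |>.trans comp_zero.symm

lemma sk_objX_eq_bot (F : SimplicialObject.Truncated A k) (m : ℕ) (hm : k < m) :
    NormalizedMooreComplex.objX ((SimplicialObject.Truncated.sk k).obj F) m = ⊥ := by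
  refine le_bot_iff.1 (Mem.le_iff.2 fun T t ht => Mem.bot_iff.2 (eq_zero_of_normalized _ m ht ?_))
  rw [sk_PInfty_eq_zero k F m hm]
  exact comp_zero

end Groth.CatFib.SkAb
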