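import Groth.Agent.CategoryFibred.Clv
import Mathlib.CategoryTheory.FiberedCategory.Grothendieck
import Mathlib.CategoryTheory.Bicategory.Functor.LocallyDiscrete

/-!
# Split fibred categories and strict functors into `Cat`
-/

set_option autoImplicit false
set_option backward.isDefEq.respectTransparency false
set_option backward.isDefEq.respectTransparency.types false

open CategoryTheory CategoryTheory.Functor Opposite

universe v₁ v₂ v₃ u₁ u₂ u₃

namespace Groth.CatFib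

variable {𝒮 : Type u₁} [Category.{v₁} 𝒮]

section CoGroth

variable (F : 𝒮ᵒᵖ ⥤ Cat.{v₂, u₂})

lemma coGroth_eq_eqToHom {x y : Pseudofunctor.CoGrothendieck F.toPseudofunctor'} (φ : x ⟶ y)
    (hb : x.base = y.base) (h₁ : φ.base = eqToHom hb)
    (e : x.fiber = (F.toPseudofunctor'.map φ.base.op.toLoc).toFunctor.obj y.fiber)
    (h₂ : φ.fiber = eqToHom e) : ∃ h : x = y, φ = eqToHom h := by
  obtain ⟨R, a⟩ := x
  obtain ⟨S, b⟩ := y
  obtain ⟨f, γ⟩ := φ
  dsimp at hb h₁ e h₂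
  subst hb
  simp only [eqToHom_refl] at h₁
  subst h₁
  have ha : a = b := e.trans (congr($(F.map_id (op R)).toFunctor.obj b))
  subst ha
  subst h₂
  refine ⟨rfl, ?_⟩
  rw [eqToHom_refl]
  refine Pseudofunctor.CoGrothendieck.Hom.ext _ _ ?_ ?_
  · rfl
  change eqToHom e = _ ≫ 𝟙 _
  rw [Category.comp_id]
  show eqToHom e = (F.toPseudofunctor'.mapId ⟨op R⟩).inv.toNatTrans.app a
  simp [Cat.Hom₂.eqToHom_toNatTrans, eqToHom_app]

lemma coGroth_eq_lift_aux {R S : 𝒮} {a : F.toPseudofunctor'.obj ⟨op R⟩}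
    {b : F.toPseudofunctor'.obj ⟨op S⟩} (f : R ⟶ S)
    (e : a = (F.toPseudofunctor'.map f.op.toLoc).toFunctor.obj b) :
    ∃ h : (⟨R, a⟩ : Pseudofunctor.CoGrothendieck F.toPseudofunctor') =
        Pseudofunctor.CoGrothendieck.domainCartesianLift b f,
      (⟨f, eqToHom e⟩ : (⟨R, a⟩ : Pseudofunctor.CoGrothendieck F.toPseudofunctor') ⟶ ⟨S, b⟩) =
        eqToHom h ≫ Pseudofunctor.CoGrothendieck.cartesianLift b f := by
  subst e
  exact ⟨rfl, by rw [eqToHom_refl, eqToHom_refl, Category.id_comp]⟩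

lemma coGroth_eq_lift {x y : Pseudofunctor.CoGrothendieck F.toPseudofunctor'} (φ : x ⟶ y)
    (f : x.base ⟶ y.base) (h₁ : φ.base = f)
    (e : x.fiber = (F.toPseudofunctor'.map φ.base.op.toLoc).toFunctor.obj y.fiber)
    (h₂ : φ.fiber = eqToHom e) :
    ∃ h : x = Pseudofunctor.CoGrothendieck.domainCartesianLift y.fiber f,
      φ = eqToHom h ≫ Pseudofunctor.CoGrothendieck.cartesianLift y.fiber f := by
  subst h₁
  obtain ⟨R, a⟩ := x
  obtain ⟨S, b⟩ := y
  obtain ⟨f, γ⟩ := φ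
  dsimp at e h₂
  subst h₂
  exact coGroth_eq_lift_aux F f e

/-- The canonical cleavage of a strict functor is a splitting. -/
lemma isSplitting_ofCoGrothendieck :
    (FibCat.Cleavage.ofCoGrothendieck F.toPseudofunctor').IsSplitting := by
  constructor
  · intro S a ha
    obtain ⟨R, x⟩ := a
    change R = S at ha
    subst ha
    exact coGroth_eq_eqToHom F _ rfl (by simp [FibCat.Cleavage.ofCoGrothendieck]) rfl rfl
  · intro S T U f g a ha
    obtain ⟨R, x⟩ := a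
    change R = S at ha
    subst ha
    have key := coGroth_eq_lift F
      ((FibCat.Cleavage.ofCoGrothendieck F.toPseudofunctor').lift
          ((FibCat.Cleavage.ofCoGrothendieck F.toPseudofunctor').obj_proj
            (a := ⟨R, x⟩) rfl f) g ≫
        (FibCat.Cleavage.ofCoGrothendieck F.toPseudofunctor').lift
            (a := (⟨R, x⟩ : Pseudofunctor.CoGrothendieck F.toPseudofunctor')) rfl f)
      ((g ≫ f) ≫ eqToHom rfl)
    refine key ?_ ?_ ?_
    · simp [FibCat.Cleavage.ofCoGrothendieck]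
    · simp [FibCat.Cleavage.ofCoGrothendieck]
      show (F.map g.op).toFunctor.obj ((F.map (𝟙 (op R) ≫ f.op)).toFunctor.obj x) =
        (F.map (f.op ≫ g.op)).toFunctor.obj x
      simp
    · simp [FibCat.Cleavage.ofCoGrothendieck, Cat.Hom₂.eqToHom_toNatTrans, eqToHom_app]

end CoGroth

section Transfer

variable {𝒳 : Type u₂} [Category.{v₂} 𝒳] {𝒴 : Type u₃} [Category.{v₃} 𝒴] {q : 𝒴 ⥤ 𝒮}
  (K : FibCat.Cleavage q) {Φ : 𝒳 ⥤ 𝒴} {Ψ : 𝒴 ⥤ 𝒳} (h₁ : Φ ⋙ Ψ = 𝟭 𝒳) (h₂ : Ψ ⋙ Φ = 𝟭 𝒴)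

lemma cleavage_congr {R S : 𝒮} {a a' : 𝒴} (e : a' = a) (ha : q.obj a = S) (ha' : q.obj a' = S)
    (f : R ⟶ S) : ∃ h : K.obj ha' f = K.obj ha f,
      K.lift ha' f ≫ eqToHom e = eqToHom h ≫ K.lift ha f := by
  subst e
  exact ⟨rfl, by simp⟩

include h₁ h₂ in
/-- A splitting transfers along an isomorphism of categories. -/
lemma exists_splitting_of_iso (hK : K.IsSplitting) :
    ∃ L : FibCat.Cleavage (Φ ⋙ q), L.IsSplitting := by
  have eX : ∀ a, Ψ.obj (Φ.obj a) = a := fun a => congr($(h₁).obj a)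
  have eY : ∀ b, Φ.obj (Ψ.obj b) = b := fun b => congr($(h₂).obj b)
  have mX : ∀ {a a' : 𝒳} (φ : a ⟶ a'), Ψ.map (Φ.map φ) = eqToHom (eX a) ≫ φ ≫ eqToHom (eX a').symm :=
    fun φ => Functor.congr_hom h₁ φ
  have mY : ∀ {b b' : 𝒴} (φ : b ⟶ b'), Φ.map (Ψ.map φ) = eqToHom (eY b) ≫ φ ≫ eqToHom (eY b').symm :=
    fun φ => Functor.congr_hom h₂ φ
  have hinj : ∀ {a a' : 𝒳} (φ ψ : a ⟶ a'), Φ.map φ = Φ.map ψ → φ = ψ := by
    intro a a' φ ψ h
    have := congrArg (fun t => Ψ.map t) h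
    simpa [mX, cancel_epi, cancel_mono] using this
  have hΦ : ∀ {R S : 𝒮} {a : 𝒳} (ha : (Φ ⋙ q).obj a = S) (f : R ⟶ S),
      Φ.map (Ψ.map (K.lift (a := Φ.obj a) ha f) ≫ eqToHom (eX a)) =
        eqToHom (eY _) ≫ K.lift (a := Φ.obj a) ha f := by
    intro R S a ha f
    simp [mY, eqToHom_map]
  let L : FibCat.Cleavage (Φ ⋙ q) :=
    { obj := fun {R S a} ha f => Ψ.obj (K.obj (a := Φ.obj a) ha f)
      lift := fun {R S a} ha f => Ψ.map (K.lift (a := Φ.obj a) ha f) ≫ eqToHom (eX a)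
      isCartesian := fun {R S a} ha f => by
        have hl : q.IsHomLift f (Φ.map (Ψ.map (K.lift (a := Φ.obj a) ha f) ≫ eqToHom (eX a))) := by
          rw [hΦ]; infer_instance
        have : (Φ ⋙ q).IsHomLift f (Ψ.map (K.lift (a := Φ.obj a) ha f) ≫ eqToHom (eX a)) :=
          IsHomLift.of_fac' _ _ _ (IsHomLift.domain_eq q f (Φ.map (Ψ.map (K.lift (a := Φ.obj a) ha f) ≫ eqToHom (eX a)))) ha (IsHomLift.fac' q f (Φ.map (Ψ.map (K.lift (a := Φ.obj a) ha f) ≫ eqToHom (eX a))))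
        constructor
        intro b φ' hφ'
        have : q.IsHomLift f (Φ.map φ') := IsHomLift.of_fac' _ _ _
          (IsHomLift.domain_eq (Φ ⋙ q) f φ') ha (IsHomLift.fac' (Φ ⋙ q) f φ')
        let χ := IsCartesian.map q f (K.lift (a := Φ.obj a) ha f) (Φ.map φ')
        refine ⟨eqToHom (eX b).symm ≫ Ψ.map χ, ⟨?_, ?_⟩, ?_⟩
        · have : q.IsHomLift (𝟙 R) (Φ.map (eqToHom (eX b).symm ≫ Ψ.map χ)) := by
            simp only [Functor.map_comp, mY, eqToHom_map, eqToHom_trans_assoc]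
            infer_instance
          exact IsHomLift.of_fac' _ _ _ (IsHomLift.domain_eq (Φ ⋙ q) f φ')
            (IsHomLift.codomain_eq q (𝟙 R) (Φ.map (eqToHom (eX b).symm ≫ Ψ.map χ)))
            (IsHomLift.fac' q (𝟙 R) (Φ.map (eqToHom (eX b).symm ≫ Ψ.map χ)))
        · apply hinj
          rw [Functor.map_comp, hΦ]
          simp [mY, eqToHom_map, χ]
        · rintro χ' ⟨hχ', hfac⟩
          apply hinj
          have : q.IsHomLift (𝟙 R) (Φ.map χ') := IsHomLift.of_fac' _ _ _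
            (IsHomLift.domain_eq (Φ ⋙ q) f φ') (IsHomLift.codomain_eq (Φ ⋙ q) (𝟙 R) χ')
            (IsHomLift.fac' (Φ ⋙ q) (𝟙 R) χ')
          have h : Φ.map χ' ≫ eqToHom (eY _) = χ := by
            apply IsCartesian.map_uniq
            rw [Category.assoc, ← hΦ ha f, ← Functor.map_comp, hfac]
          simp [mY, eqToHom_map, ← h] }
  refine ⟨L, ?_, ?_⟩
  · intro S a ha
    obtain ⟨h, hh⟩ := hK.1 (show q.obj (Φ.obj a) = S from ha)
    refine ⟨(congrArg Ψ.obj h).trans (eX a), ?_⟩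
    change Ψ.map _ ≫ _ = _
    rw [hh, eqToHom_map, eqToHom_trans]
  · intro S T U f g a ha
    obtain ⟨h, hh⟩ := hK.2 f g (show q.obj (Φ.obj a) = S from ha)
    obtain ⟨h', hh'⟩ := cleavage_congr K (eY (K.obj (a := Φ.obj a) ha f)) (K.obj_proj ha f)
      (L.obj_proj ha f) g
    refine ⟨congrArg Ψ.obj (h'.trans h), ?_⟩
    change (Ψ.map _ ≫ eqToHom _) ≫ Ψ.map _ ≫ eqToHom _ = _ ≫ Ψ.map _ ≫ eqToHom _
    have e := congrArg (fun t => Ψ.map t)
      (show (K.lift (L.obj_proj ha f) g ≫ eqToHom (eY _)) ≫ K.lift (a := Φ.obj a) ha f =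
        eqToHom (h'.trans h) ≫ K.lift (a := Φ.obj a) ha (g ≫ f) by
        rw [hh', Category.assoc, hh, eqToHom_trans_assoc])
    simp only [Functor.map_comp, eqToHom_map, Category.assoc] at e
    simp only [Category.assoc]
    exact (reassoc_of% e) _

end Transfer

section ToStrict

variable {𝒳 : Type u₂} [Category.{v₂} 𝒳] {p : 𝒳 ⥤ 𝒮} (K : FibCat.Cleavage p)

lemma fiber_eqToHom_val' {U : 𝒮} {a b : p.Fiber U} (h : a = b) :
    (eqToHom h).1 = eqToHom (congrArg Subtype.val h) := by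
  subst h; rfl

variable (hK : K.IsSplitting)
include hK

lemma inverseImage_id (U : 𝒮) : K.inverseImage (𝟙 U) = 𝟭 (p.Fiber U) := by
  refine Functor.ext (fun a => Subtype.ext (hK.1 a.2).1) (fun a b φ => Subtype.ext ?_)
  obtain ⟨ha, ea⟩ := hK.1 a.2
  obtain ⟨hb, eb⟩ := hK.1 b.2
  have := inverseImage_map_lift K (𝟙 U) φ
  rw [ea, eb] at this
  change ((K.inverseImage (𝟙 U)).map φ).1 = _ ≫ φ.1 ≫ _
  rw [fiber_eqToHom_val', fiber_eqToHom_val']
  refine (cancel_mono (eqToHom hb)).1 (this.trans ?_)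
  simp
  rfl

lemma inverseImage_comp {R S T : 𝒮} (f : T ⟶ S) (g : R ⟶ T) :
    K.inverseImage (g ≫ f) = K.inverseImage f ⋙ K.inverseImage g := by
  refine Functor.ext (fun a => Subtype.ext (hK.2 f g a.2).1.symm) (fun a b φ => ?_)
  apply fiber_hom_ext_lift K (g ≫ f) (a := b)
  obtain ⟨ha, ea⟩ := hK.2 f g a.2
  obtain ⟨hb, eb⟩ := hK.2 f g b.2
  have e1 := inverseImage_map_lift K (g ≫ f) φ
  have e2 := inverseImage_map_lift K g ((K.inverseImage f).map φ)
  have e3 := inverseImage_map_lift K f φ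
  rw [e1]
  change _ = (_ ≫ ((K.inverseImage g).map ((K.inverseImage f).map φ)).1 ≫ _) ≫ _
  rw [fiber_eqToHom_val', fiber_eqToHom_val']
  simp only [Category.assoc]
  refine Eq.symm ((congr(_ ≫ _ ≫ $(eb.symm))).trans ?_)
  exact congr(_ ≫ $((reassoc_of% e2) _)).trans (congr(_ ≫ _ ≫ $e3).trans (congr(_ ≫ $((reassoc_of% ea) _)).trans (by simp)))

/-- The strict functor of a splitting. -/
noncomputable def splitFun : 𝒮ᵒᵖ ⥤ Cat.{v₂, u₂} where
  obj U := Cat.of (p.Fiber U.unop)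
  map f := (K.inverseImage f.unop).toCatHom
  map_id U := Cat.Hom.ext (inverseImage_id K hK U.unop)
  map_comp f g := Cat.Hom.ext (inverseImage_comp K hK f.unop g.unop)

omit hK in
lemma cat_inv_val' {U V : 𝒮} {H H' : Cat.of (p.Fiber U) ⟶ Cat.of (p.Fiber V)} (h : H = H')
    (x : p.Fiber U) :
    ((eqToIso h).inv.toNatTrans.app x).1 =
      eqToHom (congrArg (fun L : Cat.of (p.Fiber U) ⟶ Cat.of (p.Fiber V) =>
        (L.toFunctor.obj x).1) h).symm := by
  subst h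
  rfl

theorem exists_iso_coGrothendieck [p.IsFibered] :
    ∃ (F : 𝒮ᵒᵖ ⥤ Cat.{v₂, u₂})
      (Φ : 𝒳 ⥤ Pseudofunctor.CoGrothendieck F.toPseudofunctor')
      (Ψ : Pseudofunctor.CoGrothendieck F.toPseudofunctor' ⥤ 𝒳),
      Φ ⋙ Ψ = 𝟭 𝒳 ∧ Ψ ⋙ Φ = 𝟭 _ ∧
        Φ ⋙ Pseudofunctor.CoGrothendieck.forget F.toPseudofunctor' = p := by
  let G := Pseudofunctor.CoGrothendieck (splitFun K hK).toPseudofunctor'
  let val : ∀ {a b : G} (φ : a ⟶ b), (a.fiber : p.Fiber a.base).1 ⟶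
      K.obj (b.fiber : p.Fiber b.base).2 φ.base :=
    fun {a b} φ => (φ.fiber : @Quiver.Hom (p.Fiber a.base) _ a.fiber
      ((K.inverseImage φ.base).obj b.fiber)).1
  have hval : ∀ {a b : G} (φ : a ⟶ b), p.IsHomLift (𝟙 a.base) (val φ) :=
    fun {a b} φ => (φ.fiber : @Quiver.Hom (p.Fiber a.base) _ a.fiber
      ((K.inverseImage φ.base).obj b.fiber)).2
  let Ψ : G ⥤ 𝒳 :=
    { obj := fun a => (a.fiber : p.Fiber a.base).1
      map := fun {a b} φ => val φ ≫ K.lift (b.fiber : p.Fiber b.base).2 φ.base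
      map_id := fun a => by
        obtain ⟨h, e⟩ := hK.1 (a.fiber : p.Fiber a.base).2
        have e' : val (𝟙 a) = eqToHom h.symm := cat_inv_val' (p := p) _ a.fiber
        rw [e']
        exact (congr(_ ≫ $e)).trans (by simp)
      map_comp := fun {a b c} φ χ => by
        obtain ⟨h, e⟩ := hK.2 χ.base φ.base (c.fiber : p.Fiber c.base).2
        have e' : val (φ ≫ χ) = val φ ≫ ((K.inverseImage φ.base).map
            (χ.fiber : @Quiver.Hom (p.Fiber b.base) _ b.fiber ((K.inverseImage χ.base).obj c.fiber))).1 ≫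
              eqToHom h :=
          congrArg (fun t => val φ ≫ ((K.inverseImage φ.base).map
            (χ.fiber : @Quiver.Hom (p.Fiber b.base) _ b.fiber ((K.inverseImage χ.base).obj c.fiber))).1 ≫ t)
            (cat_inv_val' (p := p) _ c.fiber)
        have e2 := inverseImage_map_lift K φ.base
          (χ.fiber : @Quiver.Hom (p.Fiber b.base) _ b.fiber ((K.inverseImage χ.base).obj c.fiber))
        rw [e']
        simp only [Category.assoc]
        refine congr(val φ ≫ $(?_))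
        refine (congr(_ ≫ $(e.symm))).trans ?_
        exact (reassoc_of% e2) _ }
  let Φf : ∀ {x y : 𝒳} (φ : x ⟶ y), @Quiver.Hom (p.Fiber (p.obj x)) _ ⟨x, rfl⟩
      ((K.inverseImage (p.map φ)).obj ⟨y, rfl⟩) :=
    fun {x y} φ => Fiber.homMk p (p.obj x)
      (IsCartesian.map p (p.map φ) (K.lift (rfl : p.obj y = _) (p.map φ)) φ)
  have hfac : ∀ {x y : 𝒳} (φ : x ⟶ y),
      (Φf φ).1 ≫ K.lift (rfl : p.obj y = _) (p.map φ) = φ :=
    fun {x y} φ => IsCartesian.fac p (p.map φ) (K.lift (rfl : p.obj y = _) (p.map φ)) φ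
  have hΨ : Ψ.Faithful := ⟨fun {a b} φ χ h => by
    change val φ ≫ _ = val χ ≫ _ at h
    have h1 := hval φ
    have h2 := hval χ
    have hb : φ.base = χ.base := by
      have l1 : p.IsHomLift φ.base (val φ ≫ K.lift (b.fiber : p.Fiber b.base).2 φ.base) :=
        inferInstance
      have l2 : p.IsHomLift χ.base (val χ ≫ K.lift (b.fiber : p.Fiber b.base).2 χ.base) :=
        inferInstance
      have e1 := IsHomLift.fac p φ.base (val φ ≫ K.lift (b.fiber : p.Fiber b.base).2 φ.base)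
      have e2 := IsHomLift.fac p χ.base (val χ ≫ K.lift (b.fiber : p.Fiber b.base).2 χ.base)
      rw [e1, e2]
      exact congr(_ ≫ p.map $h ≫ _)
    obtain ⟨fφ, cφ⟩ := φ
    obtain ⟨fχ, cχ⟩ := χ
    change fφ = fχ at hb
    subst hb
    obtain rfl : cφ = cχ := Subtype.ext
      (IsCartesian.ext p fφ (K.lift (b.fiber : p.Fiber b.base).2 fφ) (val ⟨fφ, cφ⟩) (val ⟨fφ, cχ⟩) h)
    rfl⟩
  let Φ : 𝒳 ⥤ G :=
    { obj := fun x => ⟨p.obj x, (⟨x, rfl⟩ : p.Fiber (p.obj x))⟩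
      map := fun φ => ⟨p.map φ, Φf φ⟩
      map_id := fun x => Ψ.map_injective ((hfac (𝟙 x)).trans (Ψ.map_id (⟨p.obj x, (⟨x, rfl⟩ : p.Fiber (p.obj x))⟩ : G)).symm)
      map_comp := fun {x y z} φ χ => Ψ.map_injective
        ((hfac (φ ≫ χ)).trans (congr($((hfac φ).symm) ≫ $((hfac χ).symm)).trans
          (Ψ.map_comp (X := (⟨p.obj x, (⟨x, rfl⟩ : p.Fiber (p.obj x))⟩ : G))
            (Y := (⟨p.obj y, (⟨y, rfl⟩ : p.Fiber (p.obj y))⟩ : G))
            (Z := (⟨p.obj z, (⟨z, rfl⟩ : p.Fiber (p.obj z))⟩ : G))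
            ⟨p.map φ, Φf φ⟩ ⟨p.map χ, Φf χ⟩).symm)) }
  have hΦΨ : Φ ⋙ Ψ = 𝟭 𝒳 := Functor.ext (fun x => rfl) (fun x y φ => by
    simp only [eqToHom_refl, Category.id_comp, Category.comp_id]
    exact hfac φ)
  refine ⟨splitFun K hK, Φ, Ψ, hΦΨ, ?_, rfl⟩
  refine Functor.ext (fun a => ?_) (fun a b φ => Ψ.map_injective ?_)
  · have : ∀ (U : 𝒮) (x : p.Fiber U), (⟨p.obj x.1, (⟨x.1, rfl⟩ : p.Fiber (p.obj x.1))⟩ : G) = ⟨U, x⟩ := by
      rintro U ⟨x, rfl⟩; rfl
    exact this a.base a.fiber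
  · rw [Functor.map_comp, Functor.map_comp, eqToHom_map, eqToHom_map]
    refine (hfac (Ψ.map φ)).trans ?_
    simp

end ToStrict

end Groth.CatFib
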