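import Groth.Agent.CategoryFibred.Eval
import Groth.Agent.CategoryFibred.EquivOver
import Groth.Agent.CategoryFibred.Fiberwise
import Mathlib.CategoryTheory.FiberedCategory.Grothendieck
import Mathlib.CategoryTheory.Bicategory.Functor.LocallyDiscrete

/-!
# Strictification of a fibred category: the split category of cartesian sections over slices
-/

set_option autoImplicit false
set_option backward.isDefEq.respectTransparency false
set_option backward.isDefEq.respectTransparency.types false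

open CategoryTheory CategoryTheory.Functor Groth.StkBase

universe v u

namespace Groth.CatFib

variable {C : Type u} [Category.{v} C] (𝒳 : BasedCategory.{v, max u v} C)

/-- Cartesian based functors out of a slice. -/
def StrObj (U : C) : Type (max u v) :=
  {G : FibCat.overCat U ⥤ᵇ 𝒳 // FibCat.PreservesStronglyCartesian G}

/-- Value at the identity. -/
def strEval (U : C) (G : StrObj 𝒳 U) : 𝒳.p.Fiber U :=
  ⟨G.1.toFunctor.obj (idObj U), G.1.w_obj (idObj U)⟩

/-- The strict fibre over `U`. -/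
abbrev StrFib (U : C) : Type (max u v) := InducedCategory (𝒳.p.Fiber U) (strEval 𝒳 U)

variable {𝒳}

lemma preserves_overPostMap {U V : C} (f : V ⟶ U) :
    FibCat.PreservesStronglyCartesian (overPostMap f) :=
  preservesStronglyCartesian_of_isFibGrpd _ (isFibSet_overForget U).1

lemma preserves_overPostMap_comp {U V : C} (f : V ⟶ U) (G : StrObj 𝒳 U) :
    FibCat.PreservesStronglyCartesian (BasedFunctor.comp (overPostMap f) G.1) :=
  fun _ _ g _ _ φ h => G.2 g _ (preserves_overPostMap f g φ h)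

/-- Restriction of a cartesian functor. -/
def strPullObj {U V : C} (f : V ⟶ U) (G : StrObj 𝒳 U) : StrObj 𝒳 V :=
  ⟨BasedFunctor.comp (overPostMap f) G.1, preserves_overPostMap_comp f G⟩

section

variable {U : C} {G G' G'' : StrFib 𝒳 U}

/-- The transformation of a morphism of the strict fibre. -/
noncomputable def strNat (ψ : G ⟶ G') :
    (show StrObj 𝒳 U from G).1 ⟶ (show StrObj 𝒳 U from G').1 :=
  (eval_exists (show StrObj 𝒳 U from G').2 ψ.hom.1 ψ.hom.2).choose

lemma strNat_app (ψ : G ⟶ G') : (strNat ψ).toNatTrans.app (idObj U) = ψ.hom.1 :=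
  (eval_exists (show StrObj 𝒳 U from G').2 ψ.hom.1 ψ.hom.2).choose_spec

lemma strNat_id (G : StrFib 𝒳 U) : strNat (𝟙 G) = 𝟙 _ :=
  eval_ext (show StrObj 𝒳 U from G).2 ((strNat_app (𝟙 G)).trans rfl)

lemma strNat_comp (ψ : G ⟶ G') (χ : G' ⟶ G'') : strNat (ψ ≫ χ) = strNat ψ ≫ strNat χ := by
  refine eval_ext (show StrObj 𝒳 U from G'').2 ((strNat_app (ψ ≫ χ)).trans ?_)
  show ψ.hom.1 ≫ χ.hom.1 = (strNat ψ).toNatTrans.app _ ≫ (strNat χ).toNatTrans.app _
  rw [strNat_app, strNat_app]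

lemma strNat_natural (ψ : G ⟶ G') {g g' : (FibCat.overCat U).obj} (a : g ⟶ g') :
    (show StrObj 𝒳 U from G).1.toFunctor.map a ≫ (strNat ψ).toNatTrans.app g' =
      (strNat ψ).toNatTrans.app g ≫ (show StrObj 𝒳 U from G').1.toFunctor.map a :=
  (strNat ψ).toNatTrans.naturality a

lemma strNat_congr (ψ : G ⟶ G') {g g' : (FibCat.overCat U).obj} (h : g = g') :
    (strNat ψ).toNatTrans.app g = eqToHom (by subst h; rfl) ≫ (strNat ψ).toNatTrans.app g' ≫
      eqToHom (by subst h; rfl) := by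
  subst h
  simp

end

variable (𝒳)

/-- The strict restriction functor. -/
noncomputable def strPull {U V : C} (f : V ⟶ U) : StrFib 𝒳 U ⥤ StrFib 𝒳 V where
  obj G := strPullObj f G
  map {G G'} ψ := InducedCategory.homMk
    ⟨(strNat ψ).toNatTrans.app ((Over.map f).obj (idObj V)), ((strNat ψ).isHomLift' ((Over.map f).obj (idObj V)) : )⟩
  map_id G := InducedCategory.hom_ext (Subtype.ext (by
    show (strNat (𝟙 G)).toNatTrans.app _ = _
    rw [strNat_id]; rfl))
  map_comp {G G' G''} ψ χ := InducedCategory.hom_ext (Subtype.ext (by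
    show (strNat (ψ ≫ χ)).toNatTrans.app _ = _
    rw [strNat_comp]; rfl))

variable {𝒳}

lemma strPull_map_val {U V : C} (f : V ⟶ U) {G G' : StrFib 𝒳 U} (ψ : G ⟶ G') :
    ((strPull 𝒳 f).map ψ).hom.1 = (strNat ψ).toNatTrans.app ((Over.map f).obj (idObj V)) := rfl

lemma strNat_pull {U V : C} (f : V ⟶ U) {G G' : StrFib 𝒳 U} (ψ : G ⟶ G') (h : (FibCat.overCat V).obj) :
    (strNat ((strPull 𝒳 f).map ψ)).toNatTrans.app h =
      (strNat ψ).toNatTrans.app ((Over.map f).obj h) := by
  have : strNat ((strPull 𝒳 f).map ψ) = BasedCategory.whiskerLeft (overPostMap f) (strNat ψ) :=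
    eval_ext (preserves_overPostMap_comp f _) ((strNat_app _).trans (strPull_map_val f ψ))
  rw [this]
  rfl

lemma fiber_eqToHom_val {p : 𝒳.obj ⥤ C} {U : C} {a b : p.Fiber U} (h : a = b) :
    (eqToHom h).1 = eqToHom (congrArg Subtype.val h) := by
  subst h; rfl

lemma strFib_eqToHom_val {U : C} {a b : StrFib 𝒳 U} (h : a = b) :
    (eqToHom h).hom.1 = eqToHom (congrArg (fun c => (strEval 𝒳 U c).1) h) := by
  subst h; rfl

lemma strFib_comp_val {U : C} {a b c : StrFib 𝒳 U} (φ : a ⟶ b) (ψ : b ⟶ c) :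
    (φ ≫ ψ).hom.1 = φ.hom.1 ≫ ψ.hom.1 := rfl

lemma basedFunctor_ext' {𝒴 𝒵 : BasedCategory.{v, max u v} C} {F G : 𝒴 ⥤ᵇ 𝒵}
    (h : F.toFunctor = G.toFunctor) : F = G := by
  cases F; cases G; cases h; rfl

lemma strPullObj_comp {U V W : C} (f : V ⟶ U) (g : W ⟶ V) (G : StrObj 𝒳 U) :
    strPullObj g (strPullObj f G) = strPullObj (g ≫ f) G := by
  apply Subtype.ext
  apply basedFunctor_ext'
  show Over.map g ⋙ Over.map f ⋙ G.1.toFunctor = Over.map (g ≫ f) ⋙ G.1.toFunctor
  rw [Over.mapComp_eq g f, Functor.assoc]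

lemma strPullObj_id {U : C} (G : StrObj 𝒳 U) : strPullObj (𝟙 U) G = G := by
  apply Subtype.ext
  apply basedFunctor_ext'
  show Over.map (𝟙 U) ⋙ G.1.toFunctor = G.1.toFunctor
  rw [Over.mapId_eq]
  rfl

variable (𝒳)

/-- The strict functor of cartesian sections. -/
noncomputable def strFun : Cᵒᵖ ⥤ Cat.{v, max u v} where
  obj U := Cat.of (StrFib 𝒳 U.unop)
  map f := (strPull 𝒳 f.unop).toCatHom
  map_id U := by
    apply Cat.Hom.ext
    refine Functor.ext (fun G => strPullObj_id G) (fun G G' ψ => ?_)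
    apply InducedCategory.hom_ext
    apply Subtype.ext
    show (strNat ψ).toNatTrans.app ((Over.map (𝟙 U.unop)).obj (idObj U.unop)) = _
    rw [strFib_comp_val, strFib_comp_val, strFib_eqToHom_val, strFib_eqToHom_val,
      strNat_congr ψ (congr($(Over.mapId_eq U.unop).obj (idObj U.unop)))]
    exact congr(_ ≫ $(strNat_app ψ) ≫ _)
  map_comp {U V W} f g := by
    apply Cat.Hom.ext
    refine Functor.ext (fun G => (strPullObj_comp f.unop g.unop G).symm) (fun G G' ψ => ?_)
    apply InducedCategory.hom_ext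
    apply Subtype.ext
    show (strNat ψ).toNatTrans.app ((Over.map (g.unop ≫ f.unop)).obj (idObj W.unop)) = _
    rw [strFib_comp_val, strFib_comp_val, strFib_eqToHom_val, strFib_eqToHom_val,
      strNat_congr ψ (congr($(Over.mapComp_eq g.unop f.unop).obj (idObj W.unop)))]
    exact congr(_ ≫ $((strNat_pull f.unop ψ _).symm) ≫ _)

/-- The split category. -/
abbrev Strictified : Type (max u v) :=
  Pseudofunctor.CoGrothendieck (strFun 𝒳).toPseudofunctor'

/-- The structure functor of the split category. -/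
noncomputable abbrev strForget : Strictified 𝒳 ⥤ C :=
  Pseudofunctor.CoGrothendieck.forget (strFun 𝒳).toPseudofunctor'

variable {𝒳}

/-- The cartesian functor underlying an object of the split category. -/
abbrev strSec (a : Strictified 𝒳) : StrObj 𝒳 a.base := a.fiber

/-- The fibre component of a morphism, as a morphism of the strict fibre. -/
abbrev strComp {a b : Strictified 𝒳} (φ : a ⟶ b) :
    @Quiver.Hom (StrFib 𝒳 a.base) _ (strSec a) (strPullObj φ.base (strSec b)) := φ.fiber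

lemma cat_inv_val {U V : C} {H K : Cat.of (StrFib 𝒳 U) ⟶ Cat.of (StrFib 𝒳 V)} (h : H = K)
    (x : StrFib 𝒳 U) :
    ((eqToIso h).inv.toNatTrans.app x).hom.1 =
      eqToHom (congrArg (fun L : Cat.of (StrFib 𝒳 U) ⟶ Cat.of (StrFib 𝒳 V) =>
        (strEval 𝒳 V (L.toFunctor.obj x)).1) h).symm := by
  subst h
  rfl

/-- The structure map `(f^* G)(id) ⟶ G(id)`. -/
noncomputable def strArrow {U V : C} (f : V ⟶ U) (G : StrObj 𝒳 U) :
    (strEval 𝒳 V (strPullObj f G)).1 ⟶ (strEval 𝒳 U G).1 :=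
  G.1.toFunctor.map (toId ((Over.map f).obj (idObj V)))

lemma strArrow_isStronglyCartesian {U V : C} (f : V ⟶ U) (G : StrObj 𝒳 U) :
    𝒳.p.IsStronglyCartesian f (strArrow f G) := by
  have h := isStronglyCartesian_toId ((Over.map f).obj (idObj V))
  have h' := G.2 _ _ h
  have e : ((Over.map f).obj (idObj V)).hom = f := Category.id_comp f
  exact (show ∀ k : V ⟶ U, k = f → 𝒳.p.IsStronglyCartesian k (strArrow f G) →
    𝒳.p.IsStronglyCartesian f (strArrow f G) from fun k e h => e ▸ h) _ e h'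

lemma overCat_eqToHom_left {U : C} {g g' : (FibCat.overCat U).obj} (h : g = g') :
    Over.Hom.left (eqToHom h) = eqToHom (congrArg (fun k : (FibCat.overCat U).obj => k.left) h) := by
  subst h; rfl

variable (𝒳)

/-- Evaluation of the split category. -/
noncomputable def strP :
    BasedCategory.ofFunctor (strForget 𝒳) ⥤ᵇ 𝒳 where
  toFunctor :=
    { obj := fun a => (strEval 𝒳 a.base (strSec a)).1
      map := fun {a b} φ => (strComp φ).hom.1 ≫ strArrow φ.base (strSec b)
      map_id := fun a => by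
        show (strComp (𝟙 a)).hom.1 ≫ (strSec a).1.toFunctor.map _ = _
        have e : (strComp (𝟙 a)).hom.1 =
            (strSec a).1.toFunctor.map (eqToHom (congr($(Over.mapId_eq a.base).obj (idObj a.base))).symm) := by
          refine (cat_inv_val (𝒳 := 𝒳) _ (strSec a)).trans ?_
          rw [eqToHom_map]
        rw [e, ← (strSec a).1.toFunctor.map_comp]
        refine Eq.trans ?_ ((strSec a).1.toFunctor.map_id _)
        refine congrArg _ (Over.OverMorphism.ext ?_)
        erw [overCat_comp_left, overCat_eqToHom_left]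
        simp [idObj]
        rfl
      map_comp := fun {a b c} φ χ => by
        show (strComp (φ ≫ χ)).hom.1 ≫ (strSec c).1.toFunctor.map _ =
          ((strComp φ).hom.1 ≫ (strSec b).1.toFunctor.map _) ≫
            (strComp χ).hom.1 ≫ (strSec c).1.toFunctor.map _
        have e : (strComp (φ ≫ χ)).hom.1 = (strComp φ).hom.1 ≫
            (strNat (strComp χ)).toNatTrans.app ((Over.map φ.base).obj (idObj a.base)) ≫
            (strSec c).1.toFunctor.map (eqToHom (congr($(Over.mapComp_eq φ.base χ.base).obj (idObj a.base))).symm) := by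
          refine congr((strComp φ).hom.1 ≫ _ ≫ $(?_))
          refine (cat_inv_val (𝒳 := 𝒳) _ (strSec c)).trans ?_
          rw [eqToHom_map]
        have hn := strNat_natural (strComp χ) (toId ((Over.map φ.base).obj (idObj a.base)))
        rw [strNat_app] at hn
        rw [e]
        simp only [Category.assoc]
        rw [reassoc_of% hn]
        refine congr(_ ≫ _ ≫ $(?_))
        show (strSec c).1.toFunctor.map _ ≫ _ =
          (strSec c).1.toFunctor.map ((Over.map χ.base).map (toId _)) ≫ _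
        rw [← Functor.map_comp, ← Functor.map_comp]
        refine congrArg _ (Over.OverMorphism.ext ?_)
        erw [overCat_comp_left, overCat_comp_left, overCat_eqToHom_left]
        simp [idObj]
        rfl }
  w := by
    refine Functor.ext (fun a => (strEval 𝒳 a.base (strSec a)).2) (fun a b φ => ?_)
    have := strArrow_isStronglyCartesian φ.base (strSec b)
    have := (strComp φ).hom.2
    have h : 𝒳.p.IsHomLift φ.base ((strComp φ).hom.1 ≫ strArrow φ.base (strSec b)) :=
      IsHomLift.comp_lift_id_left' 𝒳.p a.base _ φ.base _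
    exact IsHomLift.fac' 𝒳.p φ.base ((strComp φ).hom.1 ≫ strArrow φ.base (strSec b))

instance strP_faithful : (strP 𝒳).toFunctor.Faithful := by
  refine ⟨fun {a b} φ ψ h => ?_⟩
  change (strComp φ).hom.1 ≫ strArrow φ.base (strSec b) =
    (strComp ψ).hom.1 ≫ strArrow ψ.base (strSec b) at h
  obtain ⟨fφ, cφ⟩ := φ
  obtain ⟨fψ, cψ⟩ := ψ
  have hb : fφ = fψ := by
    have h1 := congrArg 𝒳.p.map h
    have := strArrow_isStronglyCartesian fφ (strSec b)
    have := strArrow_isStronglyCartesian fψ (strSec b)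
    let cφ' : @Quiver.Hom (StrFib 𝒳 a.base) _ (strSec a) (strPullObj fφ (strSec b)) := cφ
    let cψ' : @Quiver.Hom (StrFib 𝒳 a.base) _ (strSec a) (strPullObj fψ (strSec b)) := cψ
    have := cφ'.hom.2
    have := cψ'.hom.2
    have l1 : 𝒳.p.IsHomLift fφ (cφ'.hom.1 ≫ strArrow fφ (strSec b)) :=
      IsHomLift.comp_lift_id_left' 𝒳.p a.base _ fφ _
    have l2 : 𝒳.p.IsHomLift fψ (cψ'.hom.1 ≫ strArrow fψ (strSec b)) :=
      IsHomLift.comp_lift_id_left' 𝒳.p a.base _ fψ _
    have e1 := IsHomLift.fac' 𝒳.p fφ (cφ'.hom.1 ≫ strArrow fφ (strSec b))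
    have e2 := IsHomLift.fac' 𝒳.p fψ (cψ'.hom.1 ≫ strArrow fψ (strSec b))
    have e3 := e1.symm.trans (h1.trans e2)
    simpa [cancel_epi, cancel_mono] using e3
  subst hb
  let cφ' : @Quiver.Hom (StrFib 𝒳 a.base) _ (strSec a) (strPullObj fφ (strSec b)) := cφ
  let cψ' : @Quiver.Hom (StrFib 𝒳 a.base) _ (strSec a) (strPullObj fφ (strSec b)) := cψ
  have := strArrow_isStronglyCartesian fφ (strSec b)
  have := cφ'.hom.2
  have := cψ'.hom.2
  have e : cφ'.hom.1 = cψ'.hom.1 :=
    IsStronglyCartesian.ext 𝒳.p fφ (strArrow fφ (strSec b)) (𝟙 a.base) h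
  obtain rfl : cφ = cψ := InducedCategory.hom_ext (Subtype.ext e)
  rfl

instance strP_full : (strP 𝒳).toFunctor.Full := by
  refine ⟨fun {a b} ρ => ?_⟩
  let f : a.base ⟶ b.base := eqToHom (strEval 𝒳 a.base (strSec a)).2.symm ≫
    𝒳.p.map (show (strEval 𝒳 a.base (strSec a)).1 ⟶ (strEval 𝒳 b.base (strSec b)).1 from ρ) ≫
    eqToHom (strEval 𝒳 b.base (strSec b)).2
  have hl : 𝒳.p.IsHomLift f (show (strEval 𝒳 a.base (strSec a)).1 ⟶ (strEval 𝒳 b.base (strSec b)).1 from ρ) :=
    IsHomLift.of_fac 𝒳.p f _ (strEval 𝒳 a.base (strSec a)).2 (strEval 𝒳 b.base (strSec b)).2 rfl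
  have := strArrow_isStronglyCartesian f (strSec b)
  obtain ⟨c, ⟨hc, hc'⟩, -⟩ := IsStronglyCartesian.universal_property 𝒳.p f (strArrow f (strSec b))
    (𝟙 a.base) f (Category.id_comp f).symm (show (strEval 𝒳 a.base (strSec a)).1 ⟶ (strEval 𝒳 b.base (strSec b)).1 from ρ)
  exact ⟨⟨f, InducedCategory.homMk ⟨c, hc⟩⟩, hc'⟩

lemma isEquivOver_strP [𝒳.p.IsFibered] : FibCat.IsEquivOver (strP 𝒳) := by
  refine isEquivOver_of_fullyFaithful _ (fun η => ?_)
  obtain ⟨⟨G, hG⟩, ⟨i⟩⟩ : ∃ (G : StrObj 𝒳 (𝒳.p.obj η)),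
      Nonempty (strEval 𝒳 _ G ≅ (⟨η, rfl⟩ : 𝒳.p.Fiber (𝒳.p.obj η))) := by
    have := eval_essSurj (𝒳 := 𝒳) (U := 𝒳.p.obj η)
    let Φ := (ObjectProperty.ι (FibCat.PreservesStronglyCartesian (𝒳 := FibCat.overCat (𝒳.p.obj η)) (𝒴 := 𝒳))) ⋙
      FibCat.evalAtId 𝒳 (𝒳.p.obj η)
    exact ⟨⟨(Φ.objPreimage ⟨η, rfl⟩).obj, (Φ.objPreimage ⟨η, rfl⟩).property⟩, ⟨Φ.objObjPreimageIso _⟩⟩
  exact ⟨⟨𝒳.p.obj η, ⟨G, hG⟩⟩, Fiber.fiberInclusion.mapIso i, i.hom.2⟩

lemma exists_split : ∀ [𝒳.p.IsFibered], ∃ (E : 𝒳 ⥤ᵇ BasedCategory.ofFunctor (strForget 𝒳)),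
    FibCat.IsEquivOver E := fun {_} =>
  IsEquivOver.symm' (isEquivOver_strP 𝒳)

lemma isGroupoid_strFun (h : FibCat.IsFibGrpd 𝒳.p) (U : Cᵒᵖ) : IsGroupoid ((strFun 𝒳).obj U) := by
  refine ⟨fun {a b} φ => ?_⟩
  let φ' : (show StrFib 𝒳 U.unop from a) ⟶ (show StrFib 𝒳 U.unop from b) := φ
  have := (isGroupoid_fiber h U.unop).all_isIso φ'.hom
  have : IsIso ((inducedFunctor (strEval 𝒳 U.unop)).map φ') := this
  exact isIso_of_reflects_iso φ' (inducedFunctor _)

end Groth.CatFib
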