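import Mathlib.Algebra.Category.ModuleCat.Abelian
import Mathlib.Algebra.Category.ModuleCat.ChangeOfRings
import Mathlib.Algebra.Category.ModuleCat.EpiMono
import Mathlib.Algebra.Homology.ShortComplex.ModuleCat
import Mathlib.Analysis.Complex.Polynomial.Basic
import Mathlib.Analysis.Normed.Group.InfiniteSum
import Mathlib.LinearAlgebra.Eigenspace.Charpoly
import Mathlib.LinearAlgebra.Trace

/-!
Traces of the action of `X` on `ℂ[X]`-modules which are finite-dimensional over `ℂ`: additivity, bounds by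
eigenvalues, behaviour under homology.
-/

set_option autoImplicit false

universe u

open CategoryTheory CategoryTheory.Limits

namespace Groth.CatFib.XTrace

/-- The underlying complex vector space of a `ℂ[X]`-module, as a functor. -/
noncomputable abbrev R : ModuleCat.{u} (Polynomial ℂ) ⥤ ModuleCat.{u} ℂ :=
  ModuleCat.restrictScalars (algebraMap ℂ (Polynomial ℂ))

/-- Multiplication by `X` as a linear endomorphism of the underlying vector space. -/
noncomputable abbrev Φ (M : ModuleCat.{u} (Polynomial ℂ)) : R.obj M →ₗ[ℂ] R.obj M :=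
  (R.map ((Polynomial.X : Polynomial ℂ) • 𝟙 M)).hom

/-- The trace of the multiplication by `X`. -/
noncomputable abbrev tr (M : ModuleCat.{u} (Polynomial ℂ)) : ℂ := LinearMap.trace ℂ _ (Φ M)

/-- The complex dimension. -/
noncomputable abbrev dim (M : ModuleCat.{u} (Polynomial ℂ)) : ℕ := Module.finrank ℂ (R.obj M)

/-- Finite-dimensionality over `ℂ`. -/
abbrev Fd (M : ModuleCat.{u} (Polynomial ℂ)) : Prop := Module.Finite ℂ (R.obj M)

variable {A B C M M' : ModuleCat.{u} (Polynomial ℂ)}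

lemma nat (f : A ⟶ B) : (R.map f).hom ∘ₗ Φ A = Φ B ∘ₗ (R.map f).hom := by
  rw [← ModuleCat.hom_comp, ← ModuleCat.hom_comp, ← Functor.map_comp, ← Functor.map_comp]
  simp

lemma injective_map (f : A ⟶ B) [Mono f] : Function.Injective (R.map f).hom :=
  (ModuleCat.mono_iff_injective f).1 inferInstance

lemma surjective_map (f : A ⟶ B) [Epi f] : Function.Surjective (R.map f).hom :=
  (ModuleCat.epi_iff_surjective f).1 inferInstance

lemma fd_mono (f : A ⟶ B) [Mono f] (h : Fd B) : Fd A :=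
  have := h
  Module.Finite.of_injective (R.map f).hom (injective_map f)

lemma fd_epi (f : A ⟶ B) [Epi f] (h : Fd A) : Fd B :=
  have := h
  Module.Finite.of_surjective (R.map f).hom (surjective_map f)

lemma dim_mono (f : A ⟶ B) [Mono f] (h : Fd B) : dim A ≤ dim B :=
  have := h
  LinearMap.finrank_le_finrank_of_injective (injective_map f)

lemma dim_epi (f : A ⟶ B) [Epi f] (h : Fd A) : dim B ≤ dim A :=
  have := h
  LinearMap.finrank_le_finrank_of_surjective (surjective_map f)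

lemma fd_zero (h : IsZero M) : Fd M :=
  have := ModuleCat.subsingleton_of_isZero h
  have : Subsingleton (R.obj M) := inferInstanceAs (Subsingleton M)
  inferInstance

lemma tr_zero (h : IsZero M) : tr M = 0 := by
  have := ModuleCat.subsingleton_of_isZero h
  have : Subsingleton (R.obj M) := inferInstanceAs (Subsingleton M)
  have e : Φ M = 0 := LinearMap.ext fun x => Subsingleton.elim _ _
  rw [tr, e, map_zero]

lemma tr_iso (e : A ≅ B) (h : Fd A) : tr A = tr B := by
  have := h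
  have := fd_epi e.hom h
  have h₁ : Φ B ∘ₗ (R.map e.hom).hom ∘ₗ (R.map e.inv).hom = Φ B := by
    rw [← ModuleCat.hom_comp, ← Functor.map_comp, e.inv_hom_id, R.map_id]
    exact LinearMap.comp_id _
  have h₂ : (R.map e.inv).hom ∘ₗ Φ B ∘ₗ (R.map e.hom).hom = Φ A := by
    rw [← nat e.hom, ← LinearMap.comp_assoc, ← ModuleCat.hom_comp, ← Functor.map_comp, e.hom_inv_id, R.map_id]
    exact LinearMap.id_comp _
  rw [tr, tr, ← h₂]
  conv_rhs => rw [← h₁, ← LinearMap.comp_assoc, LinearMap.trace_comp_comm']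

/-- A short exact sequence with finite-dimensional ends is finite-dimensional in the middle, and the trace is
additive on it. -/
lemma ses {S : ShortComplex (ModuleCat.{u} (Polynomial ℂ))} (hS : S.ShortExact) (h₁ : Fd S.X₁) (h₃ : Fd S.X₃) :
    Fd S.X₂ ∧ tr S.X₂ = tr S.X₁ + tr S.X₃ := by
  have := h₁
  have := h₃
  have := hS.mono_f
  have := hS.epi_g
  let i := (R.map S.f).hom
  let p := (R.map S.g).hom
  have hex : ∀ x, p x = 0 ↔ x ∈ Set.range i := fun x =>
    (ShortComplex.ShortExact.moduleCat_exact_iff_function_exact S).1 hS.exact x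
  obtain ⟨r, hr⟩ := i.exists_leftInverse_of_injective (LinearMap.ker_eq_bot.2 (injective_map S.f))
  obtain ⟨s₀, hs₀⟩ := p.exists_rightInverse_of_surjective (LinearMap.range_eq_top.2 (surjective_map S.g))
  let s := s₀ - i ∘ₗ r ∘ₗ s₀
  have hri : ∀ a, r (i a) = a := fun a => DFunLike.congr_fun hr a
  have hpi : ∀ a, p (i a) = 0 := fun a => (hex _).2 ⟨a, rfl⟩
  have hps : ∀ c, p (s c) = c := fun c => by
    simp only [s, LinearMap.sub_apply, LinearMap.comp_apply, map_sub, hpi, sub_zero]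
    exact DFunLike.congr_fun hs₀ c
  have hrs : ∀ c, r (s c) = 0 := fun c => by
    simp only [s, LinearMap.sub_apply, LinearMap.comp_apply, map_sub, hri, sub_self]
  have hsum : ∀ x, i (r x) + s (p x) = x := fun x => by
    obtain ⟨a, ha⟩ := (hex (x - i (r x) - s (p x))).1 (by simp only [map_sub, hpi, hps, sub_zero, sub_self])
    have : a = 0 := by
      have := congrArg r ha
      simpa only [map_sub, hri, hrs, sub_zero, sub_self] using this
    rw [this, map_zero, sub_sub, eq_comm, sub_eq_zero] at ha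
    exact ha.symm
  have hfd : Fd S.X₂ :=
    Module.Finite.of_surjective (LinearMap.coprod i s) fun x => ⟨(r x, p x), hsum x⟩
  have := hfd
  refine ⟨hfd, ?_⟩
  have e : Φ S.X₂ = (Φ S.X₂ ∘ₗ i) ∘ₗ r + (Φ S.X₂ ∘ₗ s) ∘ₗ p :=
    LinearMap.ext fun x => by
      simp only [LinearMap.add_apply, LinearMap.comp_apply]
      rw [← map_add, hsum]
  have e₁ : r ∘ₗ Φ S.X₂ ∘ₗ i = Φ S.X₁ := LinearMap.ext fun a => by
    have := DFunLike.congr_fun (nat S.f) a
    simp only [LinearMap.comp_apply] at this ⊢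
    rw [show i a = (R.map S.f).hom a from rfl, ← this]
    exact hri _
  have e₂ : p ∘ₗ Φ S.X₂ ∘ₗ s = Φ S.X₃ := LinearMap.ext fun c => by
    have := DFunLike.congr_fun (nat S.g) (s c)
    simp only [LinearMap.comp_apply] at this ⊢
    rw [show p (Φ S.X₂ (s c)) = (R.map S.g).hom (Φ S.X₂ (s c)) from rfl, this]
    exact congrArg _ (hps c)
  rw [tr, e, map_add, LinearMap.trace_comp_comm' r (Φ S.X₂ ∘ₗ i),
    LinearMap.trace_comp_comm' p (Φ S.X₂ ∘ₗ s), e₁, e₂]

/-- All eigenvalues of the multiplication by `X` have norm at most `β`. -/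
def EigLe (M : ModuleCat.{u} (Polynomial ℂ)) (β : ℝ) : Prop :=
  ∀ μ : ℂ, Module.End.HasEigenvalue (Φ M) μ → ‖μ‖ ≤ β

lemma eigLe_mono (f : A ⟶ B) [Mono f] {β : ℝ} (h : EigLe B β) : EigLe A β := by
  intro μ hμ
  obtain ⟨v, hv⟩ := hμ.exists_hasEigenvector
  refine h μ (Module.End.hasEigenvalue_of_hasEigenvector (x := (R.map f).hom v) ⟨?_, ?_⟩)
  · rw [Module.End.mem_eigenspace_iff, ← map_smul, ← hv.apply_eq_smul]
    exact (DFunLike.congr_fun (nat f) v).symm
  · exact fun e => hv.2 (injective_map f (e.trans (map_zero _).symm))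

lemma eigLe_epi (f : A ⟶ B) [Epi f] (hA : Fd A) {β : ℝ} (h : EigLe A β) : EigLe B β := by
  intro μ hμ
  have := hA
  have := fd_epi f hA
  obtain ⟨v, hv⟩ := hμ.exists_hasEigenvector
  by_contra hβ
  have hinj : Function.Injective (Φ A - μ • (LinearMap.id : R.obj A →ₗ[ℂ] R.obj A)) := by
    rw [← LinearMap.ker_eq_bot, Submodule.eq_bot_iff]
    intro w hw
    by_contra hw0
    refine hβ (h μ (Module.End.hasEigenvalue_of_hasEigenvector (x := w) ⟨?_, hw0⟩))
    rw [Module.End.mem_eigenspace_iff]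
    simpa [sub_eq_zero] using hw
  have hsurj : Function.Surjective (Φ B - μ • (LinearMap.id : R.obj B →ₗ[ℂ] R.obj B)) := fun y => by
    obtain ⟨x, rfl⟩ := surjective_map f y
    obtain ⟨w, rfl⟩ := LinearMap.surjective_of_injective hinj x
    refine ⟨(R.map f).hom w, ?_⟩
    have := DFunLike.congr_fun (nat f) w
    simp only [LinearMap.comp_apply] at this
    simp only [LinearMap.sub_apply, LinearMap.smul_apply, LinearMap.id_apply, map_sub, map_smul, this]
  refine hv.2 (LinearMap.injective_iff_surjective.2 hsurj ?_)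
  rw [map_zero, LinearMap.sub_apply, hv.apply_eq_smul]
  simp

lemma norm_tr_le (h : Fd M) {β : ℝ} (hβ : EigLe M β) : ‖tr M‖ ≤ dim M * β := by
  have := h
  have hs := IsAlgClosed.splits (LinearMap.charpoly (Φ M))
  rw [tr, Module.End.trace_eq_sum_roots_charpoly_of_splits hs]
  refine (norm_multiset_sum_le _).trans ?_
  refine (Multiset.sum_le_card_nsmul _ β ?_).trans (le_of_eq ?_)
  · simp only [Multiset.mem_map]
    rintro _ ⟨μ, hμ, rfl⟩
    exact hβ μ ((Module.End.hasEigenvalue_iff_isRoot_charpoly _ μ).2 (Polynomial.isRoot_of_mem_roots hμ))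
  · rw [Multiset.card_map, hs.natDegree_eq_card_roots.symm, LinearMap.charpoly_natDegree, nsmul_eq_mul]

/-- The trace on the coimage of a morphism. -/
noncomputable abbrev ctr (f : A ⟶ B) : ℂ := tr (Abelian.coimage f)

lemma shortExact_coim (f : A ⟶ B) :
    (ShortComplex.mk (kernel.ι f) (cokernel.π (kernel.ι f)) (cokernel.condition _)).ShortExact :=
  { exact := ShortComplex.exact_of_g_is_cokernel _ (cokernelIsCokernel _) }

lemma tr_eq_ker_add_ctr (f : A ⟶ B) (h : Fd A) : tr A = tr (kernel f) + ctr f :=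
  (ses (shortExact_coim f) (fd_mono (kernel.ι f) h) (fd_epi (cokernel.π (kernel.ι f)) h)).2

/-- The Euler characteristic of one position of a complex. -/
lemma tr_homology (S : ShortComplex (ModuleCat.{u} (Polynomial ℂ))) (h₁ : Fd S.X₁) (h₂ : Fd S.X₂) :
    tr S.X₂ = tr S.homology + ctr S.g + ctr S.f := by
  have hc : Fd S.cycles := fd_mono S.iCycles h₂
  have e₂ := tr_eq_ker_add_ctr S.g h₂
  rw [← tr_iso S.cyclesIsoKernel hc] at e₂
  let e : cokernel S.toCycles ≅ S.homology :=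
    (cokernelIsCokernel S.toCycles).coconePointUniqueUpToIso S.homologyIsCokernel
  have eh : tr (cokernel S.toCycles) = tr S.homology := tr_iso e (fd_epi (cokernel.π _) hc)
  have hexact : (ShortComplex.mk (kernel.ι (cokernel.π S.toCycles)) (cokernel.π S.toCycles)
      (kernel.condition _)).ShortExact :=
    { exact := ShortComplex.exact_of_f_is_kernel _ (kernelIsKernel _) }
  have e₃ := (ses hexact (fd_mono (kernel.ι _) hc) (fd_epi (cokernel.π _) hc)).2
  dsimp only at e₃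
  have hcoim : Fd (Abelian.coimage S.toCycles) := fd_epi (cokernel.π _) h₁
  rw [eh, ← tr_iso (Abelian.coimageIsoImage S.toCycles) hcoim] at e₃
  have e₄ := tr_eq_ker_add_ctr S.f h₁
  have e₅ := tr_eq_ker_add_ctr S.toCycles h₁
  have e₆ : tr (kernel S.f) = tr (kernel S.toCycles) :=
    tr_iso (kernelIsoOfEq S.toCycles_i.symm ≪≫ kernelCompMono S.toCycles S.iCycles) (fd_mono (kernel.ι _) h₁)
  linear_combination e₂ + e₃ - e₅ + e₄ + e₆

lemma fd_homology (S : ShortComplex (ModuleCat.{u} (Polynomial ℂ))) (h₂ : Fd S.X₂) : Fd S.homology :=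
  fd_epi S.homologyπ (fd_mono S.iCycles h₂)

lemma dim_homology (S : ShortComplex (ModuleCat.{u} (Polynomial ℂ))) (h₂ : Fd S.X₂) : dim S.homology ≤ dim S.X₂ :=
  (dim_epi S.homologyπ (fd_mono S.iCycles h₂)).trans (dim_mono S.iCycles h₂)

lemma eigLe_homology (S : ShortComplex (ModuleCat.{u} (Polynomial ℂ))) (h₂ : Fd S.X₂) {β : ℝ} (h : EigLe S.X₂ β) :
    EigLe S.homology β :=
  eigLe_epi S.homologyπ (fd_mono S.iCycles h₂) (eigLe_mono S.iCycles h)

section Family

variable (N : ℕ) (a c : ℕ → ℝ) (b d : ℕ → ℕ)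

/-- A family indexed by `ℤ × ℤ` satisfies the boundedness condition. -/
structure Bd (X : ℤ × ℤ → ModuleCat.{u} (Polynomial ℂ)) : Prop where
  quad : ∀ pq : ℤ × ℤ, pq.1 < 0 ∨ pq.2 < 0 → IsZero (X pq)
  fd : ∀ pq, Fd (X pq)
  high : ∀ p q : ℕ, N < q → IsZero (X ((p : ℤ), (q : ℤ)))
  eig : ∀ p q : ℕ, EigLe (X ((p : ℤ), (q : ℤ))) (a q * c p)
  dim_le : ∀ p q : ℕ, dim (X ((p : ℤ), (q : ℤ))) ≤ b q * d p

/-- The majorant of the traces. -/
noncomputable def maj (pq : ℕ × ℕ) : ℝ :=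
  (c pq.1 * (d pq.1 : ℝ)) * if pq.2 ≤ N then a pq.2 * (b pq.2 : ℝ) else 0

variable {N a c b d}

lemma summable_maj (ha : ∀ q, 0 ≤ a q) (hc : ∀ p, 0 ≤ c p) (hsum : Summable fun p : ℕ => c p * (d p : ℝ)) :
    Summable (maj N a c b d) := by
  refine Summable.mul_of_nonneg (g := fun q => if q ≤ N then a q * (b q : ℝ) else 0) hsum ?_
    (fun p => mul_nonneg (hc p) (Nat.cast_nonneg _))
    (fun q => ?_)
  · exact summable_of_ne_finset_zero (s := Finset.range (N + 1)) fun q hq => if_neg (by simpa using hq)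
  · simp only [Pi.zero_apply]
    split_ifs
    · exact mul_nonneg (ha q) (Nat.cast_nonneg _)
    · exact le_rfl

lemma Bd.norm_tr_le {X : ℤ × ℤ → ModuleCat.{u} (Polynomial ℂ)} (hX : Bd N a c b d X) (ha : ∀ q, 0 ≤ a q)
    (hc : ∀ p, 0 ≤ c p) (p q : ℕ) : ‖tr (X ((p : ℤ), (q : ℤ)))‖ ≤ maj N a c b d (p, q) := by
  unfold maj
  split_ifs with h
  · refine (XTrace.norm_tr_le (hX.fd _) (hX.eig p q)).trans ?_
    calc (dim (X ((p : ℤ), (q : ℤ))) : ℝ) * (a q * c p) ≤ ((b q * d p : ℕ) : ℝ) * (a q * c p) :=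
          mul_le_mul_of_nonneg_right (Nat.cast_le.2 (hX.dim_le p q)) (mul_nonneg (ha q) (hc p))
      _ = (c p * (d p : ℝ)) * (a q * (b q : ℝ)) := by push_cast; ring
  · rw [tr_zero (hX.high p q (not_le.1 h)), norm_zero, mul_zero]

lemma Bd.of_iso {X Y : ℤ × ℤ → ModuleCat.{u} (Polynomial ℂ)} (hX : Bd N a c b d X) (e : ∀ pq, X pq ≅ Y pq) :
    Bd N a c b d Y where
  quad pq h := (hX.quad pq h).of_iso (e pq).symm
  fd pq := fd_epi (e pq).hom (hX.fd pq)
  high p q h := (hX.high p q h).of_iso (e _).symm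
  eig p q := eigLe_mono (e _).inv (hX.eig p q)
  dim_le p q := (dim_mono (e _).inv (hX.fd _)).trans (hX.dim_le p q)

/-- Subquotients of a bounded family are bounded. -/
lemma Bd.of_epi {X Y : ℤ × ℤ → ModuleCat.{u} (Polynomial ℂ)} (hX : Bd N a c b d X) (f : ∀ pq, X pq ⟶ Y pq)
    [∀ pq, Epi (f pq)] : Bd N a c b d Y where
  quad pq h := IsZero.of_epi (f pq) (hX.quad pq h)
  fd pq := fd_epi (f pq) (hX.fd pq)
  high p q h := IsZero.of_epi (f _) (hX.high p q h)
  eig p q := eigLe_epi (f _) (hX.fd _) (hX.eig p q)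
  dim_le p q := (dim_epi (f _) (hX.fd _)).trans (hX.dim_le p q)

lemma Bd.of_mono {X Y : ℤ × ℤ → ModuleCat.{u} (Polynomial ℂ)} (hX : Bd N a c b d X) (f : ∀ pq, Y pq ⟶ X pq)
    [∀ pq, Mono (f pq)] : Bd N a c b d Y where
  quad pq h := IsZero.of_mono (f pq) (hX.quad pq h)
  fd pq := fd_mono (f pq) (hX.fd pq)
  high p q h := IsZero.of_mono (f _) (hX.high p q h)
  eig p q := eigLe_mono (f _) (hX.eig p q)
  dim_le p q := (dim_mono (f _) (hX.fd _)).trans (hX.dim_le p q)

/-- The signed trace at a position. -/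
noncomputable def str (X : ℤ × ℤ → ModuleCat.{u} (Polynomial ℂ)) (pq : ℤ × ℤ) : ℂ :=
  (-1 : ℂ) ^ (pq.1 + pq.2) * tr (X pq)

lemma natCast_prod_injective : Function.Injective fun pq : ℕ × ℕ => ((pq.1 : ℤ), (pq.2 : ℤ)) := fun _ _ h =>
  Prod.ext (by simpa using congrArg Prod.fst h) (by simpa using congrArg Prod.snd h)

lemma Bd.str_eq_zero {X : ℤ × ℤ → ModuleCat.{u} (Polynomial ℂ)} (hX : Bd N a c b d X) {pq : ℤ × ℤ}
    (h : pq ∉ Set.range fun pq : ℕ × ℕ => ((pq.1 : ℤ), (pq.2 : ℤ))) : str X pq = 0 := by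
  rw [str, tr_zero (hX.quad pq ?_), mul_zero]
  by_contra hq
  exact h ⟨(pq.1.toNat, pq.2.toNat), Prod.ext (show ((pq.1.toNat : ℕ) : ℤ) = pq.1 by omega)
    (show ((pq.2.toNat : ℕ) : ℤ) = pq.2 by omega)⟩

lemma str_natCast (X : ℤ × ℤ → ModuleCat.{u} (Polynomial ℂ)) (p q : ℕ) :
    str X ((p : ℤ), (q : ℤ)) = (-1 : ℂ) ^ (p + q) * tr (X ((p : ℤ), (q : ℤ))) := by
  rw [str, ← Nat.cast_add, zpow_natCast]

lemma Bd.summable_str {X : ℤ × ℤ → ModuleCat.{u} (Polynomial ℂ)} (hX : Bd N a c b d X) (ha : ∀ q, 0 ≤ a q)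
    (hc : ∀ p, 0 ≤ c p) (hsum : Summable fun p : ℕ => c p * (d p : ℝ)) : Summable (str X) := by
  refine (Function.Injective.summable_iff natCast_prod_injective fun _ h => hX.str_eq_zero h).1 ?_
  refine Summable.of_norm_bounded (summable_maj (b := b) (N := N) ha hc hsum) fun pq => ?_
  refine le_of_eq_of_le ?_ (hX.norm_tr_le ha hc pq.1 pq.2)
  simp [str_natCast]

lemma Bd.tsum_str {X : ℤ × ℤ → ModuleCat.{u} (Polynomial ℂ)} (hX : Bd N a c b d X) :
    ∑' pq, str X pq = ∑' pq : ℕ × ℕ, (-1 : ℂ) ^ (pq.1 + pq.2) * tr (X ((pq.1 : ℤ), (pq.2 : ℤ))) := by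
  rw [← natCast_prod_injective.tsum_eq fun pq h => by
    by_contra h'
    exact h (hX.str_eq_zero h')]
  exact tsum_congr fun pq => str_natCast X pq.1 pq.2

end Family

end Groth.CatFib.XTrace
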